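import Groth.Agent.CAlgH.DecayNoeth

/-!
Adically free modules over complete local rings.
-/

namespace CAlgH.Decay

open W4c5adicflatcompl

universe u v

variable {A : Type u} [CommRing A] (I : Ideal A)

/-- Transport a linear equivalence to decaying functions. -/
def congrDec (Z : Type*) {M N : Type*} [AddCommGroup M] [Module A M] [AddCommGroup N] [Module A N]
    (e : M ≃ₗ[A] N) : decaying I Z M ≃ₗ[A] decaying I Z N where
  toFun f := ⟨_, comp_mem_decaying I (fun _ => e.toLinearMap) f⟩
  invFun f := ⟨_, comp_mem_decaying I (fun _ => e.symm.toLinearMap) f⟩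
  map_add' f g := Subtype.ext (funext fun z => map_add e _ _)
  map_smul' a f := Subtype.ext (funext fun z => map_smul e a _)
  left_inv f := Subtype.ext (funext fun z => e.symm_apply_apply _)
  right_inv f := Subtype.ext (funext fun z => e.apply_symm_apply _)

theorem isAdicComplete_of_equiv {M N : Type*} [AddCommGroup M] [Module A M] [AddCommGroup N]
    [Module A N] (e : M ≃ₗ[A] N) [IsAdicComplete I M] : IsAdicComplete I N where
  toIsHausdorff := ⟨fun x hx => by
    have : e.symm x = 0 := eq_zero_of_forall_mem I fun n =>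
      map_mem_pow I e.symm.toLinearMap (SModEq.zero.1 (hx n))
    exact e.symm.map_eq_zero_iff.1 this⟩
  toIsPrecomplete := ⟨fun f hf => by
    obtain ⟨L, hL⟩ := IsPrecomplete.prec (inferInstance : IsPrecomplete I M)
      (f := fun n => e.symm (f n)) (fun {m n} hmn => SModEq.sub_mem.2 (by
        simpa using map_mem_pow I e.symm.toLinearMap (SModEq.sub_mem.1 (hf hmn))))
    exact ⟨e L, fun n => SModEq.sub_mem.2 (by
      simpa using map_mem_pow I e.toLinearMap (SModEq.sub_mem.1 (hL n)))⟩⟩

theorem isAdicComplete_of_pow_smul_eq_bot {M : Type*} [AddCommGroup M] [Module A M] (N : ℕ)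
    (h : (I ^ N • ⊤ : Submodule A M) = ⊥) : IsAdicComplete I M where
  toIsHausdorff := ⟨fun x hx => by simpa [h] using SModEq.zero.1 (hx N)⟩
  toIsPrecomplete := ⟨fun f hf => ⟨f N, fun n => by
    rcases le_total n N with hn | hn
    · exact hf hn
    · have : f N = f n := by simpa [h, SModEq.sub_mem, sub_eq_zero] using hf hn
      rw [this]⟩⟩

/-- A "basis" of a module killed by a maximal ideal. -/
theorem exists_residue_basis {V : Type v} [AddCommGroup V] [Module A V] (m : Ideal A) [m.IsMaximal]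
    (h : ∀ a ∈ m, ∀ x : V, a • x = 0) :
    ∃ (Z : Type v) (b : Z → V), Submodule.span A (Set.range b) = ⊤ ∧
      ∀ (S : Finset Z) (c : Z → A), ∑ z ∈ S, c z • b z = 0 → ∀ z ∈ S, c z ∈ m := by
  letI : Module (A ⧸ m) V :=
    Module.IsTorsionBySet.module (M := V) (I := m) (fun x a => h a a.2 x)
  letI := Ideal.Quotient.field m
  have hsmul : ∀ (a : A) (x : V), Ideal.Quotient.mk m a • x = a • x := fun a x => rfl
  obtain ⟨s, ⟨b⟩⟩ := Module.Basis.exists_basis (A ⧸ m) V
  refine ⟨s, b, ?_, fun S c hc z hz => ?_⟩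
  · rw [eq_top_iff]
    intro x _
    rw [← b.linearCombination_repr x, Finsupp.linearCombination_apply]
    refine Submodule.sum_mem _ fun z _ => ?_
    obtain ⟨a, ha⟩ := Ideal.Quotient.mk_surjective (b.repr x z)
    dsimp only
    rw [← ha, hsmul]
    exact Submodule.smul_mem _ _ (Submodule.subset_span ⟨z, rfl⟩)
  · exact Ideal.Quotient.eq_zero_iff_mem.1 <|
      linearIndependent_iff'.1 b.linearIndependent S (fun z => Ideal.Quotient.mk m (c z))
        (by simpa only [hsmul] using hc) z hz

/-- If the rows of a matrix are independent modulo `m`, a vector annihilated by it modulo `m ^ N`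
lies in `m ^ N`. -/
theorem coeff_mem_pow (m : Ideal A) [m.IsMaximal] {ι κ : Type*} [Fintype ι] [Fintype κ]
    (C : ι → κ → A) (hC : ∀ c : ι → A, (∀ l, ∑ i, c i * C i l ∈ m) → ∀ i, c i ∈ m)
    (N : ℕ) (g : ι → A) (hg : ∀ l, ∑ i, g i * C i l ∈ m ^ N) (i : ι) : g i ∈ m ^ N := by
  classical
  letI := Ideal.Quotient.field m
  let F : (ι → A ⧸ m) →ₗ[A ⧸ m] (κ → A ⧸ m) :=
    Fintype.linearCombination (A ⧸ m) (fun i l => Ideal.Quotient.mk m (C i l))
  have hF : LinearMap.ker F = ⊥ := by
    rw [LinearMap.ker_eq_bot']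
    intro x hx
    choose c hc using fun i => Ideal.Quotient.mk_surjective (x i)
    have : ∀ i, c i ∈ m := hC c fun l => by
      rw [← Ideal.Quotient.eq_zero_iff_mem, map_sum]
      simpa [F, Fintype.linearCombination_apply, Finset.sum_apply, ← hc] using congrFun hx l
    funext i
    rw [← hc i, Ideal.Quotient.eq_zero_iff_mem.2 (this i), Pi.zero_apply]
  obtain ⟨L, hL⟩ := F.exists_leftInverse_of_injective hF
  choose E hE using fun l i => Ideal.Quotient.mk_surjective (L (Pi.single l 1) i)
  have hCE : ∀ j i', (∑ l, C j l * E l i') - (if i' = j then 1 else 0) ∈ m := by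
    intro j i'
    rw [← Ideal.Quotient.eq_zero_iff_mem, map_sub, map_sum]
    have h1 := congrFun (LinearMap.congr_fun hL (Pi.single j 1)) i'
    rw [LinearMap.comp_apply, LinearMap.id_apply] at h1
    simp only [F, Fintype.linearCombination_apply_single, one_smul] at h1
    rw [pi_eq_sum_univ' (fun l => Ideal.Quotient.mk m (C j l)), map_sum] at h1
    simp only [map_smul, Finset.sum_apply, Pi.smul_apply, smul_eq_mul] at h1
    simp only [map_mul, hE]
    rw [h1]
    split_ifs with h <;> simp [h, Pi.single_apply]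
  suffices ∀ k ≤ N, ∀ i, g i ∈ m ^ k from this N le_rfl i
  intro k hk
  induction k with
  | zero => simp
  | succ k ih =>
    intro i
    have h1 : ∑ j, g j * (∑ l, C j l * E l i) ∈ m ^ (k + 1) := by
      simp only [Finset.mul_sum, ← mul_assoc]
      rw [Finset.sum_comm]
      simp only [← Finset.sum_mul]
      exact Ideal.sum_mem _ fun l _ =>
        Ideal.mul_mem_right _ _ (Ideal.pow_le_pow_right hk (hg l))
    have h2 : ∑ j, g j * ((∑ l, C j l * E l i) - (if i = j then 1 else 0)) ∈ m ^ (k + 1) := by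
      rw [pow_succ]
      exact Ideal.sum_mem _ fun j _ =>
        Ideal.mul_mem_mul (ih (Nat.le_of_succ_le hk) j) (hCE j i)
    simpa [mul_sub, Finset.sum_sub_distrib] using Ideal.sub_mem _ h1 h2

/-- Coefficients of a combination of lifts of a residual basis of a flat module. -/
theorem coeff_mem_of_flat (m : Ideal A) [m.IsMaximal] {M : Type*} [AddCommGroup M] [Module A M]
    [Module.Flat A M] {Z : Type*} (v : Z → M)
    (hv : ∀ (S : Finset Z) (c : Z → A), ∑ z ∈ S, c z • v z ∈ (m • ⊤ : Submodule A M) →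
      ∀ z ∈ S, c z ∈ m)
    {N : ℕ} (hfg : (m ^ N).FG) (S : Finset Z) (g : Z → A)
    (hg : ∑ z ∈ S, g z • v z ∈ (m ^ N • ⊤ : Submodule A M)) : ∀ z ∈ S, g z ∈ m ^ N := by
  classical
  obtain ⟨s, hs⟩ := hfg
  obtain ⟨y, -, hy⟩ := exists_coeff s ⊤ (x := ∑ z ∈ S, g z • v z)
    (by rw [show Ideal.span (s : Set A) = m ^ N from hs]; exact hg)
  have hrel : ∑ i : ↥S ⊕ ↥s, Sum.elim (fun z => g z.1) (fun a => -a.1) i •
      Sum.elim (fun z : ↥S => v z.1) (fun a => y a.1) i = 0 := by
    simp only [Fintype.sum_sum_type, Sum.elim_inl, Sum.elim_inr, neg_smul, Finset.sum_neg_distrib]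
    rw [Finset.sum_coe_sort S (fun z => g z • v z), Finset.sum_coe_sort s (fun a => a • y a), hy]
    exact add_neg_cancel _
  obtain ⟨l, a, w, hw, ha⟩ := Module.Flat.isTrivialRelation_of_sum_smul_eq_zero hrel
  have hC : ∀ c : ↥S → A, (∀ j, ∑ i, c i * a (Sum.inl i) j ∈ m) → ∀ i, c i ∈ m := by
    intro c hc i
    have h := hv S (fun z => if h : z ∈ S then c ⟨z, h⟩ else 0) ?_ i i.2
    · simpa using h
    rw [← Finset.sum_coe_sort S]
    have : ∀ i : ↥S, v i.1 = ∑ j, a (Sum.inl i) j • w j := fun i => hw (Sum.inl i)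
    simp only [Finset.coe_mem, dite_true, Subtype.coe_eta, this, Finset.smul_sum, smul_smul]
    rw [Finset.sum_comm]
    simp only [← Finset.sum_smul]
    exact Submodule.sum_mem _ fun j _ => Submodule.smul_mem_smul (hc j) Submodule.mem_top
  intro z hz
  refine coeff_mem_pow m (fun (i : ↥S) j => a (Sum.inl i) j) hC N (fun i => g i.1) (fun j => ?_) ⟨z, hz⟩
  have h1 := ha j
  rw [Fintype.sum_sum_type] at h1
  simp only [Sum.elim_inl, Sum.elim_inr] at h1
  rw [eq_neg_of_add_eq_zero_left h1]
  refine Submodule.neg_mem _ (Ideal.sum_mem _ fun b _ => Ideal.mul_mem_right _ _ ?_)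
  exact Submodule.neg_mem _ (hs ▸ Submodule.subset_span b.2)

end CAlgH.Decay
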