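import Mathlib
import Groth.Agent.CAlgReg.Serre

/-! Vasconcelos: an ideal of finite projective dimension with free conormal module is generated by a regular sequence. -/

open IsLocalRing CategoryTheory TensorProduct RingTheory.Sequence
open Groth.Agent.CAlgReg
open scoped Pointwise

namespace Groth.Agent.CAlgH.Vasconcelos

universe u

theorem exists_coset_notMem {R : Type u} [CommRing R] (P : Finset (Ideal R)) (hP : ∀ q ∈ P, q.IsPrime)
    (J : Ideal R) : ∀ x : R, (∀ q ∈ P, x ∈ q → ¬ J ≤ q) → ∃ z ∈ J, ∀ q ∈ P, x + z ∉ q := by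
  classical
  intro x hx
  let M := P.filter fun q => ∀ q' ∈ P, q ≤ q' → q = q'
  have hMP : ∀ q ∈ M, q ∈ P := fun q hq => (Finset.mem_filter.mp hq).1
  let s := M.filter fun q => x ∈ q
  let t := M.filter fun q => x ∉ q
  let T : Ideal R := J * ∏ q ∈ t, q
  have hT : ¬ ((T : Set R) ⊆ ⋃ q ∈ (s : Set (Ideal R)), (q : Set R)) := by
    intro h
    obtain ⟨q, hq, hle⟩ := (Ideal.subset_union_prime_finite s.finite_toSet ⊥ ⊥
      (fun q hq _ _ => hP q (hMP q (Finset.mem_filter.mp hq).1))).mp h
    obtain ⟨hqM, hxq⟩ := Finset.mem_filter.mp hq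
    have hqp := hP q (hMP q hqM)
    rcases (Ideal.IsPrime.mul_le hqp).mp hle with h1 | h1
    · exact hx q (hMP q hqM) hxq h1
    · obtain ⟨q', hq', hle'⟩ := (Ideal.IsPrime.prod_le hqp).mp h1
      obtain ⟨hq'M, hxq'⟩ := Finset.mem_filter.mp hq'
      exact hxq' ((Finset.mem_filter.mp hq'M).2 q (hMP q hqM) hle' ▸ hxq)
  obtain ⟨z, hzT, hz⟩ := Set.not_subset.mp hT
  refine ⟨z, Ideal.mul_le_left hzT, fun q hq hmem => ?_⟩
  obtain ⟨m, hqm, hm⟩ := P.finite_toSet.exists_le_maximal hq
  have hmM : m ∈ M := Finset.mem_filter.mpr ⟨hm.1, fun q' hq' hle => le_antisymm hle (hm.2 hq' hle)⟩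
  have hmem' := hqm hmem
  by_cases hxm : x ∈ m
  · exact hz (Set.mem_biUnion (Finset.mem_filter.mpr ⟨hmM, hxm⟩)
      (show z ∈ m by simpa using sub_mem hmem' hxm))
  · have hzm : z ∈ m := by
      have := Ideal.mul_le_left.trans (le_refl _) hzT
      exact Ideal.prod_le_inf.trans (Finset.inf_le (Finset.mem_filter.mpr ⟨hmM, hxm⟩)) (Ideal.mul_le_right hzT)
    exact hxm (by simpa using sub_mem hmem' hzm)

variable {R : Type u} [CommRing R] [IsNoetherianRing R]

/-- If a coordinate functional of the conormal module is surjective, the ideal is not contained in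
an associated prime. -/
theorem not_le_of_mem_associatedPrimes (I : Ideal R) (n : ℕ) (hpd : PdLT R I (n + 1))
    (φ : I →ₗ[R] R ⧸ I) (y : I) (hy : φ y = 1) {q : Ideal R} (hq : q ∈ associatedPrimes R R) : ¬ I ≤ q := by
  intro hIq
  have := hq.isPrime
  let L := Localization.AtPrime q
  let J := I.map (algebraMap R L)
  let ι : I →ₗ[R] J := Algebra.idealMap I (S := L)
  have hbc := IsLocalizedModule.isBaseChange q.primeCompl L ι
  have hJpd : PdLT L J (n + 1) := pdLT_congr hbc.equiv (pdLT_localization q.primeCompl n I hpd)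
  have hass : maximalIdeal L ∈ associatedPrimes L L := by
    refine Module.associatedPrimes.mem_associatedPrimes_of_comap_mem_associatedPrimes_of_isLocalizedModule
      q.primeCompl (Algebra.linearMap R L) (maximalIdeal L) ?_
    rw [show (maximalIdeal L).comap (algebraMap R L) = q from IsLocalization.AtPrime.comap_maximalIdeal L q]
    exact hq
  obtain ⟨hmax, w, hw⟩ := isAssociatedPrime_iff.mp hass
  have hw0 : w ≠ 0 := by
    rintro rfl
    exact (maximalIdeal.isMaximal L).ne_top (by rw [hw]; simp)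
  have hwkill : ∀ a ∈ maximalIdeal L, a * w = 0 := fun a ha => by
    rw [hw] at ha
    simpa [Submodule.mem_colon_singleton] using ha
  have := free_of_pdLT_of_socle (R := L) hw0 hwkill n J hJpd
  have hJm : J ≤ maximalIdeal L := Ideal.map_le_iff_le_comap.mpr fun a ha => by
    rw [Ideal.mem_comap, IsLocalization.AtPrime.to_map_mem_maximal_iff L q a]
    exact hIq ha
  let e := Module.Free.chooseBasis L J
  have hempty : IsEmpty (Module.Free.ChooseBasisIndex L J) := ⟨fun i => hw0 (by
    have : w • e i = 0 := Subtype.ext (by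
      rw [SetLike.val_smul, smul_eq_mul, mul_comm, hwkill _ (hJm (e i).2)]; rfl)
    simpa using congrArg (fun v => e.repr v i) this)⟩
  have hy0 : ι y = 0 := by
    rw [← e.sum_repr (ι y), Fintype.sum_empty]
  obtain ⟨s, hs⟩ := (IsLocalizedModule.eq_zero_iff q.primeCompl ι).mp hy0
  have h1 : (s : R) • φ y = 0 := by rw [← map_smul]; exact (congrArg φ hs).trans (map_zero φ)
  rw [hy, Algebra.smul_def, mul_one, Ideal.Quotient.algebraMap_eq, Ideal.Quotient.eq_zero_iff_mem] at h1
  exact s.2 (hIq h1)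

/-- Vasconcelos' theorem: a partial basis of the conormal module lifts to a weakly regular sequence. -/
theorem exists_regular_lift : ∀ (r : ℕ) (R : Type u) [CommRing R] [IsNoetherianRing R] [IsLocalRing R]
    (I : Ideal R), I ≠ ⊤ → ∀ (n : ℕ), PdLT R I (n + 1) → ∀ (φ : I →ₗ[R] (Fin r → R ⧸ I)) (y : Fin r → I),
      (∀ i, φ (y i) = Pi.single i 1) →
      ∃ x : Fin r → R, (∀ i, x i - (y i).1 ∈ I ^ 2) ∧ IsWeaklyRegular R (List.ofFn x) := by
  intro r
  induction r with
  | zero => exact fun R _ _ _ I _ n _ φ y _ => ⟨Fin.elim0, fun i => i.elim0, by simp⟩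
  | succ r ih =>
    intro R _ _ _ I hI n hpd φ y hy
    let φ0 : I →ₗ[R] R ⧸ I := LinearMap.proj 0 ∘ₗ φ
    have hφ0 : φ0 (y 0) = 1 := by simp [φ0, hy]
    obtain ⟨z, hz, hx⟩ := exists_coset_notMem (associatedPrimes.finite R R).toFinset
      (fun q hq => ((associatedPrimes.finite R R).mem_toFinset.mp hq).isPrime) (I ^ 2) (y 0).1
      (fun q hq _ hle => not_le_of_mem_associatedPrimes I n hpd φ0 (y 0) hφ0
        ((associatedPrimes.finite R R).mem_toFinset.mp hq)
        (fun a ha => ((associatedPrimes.finite R R).mem_toFinset.mp hq).isPrime.mem_of_pow_mem 2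
          (hle (Ideal.pow_mem_pow ha 2))))
    let x₀ : R := (y 0).1 + z
    have hzI : z ∈ I := Ideal.pow_le_self two_ne_zero hz
    have hx₀I : x₀ ∈ I := add_mem (y 0).2 hzI
    have hreg : IsSMulRegular R x₀ := by
      have : x₀ ∉ ⋃ q ∈ associatedPrimes R R, (q : Set R) := by
        rw [Set.mem_iUnion₂]
        rintro ⟨q, hq, hmem⟩
        exact hx q ((associatedPrimes.finite R R).mem_toFinset.mpr hq) hmem
      rw [biUnion_associatedPrimes_eq_compl_regular] at this
      simpa using this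
    have hregI : IsSMulRegular I x₀ := fun a b h => Subtype.ext (hreg (congrArg Subtype.val h))
    -- `φ` kills `I ^ 2`
    have hφ2 : ∀ (a : R) (ha : a ∈ I ^ 2), φ ⟨a, Ideal.pow_le_self two_ne_zero ha⟩ = 0 := by
      intro a ha
      have ha' : a ∈ I * I := by rwa [← pow_two]
      refine Submodule.mul_induction_on' (C := fun a ha => φ ⟨a, Ideal.mul_le_left ha⟩ = 0) ?_ ?_ ha'
      · intro b hb c hc
        rw [show (⟨b * c, Ideal.mul_le_left (Ideal.mul_mem_mul hb hc)⟩ : I) = b • (⟨c, hc⟩ : I) from rfl, map_smul]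
        funext i
        obtain ⟨d, hd⟩ := Ideal.Quotient.mk_surjective (φ ⟨c, hc⟩ i)
        rw [Pi.smul_apply, Pi.zero_apply, ← hd, Algebra.smul_def, Ideal.Quotient.algebraMap_eq, ← map_mul,
          Ideal.Quotient.eq_zero_iff_mem]
        exact Ideal.mul_mem_right _ _ hb
      · intro b hb c hc h1 h2
        rw [show (⟨b + c, _⟩ : I) = ⟨b, Ideal.mul_le_left hb⟩ + ⟨c, Ideal.mul_le_left hc⟩ from rfl, map_add, h1, h2, add_zero]
    let X : I := ⟨x₀, hx₀I⟩
    have hφX : φ X = Pi.single 0 1 := by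
      rw [show X = y 0 + ⟨z, hzI⟩ from rfl, map_add, hy, hφ2 z hz, add_zero]
    -- the quotient ring
    let q : R →+* R ⧸ Ideal.span {x₀} := Ideal.Quotient.mk _
    let R₁ := R ⧸ Ideal.span {x₀}
    have : Nontrivial R₁ := Ideal.Quotient.nontrivial_iff.mpr fun h => hI (top_le_iff.mp (h ▸
      Ideal.span_le.mpr (Set.singleton_subset_iff.mpr hx₀I)))
    have : IsLocalRing R₁ := .of_surjective' q Ideal.Quotient.mk_surjective
    let I₁ : Ideal R₁ := I.map q
    have hcomap : I₁.comap q = I := by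
      rw [Ideal.comap_map_of_surjective q Ideal.Quotient.mk_surjective, ← RingHom.ker_eq_comap_bot, Ideal.mk_ker]
      exact sup_eq_left.mpr (Ideal.span_le.mpr (Set.singleton_subset_iff.mpr hx₀I))
    have hI₁ : I₁ ≠ ⊤ := fun h => hI (by rw [← hcomap, h, Ideal.comap_top])
    -- `I₁` is a retract of `I / x₀ I`
    let π : I →ₗ[R] I₁ :=
      { toFun := fun a => ⟨q a.1, Ideal.mem_map_of_mem q a.2⟩
        map_add' := fun a b => Subtype.ext (map_add q _ _)
        map_smul' := fun c a => Subtype.ext (by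
          show q (c * a.1) = c • q a.1
          rw [Algebra.smul_def, map_mul]; rfl) }
    have hπs : Function.Surjective π := fun b => by
      obtain ⟨a, ha, hab⟩ := (Ideal.mem_map_iff_of_surjective q Ideal.Quotient.mk_surjective).mp b.2
      exact ⟨⟨a, ha⟩, Subtype.ext hab⟩
    have hπk : ∀ a, π a = 0 → ∃ t : R, a = t • X := fun a ha => by
      have : a.1 ∈ Ideal.span {x₀} := Ideal.Quotient.eq_zero_iff_mem.mp (congrArg Subtype.val ha)
      obtain ⟨t, ht⟩ := Ideal.mem_span_singleton'.mp this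
      exact ⟨t, Subtype.ext ht.symm⟩
    let τ : (R ⧸ I) →ₗ[R] QuotSMulTop x₀ I :=
      Submodule.liftQ I ((Submodule.mkQ _) ∘ₗ LinearMap.toSpanSingleton R I X) (fun c hc => by
        rw [LinearMap.mem_ker, LinearMap.comp_apply, Submodule.mkQ_apply, Submodule.Quotient.mk_eq_zero,
          Submodule.mem_smul_pointwise_iff_exists]
        exact ⟨⟨c, hc⟩, trivial, Subtype.ext (mul_comm _ _)⟩)
    let σ' : I →ₗ[R] QuotSMulTop x₀ I := Submodule.mkQ _ - τ ∘ₗ LinearMap.proj 0 ∘ₗ φ
    have hσX : σ' X = 0 := by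
      have : (LinearMap.proj 0 ∘ₗ φ) X = Submodule.Quotient.mk (1 : R) := by
        rw [LinearMap.comp_apply, hφX, LinearMap.proj_apply, Pi.single_eq_same]; rfl
      rw [LinearMap.sub_apply, LinearMap.comp_apply, this, sub_eq_zero]
      show _ = (Submodule.mkQ _) ((1 : R) • X)
      rw [one_smul]
    let σ : I₁ →ₗ[R] QuotSMulTop x₀ I := ((LinearMap.ker π).liftQ σ' (fun a ha => by
        obtain ⟨t, rfl⟩ := hπk a ha
        rw [LinearMap.mem_ker, map_smul, hσX, smul_zero])) ∘ₗ (π.quotKerEquivOfSurjective hπs).symm.toLinearMap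
    have hσ : ∀ a, σ (π a) = σ' a := fun a => by
      have : (π.quotKerEquivOfSurjective hπs).symm (π a) = Submodule.Quotient.mk a := by
        rw [LinearEquiv.symm_apply_eq]; rfl
      simp only [σ, LinearMap.comp_apply, LinearEquiv.coe_coe, this, Submodule.liftQ_apply]
    let ρ : QuotSMulTop x₀ I →ₗ[R] I₁ := Submodule.liftQ _ π (fun a ha => by
      obtain ⟨b, -, rfl⟩ := (Submodule.mem_smul_pointwise_iff_exists _ _ _).mp ha
      refine Subtype.ext ?_
      show q (x₀ * b.1) = 0
      exact Ideal.Quotient.eq_zero_iff_mem.mpr (Ideal.mul_mem_right _ _ (Ideal.subset_span rfl)))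
    have hρσ : ∀ b, ρ (σ b) = b := fun b => by
      obtain ⟨a, rfl⟩ := hπs b
      obtain ⟨c, hc⟩ := Submodule.Quotient.mk_surjective _ (φ a 0)
      rw [hσ]
      have : σ' a = Submodule.Quotient.mk (a - c • X) := by
        show Submodule.Quotient.mk a - τ (φ a 0) = _
        rw [← hc]; rfl
      rw [this]
      refine Subtype.ext ?_
      show q (a.1 - c * x₀) = q a.1
      exact Ideal.Quotient.eq.mpr (by
        rw [sub_sub_cancel_left]
        exact neg_mem (Ideal.mul_mem_left _ _ (Ideal.subset_span rfl)))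
    let S : Retract (ModuleCat.of R₁ I₁) (ModuleCat.of R₁ (QuotSMulTop x₀ I)) :=
      { i := ModuleCat.ofHom (σ.extendScalarsOfSurjective Ideal.Quotient.mk_surjective)
        r := ModuleCat.ofHom (ρ.extendScalarsOfSurjective Ideal.Quotient.mk_surjective)
        retract := ModuleCat.hom_ext (LinearMap.ext hρσ) }
    have : HasProjectiveDimensionLT (ModuleCat.of R₁ (QuotSMulTop x₀ I)) (n + 1) := pdLT_quotSMulTop hreg n I hregI hpd
    have hpd₁ : PdLT R₁ I₁ (n + 1) := S.hasProjectiveDimensionLT (n + 1)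
    -- the new functional
    let η : (R ⧸ I) →ₗ[R] R₁ ⧸ I₁ := Submodule.liftQ I ((Submodule.mkQ I₁).restrictScalars R ∘ₗ Algebra.linearMap R R₁)
      (fun c hc => (Submodule.Quotient.mk_eq_zero _).mpr (Ideal.mem_map_of_mem q hc))
    let θ' : I →ₗ[R] (Fin r → R₁ ⧸ I₁) := LinearMap.pi fun i => η ∘ₗ LinearMap.proj i.succ ∘ₗ φ
    let θ : I₁ →ₗ[R] (Fin r → R₁ ⧸ I₁) := ((LinearMap.ker π).liftQ θ' (fun a ha => by
        obtain ⟨t, rfl⟩ := hπk a ha
        rw [LinearMap.mem_ker, map_smul]
        have : θ' X = 0 := by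
          funext i
          simp [θ', hφX, Pi.single_eq_of_ne]
        rw [this, smul_zero])) ∘ₗ (π.quotKerEquivOfSurjective hπs).symm.toLinearMap
    have hθ : ∀ a, θ (π a) = θ' a := fun a => by
      have : (π.quotKerEquivOfSurjective hπs).symm (π a) = Submodule.Quotient.mk a := by
        rw [LinearEquiv.symm_apply_eq]; rfl
      simp only [θ, LinearMap.comp_apply, LinearEquiv.coe_coe, this, Submodule.liftQ_apply]
    obtain ⟨x₁, hx₁, hreg₁⟩ := ih R₁ I₁ hI₁ n hpd₁ (θ.extendScalarsOfSurjective Ideal.Quotient.mk_surjective)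
      (fun i => π (y i.succ)) (fun i => by
        show θ (π (y i.succ)) = _
        rw [hθ]
        funext j
        have : η 1 = 1 := by
          show Submodule.Quotient.mk (algebraMap R R₁ 1) = _
          rw [map_one]; rfl
        rcases eq_or_ne j i with rfl | hne
        · simp [θ', hy, this]
        · simp [θ', hy, Pi.single_eq_of_ne hne, Pi.single_eq_of_ne (Fin.succ_injective _ |>.ne hne)])
    have hlift : ∀ i, ∃ w ∈ I ^ 2, q w = x₁ i - q (y i.succ).1 := fun i => by
      have h1 : x₁ i - q (y i.succ).1 ∈ (I ^ 2).map q := by rw [Ideal.map_pow]; exact hx₁ i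
      exact (Ideal.mem_map_iff_of_surjective q Ideal.Quotient.mk_surjective).mp h1
    choose w hw hqw using hlift
    refine ⟨Fin.cons x₀ fun i => (y i.succ).1 + w i, fun i => ?_, ?_⟩
    · refine Fin.cases ?_ (fun i => ?_) i
      · simpa [x₀] using hz
      · simpa using hw i
    · rw [List.ofFn_succ, Fin.cons_zero, isWeaklyRegular_cons_iff']
      refine ⟨hreg, ?_⟩
      have he : (List.ofFn fun i => Fin.cons (α := fun _ => R) x₀ (fun i => (y i.succ).1 + w i) i.succ).map q =
          List.ofFn x₁ := by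
        rw [List.map_ofFn]
        congr 1
        funext i
        simp [hqw]
      rw [he]
      let e : QuotSMulTop x₀ R ≃ₗ[R] R₁ :=
        Submodule.quotEquivOfEq _ _ (by rw [← Submodule.ideal_span_singleton_smul, smul_eq_mul, Ideal.mul_top])
      let e' : QuotSMulTop x₀ R ≃ₗ[R₁] R₁ := e.extendScalarsOfSurjective Ideal.Quotient.mk_surjective
      exact (LinearEquiv.isWeaklyRegular_congr e' _).mpr hreg₁

end Groth.Agent.CAlgH.Vasconcelos
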