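import Mathlib

/-!
Flatness and injectivity over Artinian local rings.
-/

namespace CAlgH.ArtFlat

open TensorProduct IsLocalRing

variable {A : Type*} [CommRing A] [IsLocalRing A]

/-- There is an element outside a proper ideal which multiplies the maximal ideal into it. -/
theorem exists_socle [IsArtinianRing A] (I : Ideal A) (hI : I ≠ ⊤) :
    ∃ s ∉ I, ∀ a ∈ maximalIdeal A, a * s ∈ I := by
  obtain ⟨N, hN⟩ := IsArtinianRing.isNilpotent_jacobson_bot (R := A)
  rw [IsLocalRing.jacobson_eq_maximalIdeal ⊥ bot_ne_top] at hN
  classical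
  have hex : ∃ j, maximalIdeal A ^ j ≤ I := ⟨N, by rw [hN]; exact bot_le⟩
  have h0 : Nat.find hex ≠ 0 := by
    intro h
    have := Nat.find_spec hex
    rw [h, pow_zero, Ideal.one_eq_top, top_le_iff] at this
    exact hI this
  obtain ⟨s, hs, hsI⟩ := SetLike.not_le_iff_exists.1 (Nat.find_min hex (Nat.sub_one_lt h0))
  refine ⟨s, hsI, fun a ha => Nat.find_spec hex ?_⟩
  rw [← Nat.sub_add_cancel (Nat.pos_of_ne_zero h0), pow_succ']
  exact Ideal.mul_mem_mul ha hs

variable {M N : Type*} [AddCommGroup M] [Module A M] [AddCommGroup N] [Module A N]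

omit [IsLocalRing A] in
/-- `f` is injective modulo the ideal `I`. -/
def InjMod (I : Ideal A) (f : M →ₗ[A] N) : Prop :=
  ∀ x, f x ∈ (I • ⊤ : Submodule A N) → x ∈ (I • ⊤ : Submodule A M)

omit [IsLocalRing A] in
theorem injective_lTensor_quotient_iff (I : Ideal A) (f : M →ₗ[A] N) :
    Function.Injective (f.lTensor (A ⧸ I)) ↔ InjMod I f := by
  let eM := TensorProduct.quotTensorEquivQuotSMul M I
  let eN := TensorProduct.quotTensorEquivQuotSMul N I
  have hcomm : ∀ x : M, eN (f.lTensor (A ⧸ I) (eM.symm (Submodule.Quotient.mk x))) =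
      Submodule.Quotient.mk (f x) := by
    intro x
    rw [TensorProduct.quotTensorEquivQuotSMul_symm_mk]
    show eN ((Ideal.Quotient.mk I 1) ⊗ₜ[A] f x) = _
    exact (TensorProduct.quotTensorEquivQuotSMul_mk_tmul I 1 (f x)).trans (by rw [one_smul])
  constructor
  · intro h x hx
    rw [← Submodule.Quotient.mk_eq_zero] at hx ⊢
    rw [← hcomm, LinearEquiv.map_eq_zero_iff, map_eq_zero_iff _ h, LinearEquiv.map_eq_zero_iff] at hx
    exact hx
  · intro h
    rw [injective_iff_map_eq_zero]
    intro z hz
    obtain ⟨x, hx⟩ := Submodule.Quotient.mk_surjective _ (eM z)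
    have hz' : z = eM.symm (Submodule.Quotient.mk x) := by rw [hx, LinearEquiv.symm_apply_apply]
    rw [hz'] at hz ⊢
    have := hcomm x
    rw [hz, map_zero] at this
    rw [(Submodule.Quotient.mk_eq_zero _).2 (h x ((Submodule.Quotient.mk_eq_zero _).1 this.symm)),
      map_zero]

theorem injective_lTensor_residueField_iff (f : M →ₗ[A] N) :
    Function.Injective (f.lTensor (ResidueField A)) ↔ InjMod (maximalIdeal A) f :=
  injective_lTensor_quotient_iff (maximalIdeal A) f

/-- A map which is injective modulo a proper ideal, with flat source, is injective modulo the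
maximal ideal. -/
theorem injMod_maximal [IsArtinianRing A] [Module.Flat A M] {I : Ideal A} (hI : I ≠ ⊤)
    {f : M →ₗ[A] N} (h : InjMod I f) : InjMod (maximalIdeal A) f := by
  intro x hx
  obtain ⟨s, hs, hsm⟩ := exists_socle I hI
  have hfx : f (s • x) ∈ (I • ⊤ : Submodule A N) := by
    rw [map_smul]
    revert hx
    generalize f x = fx
    intro hx
    induction hx using Submodule.smul_induction_on' with
    | smul a ha y _ =>
      rw [smul_smul, mul_comm]
      exact Submodule.smul_mem_smul (hsm a ha) Submodule.mem_top
    | add y _ z _ hy hz => rw [smul_add]; exact add_mem hy hz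
  have hfin : ∀ y ∈ (I • ⊤ : Submodule A M), ∃ (k : ℕ) (c : Fin k → A) (m : Fin k → M),
      (∀ j, c j ∈ I) ∧ y = ∑ j, c j • m j := by
    intro y hy
    induction hy using Submodule.smul_induction_on' with
    | smul a ha y _ => exact ⟨1, fun _ => a, fun _ => y, fun _ => ha, by simp⟩
    | add y _ z _ hy hz =>
      obtain ⟨k, c, m, hc, rfl⟩ := hy
      obtain ⟨k', c', m', hc', rfl⟩ := hz
      exact ⟨k + k', Fin.append c c', Fin.append m m',
        fun j => j.addCases (by simpa using hc) (by simpa using hc'), by simp [Fin.sum_univ_add]⟩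
  obtain ⟨k, c, m, hc, hsx⟩ := hfin _ (h _ hfx)
  have hrel : ∑ i : Option (Fin k), (fun o => Option.elim o s (fun j => -c j)) i •
      (fun o => Option.elim o x m) i = 0 := by
    simp [Fintype.sum_option, hsx]
  obtain ⟨l, a, w, hw, ha⟩ := Module.Flat.isTrivialRelation_of_sum_smul_eq_zero hrel
  rw [show x = _ from hw none]
  refine Submodule.sum_mem _ fun j _ => Submodule.smul_mem_smul ?_ Submodule.mem_top
  have h1 := ha j
  simp only [Fintype.sum_option, Option.elim] at h1
  have hmem : s * a none j ∈ I := by
    rw [eq_neg_of_add_eq_zero_left h1]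
    exact neg_mem (Ideal.sum_mem _ fun i _ => Ideal.mul_mem_right _ _ (neg_mem (hc i)))
  rw [mem_maximalIdeal, mem_nonunits_iff]
  intro hu
  exact hs ((Ideal.mul_unit_mem_iff_mem _ hu).1 hmem)

theorem injMod_maximal_of_injective [IsArtinianRing A] [Module.Flat A M] {f : M →ₗ[A] N}
    (hf : Function.Injective f) : InjMod (maximalIdeal A) f := by
  refine injMod_maximal (I := ⊥) bot_ne_top fun x hx => ?_
  rw [Submodule.bot_smul, Submodule.mem_bot] at hx ⊢
  exact (injective_iff_map_eq_zero f).1 hf x hx

/-- A map into a flat module which is injective modulo the maximal ideal is universally injective. -/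
theorem lTensor_injective [IsArtinianRing A] [Module.Flat A N] {f : M →ₗ[A] N}
    (h : InjMod (maximalIdeal A) f) (L : Type*) [AddCommGroup L] [Module A L] :
    Function.Injective (f.lTensor L) := by
  classical
  have hk : Function.Injective (f.lTensor (A ⧸ maximalIdeal A)) :=
    (injective_lTensor_quotient_iff (maximalIdeal A) f).2 h
  obtain ⟨K, hK⟩ := IsArtinianRing.isNilpotent_jacobson_bot (R := A)
  rw [IsLocalRing.jacobson_eq_maximalIdeal ⊥ bot_ne_top] at hK
  suffices H : ∀ (n : ℕ) (P : Submodule A L), (∀ a ∈ maximalIdeal A ^ n, ∀ x ∈ P, a • x = 0) →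
      Function.Injective (f.lTensor P) by
    have htop := H K ⊤ (fun a ha x _ => by
      rw [hK] at ha; rw [show a = 0 from ha, zero_smul])
    have hcomp : f.lTensor L ∘ₗ (Submodule.topEquiv (R := A) (M := L)).toLinearMap.rTensor M =
        (Submodule.topEquiv (R := A) (M := L)).toLinearMap.rTensor N ∘ₗ f.lTensor _ :=
      TensorProduct.ext' fun x y => rfl
    have := (((Submodule.topEquiv (R := A) (M := L)).rTensor N).injective).comp htop
    intro x y hxy
    obtain ⟨x, rfl⟩ := ((Submodule.topEquiv (R := A) (M := L)).rTensor M).surjective x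
    obtain ⟨y, rfl⟩ := ((Submodule.topEquiv (R := A) (M := L)).rTensor M).surjective y
    refine congrArg _ (this ?_)
    have h1 := LinearMap.congr_fun hcomp x
    have h2 := LinearMap.congr_fun hcomp y
    exact (h1.symm.trans (hxy.trans h2))
  intro n
  induction n with
  | zero =>
    intro P hP
    have hP0 : ∀ x : P, x = 0 := fun x => Subtype.ext (by simpa using hP 1 (by simp) x x.2)
    intro x y _
    have : Subsingleton (P ⊗[A] M) := by
      refine subsingleton_of_forall_eq 0 fun z => ?_
      induction z using TensorProduct.induction_on with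
      | zero => rfl
      | tmul p m => rw [hP0 p, TensorProduct.zero_tmul]
      | add a b ha hb => rw [ha, hb, add_zero]
    exact Subsingleton.elim _ _
  | succ n ih =>
    intro P hP
    let P' : Submodule A L := maximalIdeal A • P
    have hP' : ∀ a ∈ maximalIdeal A ^ n, ∀ x ∈ P', a • x = 0 := by
      intro a ha x hx
      induction hx using Submodule.smul_induction_on' with
      | smul b hb y hy =>
        rw [smul_smul]
        exact hP _ (by rw [pow_succ]; exact Ideal.mul_mem_mul ha hb) y hy
      | add y _ z _ hy hz => rw [smul_add, hy, hz, add_zero]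
    let i : P' →ₗ[A] P := Submodule.inclusion Submodule.smul_le_right
    let V := P ⧸ LinearMap.range i
    let q : P →ₗ[A] V := Submodule.mkQ _
    have hVk : ∀ (x : V) (a : maximalIdeal A), (a : A) • x = 0 := by
      intro x a
      obtain ⟨x, rfl⟩ := Submodule.Quotient.mk_surjective _ x
      rw [← Submodule.Quotient.mk_smul, Submodule.Quotient.mk_eq_zero]
      exact ⟨⟨_, Submodule.smul_mem_smul a.2 x.2⟩, rfl⟩
    letI : Module (A ⧸ maximalIdeal A) V := Module.IsTorsionBySet.module hVk
    haveI : IsScalarTower A (A ⧸ maximalIdeal A) V :=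
      Module.IsTorsionBySet.isScalarTower hVk
    letI := Ideal.Quotient.field (maximalIdeal A)
    obtain ⟨s, ⟨b⟩⟩ := Module.Basis.exists_basis (A ⧸ maximalIdeal A) V
    let e : V ≃ₗ[A] (s →₀ A ⧸ maximalIdeal A) := b.repr.restrictScalars A
    have hV : Function.Injective (f.lTensor V) := by
      intro x y hxy
      apply (TensorProduct.congr e (LinearEquiv.refl A M) ≪≫ₗ
        TensorProduct.finsuppLeft A A (A ⧸ maximalIdeal A) M s).injective
      ext j
      apply hk
      have key : ∀ z, f.lTensor (A ⧸ maximalIdeal A) ((TensorProduct.congr e (LinearEquiv.refl A M) ≪≫ₗ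
            TensorProduct.finsuppLeft A A (A ⧸ maximalIdeal A) M s) z j) =
          (TensorProduct.congr e (LinearEquiv.refl A N) ≪≫ₗ
            TensorProduct.finsuppLeft A A (A ⧸ maximalIdeal A) N s) (f.lTensor V z) j := by
        intro z
        induction z using TensorProduct.induction_on with
        | zero => simp
        | tmul v m => simp [TensorProduct.finsuppLeft_apply_tmul_apply]
        | add a c ha hc => simp only [map_add, Finsupp.add_apply, ha, hc]
      rw [key, key, hxy]
    have hrow : Function.Exact (i.rTensor M) (q.rTensor M) :=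
      rTensor_exact M (LinearMap.exact_map_mkQ_range i) (Submodule.mkQ_surjective _)
    rw [injective_iff_map_eq_zero]
    intro x hx
    have h1 : q.rTensor M x = 0 := by
      apply hV
      rw [map_zero, ← LinearMap.comp_apply, LinearMap.lTensor_comp_rTensor,
        ← LinearMap.rTensor_comp_lTensor, LinearMap.comp_apply, hx, map_zero]
    obtain ⟨y, rfl⟩ := (hrow x).1 h1
    rw [← LinearMap.comp_apply, LinearMap.lTensor_comp_rTensor,
      ← LinearMap.rTensor_comp_lTensor, LinearMap.comp_apply] at hx
    have hi : Function.Injective (i.rTensor N) :=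
      Module.Flat.rTensor_preserves_injective_linearMap i (Submodule.inclusion_injective _)
    rw [map_eq_zero_iff _ hi, map_eq_zero_iff _ (ih P' hP')] at hx
    rw [hx, map_zero]

theorem injMod_all [IsArtinianRing A] [Module.Flat A N] {f : M →ₗ[A] N}
    (h : InjMod (maximalIdeal A) f) (I : Ideal A) : InjMod I f :=
  (injective_lTensor_quotient_iff I f).1 (lTensor_injective h _)

theorem injective_of_injMod [IsArtinianRing A] [Module.Flat A N] {f : M →ₗ[A] N}
    (h : InjMod (maximalIdeal A) f) : Function.Injective f := by
  rw [injective_iff_map_eq_zero]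
  intro x hx
  simpa using injMod_all h ⊥ x (by simp [hx])

theorem flat_source [IsArtinianRing A] [Module.Flat A N] {f : M →ₗ[A] N}
    (h : InjMod (maximalIdeal A) f) : Module.Flat A M := by
  rw [Module.Flat.iff_rTensor_injective']
  intro J
  rw [injective_iff_map_eq_zero]
  intro x hx
  apply lTensor_injective h J
  apply Module.Flat.rTensor_preserves_injective_linearMap (M := N) J.subtype J.injective_subtype
  rw [map_zero, map_zero, ← LinearMap.comp_apply, LinearMap.rTensor_comp_lTensor,
    ← LinearMap.lTensor_comp_rTensor, LinearMap.comp_apply, hx, map_zero]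

theorem flat_quotient [IsArtinianRing A] [Module.Flat A N] {f : M →ₗ[A] N}
    (h : InjMod (maximalIdeal A) f) : Module.Flat A (N ⧸ LinearMap.range f) := by
  rw [Module.Flat.iff_rTensor_injective']
  intro J
  rw [injective_iff_map_eq_zero]
  intro z hz
  let q : N →ₗ[A] N ⧸ LinearMap.range f := Submodule.mkQ _
  have hq : Function.Surjective q := Submodule.mkQ_surjective _
  obtain ⟨y, rfl⟩ := LinearMap.lTensor_surjective J hq z
  have h0 : q.lTensor A (J.subtype.rTensor N y) = 0 := by
    rw [← LinearMap.comp_apply, LinearMap.lTensor_comp_rTensor,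
      ← LinearMap.rTensor_comp_lTensor, LinearMap.comp_apply]
    exact hz
  obtain ⟨μ, hμ⟩ := ((lTensor_exact A (LinearMap.exact_map_mkQ_range f) hq) _).1 h0
  let p : A →ₗ[A] A ⧸ J := Submodule.mkQ J
  have h1 : p.rTensor M μ = 0 := by
    apply lTensor_injective h (A ⧸ J)
    rw [map_zero, ← LinearMap.comp_apply, LinearMap.lTensor_comp_rTensor,
      ← LinearMap.rTensor_comp_lTensor, LinearMap.comp_apply, hμ]
    exact (rTensor_exact N (LinearMap.exact_subtype_mkQ J) (Submodule.mkQ_surjective J)).apply_apply_eq_zero y
  obtain ⟨w, rfl⟩ := ((rTensor_exact M (LinearMap.exact_subtype_mkQ J) (Submodule.mkQ_surjective J)) _).1 h1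
  have : y = f.lTensor J w := by
    apply Module.Flat.rTensor_preserves_injective_linearMap (M := N) J.subtype J.injective_subtype
    rw [← hμ, ← LinearMap.comp_apply, LinearMap.lTensor_comp_rTensor,
      ← LinearMap.rTensor_comp_lTensor, LinearMap.comp_apply]
  rw [this]
  exact (lTensor_exact J (LinearMap.exact_map_mkQ_range f) hq).apply_apply_eq_zero w

omit [IsLocalRing A] in
/-- An injective map with flat cokernel is injective modulo every ideal. -/
theorem injMod_of_flat_quotient {f : M →ₗ[A] N} (hf : Function.Injective f)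
    [Module.Flat A (N ⧸ LinearMap.range f)] (I : Ideal A) : InjMod I f := by
  intro x hx
  have hN : ∀ y ∈ (I • ⊤ : Submodule A N), ∃ t : I ⊗[A] N, TensorProduct.lid A N (I.subtype.rTensor N t) = y := by
    intro y hy
    induction hy using Submodule.smul_induction_on' with
    | smul a ha y _ => exact ⟨⟨a, ha⟩ ⊗ₜ y, by simp⟩
    | add y _ z _ hy hz =>
      obtain ⟨t, rfl⟩ := hy
      obtain ⟨u, rfl⟩ := hz
      exact ⟨t + u, by simp⟩
  have hM : ∀ t : I ⊗[A] M, TensorProduct.lid A M (I.subtype.rTensor M t) ∈ (I • ⊤ : Submodule A M) := by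
    intro t
    induction t using TensorProduct.induction_on with
    | zero => simp
    | tmul a m => simpa using Submodule.smul_mem_smul a.2 Submodule.mem_top
    | add a b ha hb => simpa using add_mem ha hb
  have hnat : ∀ t : I ⊗[A] M, TensorProduct.lid A N (I.subtype.rTensor N (f.lTensor I t)) =
      f (TensorProduct.lid A M (I.subtype.rTensor M t)) := by
    intro t
    induction t using TensorProduct.induction_on with
    | zero => simp
    | tmul a m => simp
    | add a b ha hb => simp [ha, hb]
  have hnat' : ∀ t : I ⊗[A] N, TensorProduct.lid A _ (I.subtype.rTensor _ ((LinearMap.range f).mkQ.lTensor I t)) =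
      (LinearMap.range f).mkQ (TensorProduct.lid A N (I.subtype.rTensor N t)) := by
    intro t
    induction t using TensorProduct.induction_on with
    | zero => simp
    | tmul a m => simp
    | add a b ha hb => simp only [map_add, ha, hb]
  obtain ⟨t, ht⟩ := hN _ hx
  have h0 : (LinearMap.range f).mkQ.lTensor I t = 0 := by
    apply Module.Flat.rTensor_preserves_injective_linearMap (M := N ⧸ LinearMap.range f) I.subtype
      I.injective_subtype
    apply (TensorProduct.lid A _).injective
    rw [hnat', ht]
    simp
  obtain ⟨w, rfl⟩ := ((lTensor_exact I (LinearMap.exact_map_mkQ_range f)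
    (Submodule.mkQ_surjective _)) t).1 h0
  rw [hnat] at ht
  rw [← hf ht]
  exact hM w

/-- Exactness modulo the maximal ideal at a middle term makes the induced map from the cokernel
injective modulo the maximal ideal. -/
theorem injMod_liftQ {P : Type*} [AddCommGroup P] [Module A P] (f : P →ₗ[A] M) (g : M →ₗ[A] N)
    (hgf : LinearMap.range f ≤ LinearMap.ker g)
    (hred : Function.Exact (f.lTensor (ResidueField A)) (g.lTensor (ResidueField A))) :
    InjMod (maximalIdeal A) ((LinearMap.range f).liftQ g hgf) := by
  have hq : Function.Surjective (LinearMap.range f).mkQ := Submodule.mkQ_surjective _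
  refine (injective_lTensor_residueField_iff _).1 ((injective_iff_map_eq_zero _).2 fun z hz => ?_)
  obtain ⟨x, rfl⟩ := LinearMap.lTensor_surjective _ hq z
  rw [← LinearMap.comp_apply, ← LinearMap.lTensor_comp, Submodule.liftQ_mkQ] at hz
  obtain ⟨y, rfl⟩ := (hred x).1 hz
  exact (lTensor_exact _ (LinearMap.exact_map_mkQ_range f) hq).apply_apply_eq_zero y

end CAlgH.ArtFlat
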