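import Mathlib
import Groth.Agent.FlatCrit.Basic

/-!
`Tor₁` of Mathlib versus the elementwise `TorZero`.
-/

universe u

open CategoryTheory MonoidalCategory

namespace Groth.Agent.CAlgH.TorBridge

open Groth.Agent.FlatCrit

variable {R : Type u} [CommRing R]

theorem torZero_symm {M N : Type u} [AddCommGroup M] [Module R M] [AddCommGroup N] [Module R N]
    (h : TorZero R M N) : TorZero R N M :=
  (LinearMap.lTensor_inj_iff_rTensor_inj _ _).mp
    (h.lTensor_injective Subtype.val_injective exact_rel surjective_rel)

/-- The first Tor vanishes iff the elementwise criterion holds. -/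
theorem isZero_tor_one_iff (X M : ModuleCat.{u} R) :
    Limits.IsZero (((CategoryTheory.Tor (ModuleCat.{u} R) 1).obj X).obj M) ↔ TorZero R X M := by
  let P : ProjectiveResolution M := CategoryTheory.projectiveResolution M
  let d1 := (P.complex.d 1 0).hom
  let d2 := (P.complex.d 2 1).hom
  let π := (P.π.f 0).hom
  have hπ : Function.Surjective π := (ModuleCat.epi_iff_surjective _).1 inferInstance
  have hex0 : Function.Exact d1 π :=
    (ShortComplex.ShortExact.moduleCat_exact_iff_function_exact _).1 P.exact₀
  have hex1 : Function.Exact d2 d1 :=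
    (ShortComplex.ShortExact.moduleCat_exact_iff_function_exact _).1
      ((HomologicalComplex.exactAt_iff' _ 2 1 0 (by simp) (by simp)).1 (P.complex_exactAt_succ 0))
  let K : Submodule R (P.complex.X 0) := LinearMap.range d1
  have hKex : Function.Exact K.subtype π := by
    rw [LinearMap.exact_iff, Submodule.range_subtype]
    exact LinearMap.exact_iff.1 hex0
  haveI : Module.Projective R (P.complex.X 0) :=
    (IsProjective.iff_projective _).2 (P.projective 0)
  have h1 : TorZero R X M ↔ Function.Injective (K.subtype.lTensor X) :=
    ⟨fun h => h.lTensor_injective Subtype.val_injective hKex hπ,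
      fun h => TorZero.of_presentation TorZero.of_flat hKex hπ h⟩
  rw [h1]
  let F := MonoidalCategory.tensorLeft X
  have h2 : Limits.IsZero (((CategoryTheory.Tor (ModuleCat.{u} R) 1).obj X).obj M) ↔
      Function.Exact (d2.lTensor X) (d1.lTensor X) := by
    have e : ((CategoryTheory.Tor (ModuleCat.{u} R) 1).obj X).obj M ≅ _ := P.isoLeftDerivedObj F 1
    rw [e.isZero_iff]
    show Limits.IsZero (((F.mapHomologicalComplex _).obj P.complex).homology 1) ↔ _
    rw [← HomologicalComplex.exactAt_iff_isZero_homology,
      HomologicalComplex.exactAt_iff' _ 2 1 0 (by simp) (by simp),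
      ShortComplex.ShortExact.moduleCat_exact_iff_function_exact]
    rfl
  rw [h2]
  have hr : Function.Exact d2 d1.rangeRestrict := by
    rw [LinearMap.exact_iff, LinearMap.ker_rangeRestrict]
    exact LinearMap.exact_iff.1 hex1
  have hlt := lTensor_exact X hr d1.surjective_rangeRestrict
  have hcomp : K.subtype.lTensor X ∘ₗ d1.rangeRestrict.lTensor X = d1.lTensor X := by
    rw [← LinearMap.lTensor_comp]
    rfl
  constructor
  · intro h
    rw [injective_iff_map_eq_zero]
    intro y hy
    obtain ⟨z, rfl⟩ := LinearMap.lTensor_surjective X d1.surjective_rangeRestrict y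
    rw [← LinearMap.comp_apply, hcomp] at hy
    obtain ⟨w, rfl⟩ := (h z).1 hy
    exact hlt.apply_apply_eq_zero w
  · intro h z
    rw [← hcomp, LinearMap.comp_apply, map_eq_zero_iff _ h]
    exact hlt z

end Groth.Agent.CAlgH.TorBridge
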