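import Groth.Agent.CAlgH.ArtFlat

/-!
Regular sequences in flat algebras over Artinian local rings.
-/

namespace CAlgH.ArtFlat

open IsLocalRing RingTheory.Sequence
open scoped Pointwise

universe u v w

variable {A : Type u} [CommRing A] [IsLocalRing A] [IsArtinianRing A]
variable {S : Type v} [CommRing S] [Algebra A S]

omit [IsLocalRing A] [IsArtinianRing A] in
theorem mem_map_smul_top_iff (I : Ideal A) {M : Type w} [AddCommGroup M] [Module S M] [Module A M]
    [IsScalarTower A S M] (x : M) :
    x ∈ (I.map (algebraMap A S) • ⊤ : Submodule S M) ↔ x ∈ (I • ⊤ : Submodule A M) := by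
  constructor
  · intro h
    induction h using Submodule.smul_induction_on' with
    | smul s hs y _ =>
      induction hs using Submodule.span_induction generalizing y with
      | mem s hs =>
        obtain ⟨a, ha, rfl⟩ := hs
        rw [IsScalarTower.algebraMap_smul]
        exact Submodule.smul_mem_smul ha Submodule.mem_top
      | zero => simp
      | add s t _ _ hs ht => rw [add_smul]; exact add_mem (hs y trivial) (ht y trivial)
      | smul r s _ hs =>
        rw [smul_eq_mul, mul_comm, mul_smul]
        exact hs (r • y) trivial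
    | add y _ z _ hy hz => exact add_mem hy hz
  · intro h
    induction h using Submodule.smul_induction_on' with
    | smul a ha y _ =>
      rw [← IsScalarTower.algebraMap_smul S a y]
      exact Submodule.smul_mem_smul (Ideal.mem_map_of_mem _ ha) Submodule.mem_top
    | add y _ z _ hy hz => exact add_mem hy hz

omit [IsLocalRing A] [IsArtinianRing A] in
theorem isSMulRegular_tensor_iff (I : Ideal A) (r : S) {M : Type w} [AddCommGroup M] [Module S M]
    [Module A M] [IsScalarTower A S M] :
    IsSMulRegular (TensorProduct S (S ⧸ I.map (algebraMap A S)) M) r ↔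
      InjMod I ((LinearMap.lsmul S M r).restrictScalars A) := by
  rw [(TensorProduct.quotTensorEquivQuotSMul M (I.map (algebraMap A S))).isSMulRegular_congr r]
  constructor
  · intro h x hx
    rw [← mem_map_smul_top_iff (S := S)] at hx ⊢
    rw [← Submodule.Quotient.mk_eq_zero] at hx ⊢
    apply h
    simpa using hx
  · intro h
    intro y z hyz
    obtain ⟨y, rfl⟩ := Submodule.Quotient.mk_surjective _ y
    obtain ⟨z, rfl⟩ := Submodule.Quotient.mk_surjective _ z
    rw [Submodule.Quotient.eq, mem_map_smul_top_iff]
    simp only [← Submodule.Quotient.mk_smul, Submodule.Quotient.eq, mem_map_smul_top_iff] at hyz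
    refine h _ ?_
    simpa [smul_sub] using hyz

omit [IsLocalRing A] [IsArtinianRing A] in
theorem mem_range_lsmul_iff (r : S) {M : Type w} [AddCommGroup M] [Module S M] [Module A M]
    [IsScalarTower A S M] (x : M) :
    x ∈ LinearMap.range ((LinearMap.lsmul S M r).restrictScalars A) ↔ x ∈ r • (⊤ : Submodule S M) := by
  simp [Submodule.mem_smul_pointwise_iff_exists]

theorem flat_quotSMulTop (r : S) {M : Type w} [AddCommGroup M] [Module S M] [Module A M]
    [IsScalarTower A S M] [Module.Flat A M]
    (h : InjMod (maximalIdeal A) ((LinearMap.lsmul S M r).restrictScalars A)) :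
    Module.Flat A (QuotSMulTop r M) := by
  haveI := flat_quotient h
  have heq : (r • (⊤ : Submodule S M)).restrictScalars A =
      LinearMap.range ((LinearMap.lsmul S M r).restrictScalars A) :=
    Submodule.ext fun x => (mem_range_lsmul_iff r x).symm
  exact Module.Flat.of_linearEquiv ((Submodule.Quotient.restrictScalarsEquiv A _).symm.trans
    (Submodule.quotEquivOfEq _ _ heq))

theorem flat_and_isWeaklyRegular {I : Ideal A} (hI : I ≠ ⊤) (rs : List S) :
    ∀ (M : Type w) [AddCommGroup M] [Module S M] [Module A M] [IsScalarTower A S M] [Module.Flat A M],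
      (IsWeaklyRegular (TensorProduct S (S ⧸ I.map (algebraMap A S)) M) rs ↔ IsWeaklyRegular M rs) ∧
      (IsWeaklyRegular M rs → Module.Flat A (M ⧸ (Ideal.ofList rs • ⊤ : Submodule S M))) := by
  induction rs with
  | nil =>
    intro M _ _ _ _ _
    refine ⟨by simp, fun _ => ?_⟩
    exact Module.Flat.of_linearEquiv
      ((Submodule.quotEquivOfEqBot (Ideal.ofList [] • ⊤ : Submodule S M) (by simp)).restrictScalars A)
  | cons r rs ih =>
    intro M _ _ _ _ _
    have hreg : IsSMulRegular (TensorProduct S (S ⧸ I.map (algebraMap A S)) M) r ↔ IsSMulRegular M r := by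
      rw [isSMulRegular_tensor_iff]
      refine ⟨fun h => injective_of_injMod (injMod_maximal hI h), fun h => ?_⟩
      exact injMod_all (injMod_maximal_of_injective
        (f := (LinearMap.lsmul S M r).restrictScalars A) h) I
    have key : IsSMulRegular M r → Module.Flat A (QuotSMulTop r M) := fun h =>
      flat_quotSMulTop r (injMod_maximal_of_injective
        (f := (LinearMap.lsmul S M r).restrictScalars A) h)
    refine ⟨?_, fun h => ?_⟩
    · rw [isWeaklyRegular_cons_iff, isWeaklyRegular_cons_iff, hreg]
      refine and_congr_right fun h => ?_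
      haveI := key h
      rw [← (ih (QuotSMulTop r M)).1]
      exact ((QuotSMulTop.tensorQuotSMulTopEquivQuotSMulTop r (S ⧸ I.map (algebraMap A S)) M).isWeaklyRegular_congr rs).symm
    · rw [isWeaklyRegular_cons_iff] at h
      haveI := key h.1
      haveI := (ih (QuotSMulTop r M)).2 h.2
      exact Module.Flat.of_linearEquiv
        ((Submodule.quotOfListConsSMulTopEquivQuotSMulTopInner M r rs).restrictScalars A)

theorem isWeaklyRegular_quotient_iff {I : Ideal A} (hI : I ≠ ⊤) [Module.Flat A S] (rs : List S) :
    IsWeaklyRegular (S ⧸ I.map (algebraMap A S)) (rs.map (Ideal.Quotient.mk (I.map (algebraMap A S)))) ↔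
      IsWeaklyRegular S rs := by
  rw [← (flat_and_isWeaklyRegular hI rs S).1, ← Ideal.Quotient.algebraMap_eq,
    isWeaklyRegular_map_algebraMap_iff]
  exact ((TensorProduct.rid S _).isWeaklyRegular_congr rs).symm

theorem flat_quotient_span {I : Ideal A} (hI : I ≠ ⊤) [Module.Flat A S] (rs : List S)
    (h : IsWeaklyRegular S rs) : Module.Flat A (S ⧸ Ideal.ofList rs) := by
  haveI := (flat_and_isWeaklyRegular hI rs S).2 h
  exact Module.Flat.of_linearEquiv ((Submodule.quotEquivOfEq (Ideal.ofList rs • ⊤ : Submodule S S)
    (Ideal.ofList rs) (by simp)).symm.restrictScalars A)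

end CAlgH.ArtFlat
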