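import Mathlib
import Groth.Prelude.Def_EtGlue

/-! Beauville–Laszlo glueing: torsion criteria, flatness and finiteness. -/

open TensorProduct

namespace Groth.Agent.CAlgH.BLGlue

universe u v

theorem rTensor_injective_aux {R : Type u} [CommRing R] (Rf : Type u) [CommRing Rf] [Algebra R Rf]
    [Module.Flat R Rf] {K F M C : Type u} [AddCommGroup K] [Module R K] [AddCommGroup F] [Module R F]
    [AddCommGroup M] [Module R M] [Module.Flat Rf (Rf ⊗[R] M)]
    [AddCommGroup C] [Module R C] [Module Rf C] [IsScalarTower R Rf C]
    (i : K →ₗ[R] F) (π : F →ₗ[R] M) (hi : Function.Injective i) (hiπ : Function.Exact i π)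
    (hπ : Function.Surjective π) : Function.Injective (i.rTensor C) := by
  rw [← LinearMap.lTensor_inj_iff_rTensor_inj]
  have h1 : Function.Injective (i.baseChange Rf) := Module.Flat.lTensor_preserves_injective_linearMap i hi
  have h2 : Function.Exact (i.baseChange Rf) (π.baseChange Rf) := Module.Flat.lTensor_exact Rf hiπ
  have h3 : Function.Surjective (π.baseChange Rf) := LinearMap.lTensor_surjective _ hπ
  have key := LinearMap.lTensor_injective_of_exact_of_flat (π.baseChange Rf) h3 (i.baseChange Rf) h1 h2 C
  have hcomp : ∀ z, (i.baseChange Rf).lTensor C ((AlgebraTensorModule.cancelBaseChange R Rf Rf C K).symm z) =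
      (AlgebraTensorModule.cancelBaseChange R Rf Rf C F).symm (i.lTensor C z) := by
    intro z
    induction z using TensorProduct.induction_on with
    | zero => simp
    | tmul c k => simp
    | add a b ha hb => simp only [map_add, ha, hb]
  intro z z' hz
  refine (AlgebraTensorModule.cancelBaseChange R Rf Rf C K).symm.injective (key ?_)
  rw [hcomp, hcomp, hz]

theorem rTensor_injective_of_presentation {R : Type u} [CommRing R] (Rf : Type u) [CommRing Rf] [Algebra R Rf]
    [Module.Flat R Rf] {A B C : Type u} [AddCommGroup A] [Module R A] [AddCommGroup B] [Module R B]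
    [AddCommGroup C] [Module R C] [Module Rf C] [IsScalarTower R Rf C]
    (g : A →ₗ[R] B) (h : B →ₗ[R] C) (hg : Function.Injective g) (hgh : Function.Exact g h)
    (hh : Function.Surjective h) {F M : Type u} [AddCommGroup F] [Module R F] [Module.Flat R F]
    [AddCommGroup M] [Module R M] [Module.Flat Rf (Rf ⊗[R] M)] (π : F →ₗ[R] M) (hπ : Function.Surjective π) :
    Function.Injective (g.lTensor M) :=
  lTensor_injective_of_exact_of_exact_of_rTensor_injective π.exact_subtype_ker_map hπ hgh hh
    (rTensor_injective_aux Rf (LinearMap.ker π).subtype π Subtype.val_injective π.exact_subtype_ker_map hπ)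
    (Module.Flat.lTensor_preserves_injective_linearMap g hg)

/-- A short exact sequence with an `f`-local cokernel stays injective after tensoring with a module
whose localization is flat. -/
theorem rTensor_injective_of_localized_flat {R : Type u} [CommRing R] (Rf : Type u) [CommRing Rf] [Algebra R Rf]
    [Module.Flat R Rf] {A B C : Type u} [AddCommGroup A] [Module R A] [AddCommGroup B] [Module R B]
    [AddCommGroup C] [Module R C] [Module Rf C] [IsScalarTower R Rf C]
    (g : A →ₗ[R] B) (h : B →ₗ[R] C) (hg : Function.Injective g) (hgh : Function.Exact g h)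
    (hh : Function.Surjective h) (M : Type u) [AddCommGroup M] [Module R M] [Module.Flat Rf (Rf ⊗[R] M)] :
    Function.Injective (g.rTensor M) := by
  rw [← LinearMap.lTensor_inj_iff_rTensor_inj]
  exact rTensor_injective_of_presentation Rf g h hg hgh hh (F := M →₀ R) (Finsupp.linearCombination R fun a => a)
    (Finsupp.linearCombination_surjective _ Function.surjective_id)

variable (R : Type u) (R' : Type u) [CommRing R] [CommRing R'] [Algebra R R'] (f : R)

/-- `X` has no nonzero `f`-torsion killed in `R' ⊗ X`. -/
def TInj (X : Type v) [AddCommGroup X] [Module R X] : Prop :=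
  ∀ x : X, (1 : R') ⊗ₜ[R] x = 0 → (∃ n : ℕ, f ^ n • x = 0) → x = 0

variable {R R' f}

theorem TInj.of_injective {X Y : Type v} [AddCommGroup X] [Module R X] [AddCommGroup Y] [Module R Y]
    (u : X →ₗ[R] Y) (hu : Function.Injective u) (h : TInj R R' f Y) : TInj R R' f X := fun x hx ⟨n, hn⟩ =>
  hu (by
    rw [map_zero]
    refine h _ ?_ ⟨n, by rw [← map_smul, hn, map_zero]⟩
    rw [← LinearMap.lTensor_tmul, hx, map_zero])

theorem isUnit_f : IsUnit (algebraMap R (Localization.Away f) f) :=
  IsLocalization.Away.algebraMap_isUnit f

theorem isUnit_f' : IsUnit (algebraMap R (Localization.Away (algebraMap R R' f)) f) := by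
  rw [IsScalarTower.algebraMap_apply R R' (Localization.Away (algebraMap R R' f))]
  exact IsLocalization.Away.algebraMap_isUnit _

theorem eq_zero_of_pow_smul {B : Type*} [CommRing B] [Algebra R B] (hB : IsUnit (algebraMap R B f))
    {N : Type*} [AddCommGroup N] [Module R N] [Module B N] [IsScalarTower R B N] {z : N} {n : ℕ}
    (h : f ^ n • z = 0) : z = 0 := by
  rw [← IsScalarTower.algebraMap_smul B, map_pow] at h
  exact (hB.pow n).smul_eq_zero.mp h

variable (R R' f) in
/-- `R → R' × R_f`. -/
noncomputable def α : R →ₗ[R] R' × Localization.Away f :=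
  (Algebra.linearMap R R').prod (Algebra.linearMap R (Localization.Away f))

variable (R R' f) in
/-- `R' × R_f → R'_f`. -/
noncomputable def β : R' × Localization.Away f →ₗ[R] Localization.Away (algebraMap R R' f) :=
  ((IsScalarTower.toAlgHom R R' _).toLinearMap).coprod
    (-{ toFun := Localization.awayMap (algebraMap R R') f
        map_add' := map_add _
        map_smul' := fun r y => by
          rw [RingHom.id_apply, Algebra.smul_def, Algebra.smul_def, map_mul]
          congr 1
          rw [Localization.awayMap, IsLocalization.Away.map, IsLocalization.map_eq,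
            ← IsScalarTower.algebraMap_apply] })

theorem β_apply (x : R') (y : Localization.Away f) :
    β R R' f (x, y) = algebraMap R' _ x - Localization.awayMap (algebraMap R R') f y := by
  simp [β, sub_eq_add_neg]

theorem α_injective (h : EtGlue.IsGlueingPair R R' f) : Function.Injective (α R R' f) := h.2.1

theorem αβ_exact (h : EtGlue.IsGlueingPair R R' f) : Function.Exact (α R R' f) (β R R' f) := by
  rintro ⟨x, y⟩
  rw [β_apply, sub_eq_zero]
  constructor
  · intro hxy
    obtain ⟨r, h1, h2⟩ := h.2.2.1 x y hxy
    exact ⟨r, Prod.ext h1 h2⟩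
  · rintro ⟨r, hr⟩
    obtain ⟨rfl, rfl⟩ := Prod.ext_iff.mp hr
    show _ = Localization.awayMap (algebraMap R R') f (algebraMap R _ r)
    rw [Localization.awayMap, IsLocalization.Away.map, IsLocalization.map_eq]
    rfl

theorem β_surjective (h : EtGlue.IsGlueingPair R R' f) : Function.Surjective (β R R' f) := fun z => by
  obtain ⟨x, y, hxy⟩ := h.2.2.2 z
  exact ⟨(x, y), by rw [β_apply, hxy]⟩

variable (X : Type u) [AddCommGroup X] [Module R X]

theorem α_rTensor_apply (x : X) :
    (TensorProduct.prodLeft R R R' (Localization.Away f) X) ((α R R' f).rTensor X (1 ⊗ₜ[R] x)) =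
      ((1 : R') ⊗ₜ[R] x, (1 : Localization.Away f) ⊗ₜ[R] x) := by
  simp [α]

theorem exists_pow_smul_eq_zero {x : X} (h : (1 : Localization.Away f) ⊗ₜ[R] x = 0) : ∃ n : ℕ, f ^ n • x = 0 := by
  haveI : IsLocalizedModule (Submonoid.powers f) (TensorProduct.mk R (Localization.Away f) X 1) :=
    (isLocalizedModule_iff_isBaseChange (Submonoid.powers f) (Localization.Away f) _).mpr
      (TensorProduct.isBaseChange R X (Localization.Away f))
  obtain ⟨⟨_, n, rfl⟩, hn⟩ := (IsLocalizedModule.eq_zero_iff (Submonoid.powers f)
    (TensorProduct.mk R (Localization.Away f) X 1)).mp h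
  exact ⟨n, hn⟩

theorem inj_iff : Function.Injective ((α R R' f).rTensor X) ↔ TInj R R' f X := by
  constructor
  · intro h x hx ⟨n, hn⟩
    have h0 : (α R R' f).rTensor X ((1 : R) ⊗ₜ[R] x) = 0 := by
      refine (TensorProduct.prodLeft R R R' (Localization.Away f) X).injective ?_
      rw [α_rTensor_apply, map_zero, hx]
      refine Prod.ext rfl (eq_zero_of_pow_smul (isUnit_f (f := f)) (n := n) ?_)
      rw [← TensorProduct.tmul_smul, hn, TensorProduct.tmul_zero]
    have := h (h0.trans (map_zero _).symm)
    simpa using congrArg (TensorProduct.lid R X) this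
  · intro h
    rw [injective_iff_map_eq_zero]
    intro z hz
    obtain ⟨x, rfl⟩ := (TensorProduct.lid R X).symm.surjective z
    rw [TensorProduct.lid_symm_apply] at hz ⊢
    have h1 := congrArg (TensorProduct.prodLeft R R R' (Localization.Away f) X) hz
    rw [α_rTensor_apply, map_zero] at h1
    obtain ⟨h2, h3⟩ := Prod.ext_iff.mp h1
    rw [h x h2 (exists_pow_smul_eq_zero X h3), TensorProduct.tmul_zero]

theorem tInj_self (h : EtGlue.IsGlueingPair R R' f) : TInj R R' f R := fun r hr ⟨n, hn⟩ => by
  refine α_injective h ((Prod.ext ?_ ?_ : α R R' f r = (0 : R' × Localization.Away f)).trans (map_zero _).symm)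
  · show algebraMap R R' r = 0
    simpa [Algebra.algebraMap_eq_smul_one, TensorProduct.smul_tmul'] using congrArg (TensorProduct.rid R R') hr
  · refine eq_zero_of_pow_smul (isUnit_f (f := f)) (n := n) ?_
    show f ^ n • algebraMap R (Localization.Away f) r = 0
    rw [Algebra.smul_def, ← map_mul, show f ^ n * r = 0 from hn, map_zero]

variable {X} in
/-- Tensoring with a module that is flat after inverting `f` preserves torsion injectivity. -/
theorem tInj_tensor (h : EtGlue.IsGlueingPair R R' f) (hX : TInj R R' f X) (M : Type u) [AddCommGroup M]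
    [Module R M] [Module.Flat (Localization.Away f) (Localization.Away f ⊗[R] M)] : TInj R R' f (X ⊗[R] M) := by
  letI : Algebra (Localization.Away f) (Localization.Away (algebraMap R R' f)) :=
    (Localization.awayMap (algebraMap R R') f).toAlgebra
  haveI : IsScalarTower R (Localization.Away f) (Localization.Away (algebraMap R R' f)) :=
    IsScalarTower.of_algebraMap_eq fun r => by
      show _ = Localization.awayMap (algebraMap R R') f (algebraMap R (Localization.Away f) r)
      rw [Localization.awayMap, IsLocalization.Away.map, IsLocalization.map_eq]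
      rfl
  haveI : Module.Flat R (Localization.Away f) := IsLocalization.flat _ (Submonoid.powers f)
  have hb := rTensor_exact X (αβ_exact h) (β_surjective h)
  have hs := LinearMap.rTensor_surjective X (β_surjective h)
  have key := rTensor_injective_of_localized_flat (Localization.Away f) ((α R R' f).rTensor X) ((β R R' f).rTensor X)
    ((inj_iff X).mpr hX) hb hs M
  rw [← inj_iff]
  have hc : ∀ z, (α R R' f).rTensor (X ⊗[R] M) z = (TensorProduct.assoc R _ X M)
      (((α R R' f).rTensor X).rTensor M ((TensorProduct.assoc R R X M).symm z)) := by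
    intro z
    induction z using TensorProduct.induction_on with
    | zero => simp
    | tmul r w =>
      induction w using TensorProduct.induction_on with
      | zero => simp
      | tmul a b => simp
      | add a b ha hb => simp only [TensorProduct.tmul_add, map_add, ha, hb]
    | add a b ha hb => simp only [map_add, ha, hb]
  intro z z' hz
  rw [hc, hc] at hz
  exact (TensorProduct.assoc R R X M).symm.injective (key ((TensorProduct.assoc R _ X M).injective hz))

variable {X} in
/-- A module which is flat after inverting `f` is torsion injective. -/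
theorem tInj_of_flat (h : EtGlue.IsGlueingPair R R' f) (M : Type u) [AddCommGroup M] [Module R M]
    [Module.Flat (Localization.Away f) (Localization.Away f ⊗[R] M)] : TInj R R' f M :=
  (tInj_tensor h (tInj_self h) M).of_injective (TensorProduct.lid R M).symm.toLinearMap
    (TensorProduct.lid R M).symm.injective

variable {X} in
/-- The middle exactness, valid for every module over a glueing pair. -/
theorem middle (h : EtGlue.IsGlueingPair R R' f) (x : R' ⊗[R] X) (y : X) (k : ℕ)
    (hxy : ∃ N : ℕ, f ^ N • (f ^ k • x - (1 : R') ⊗ₜ[R] y) = 0) :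
    ∃ μ : X, (1 : R') ⊗ₜ[R] μ = x ∧ ∃ N : ℕ, f ^ N • (f ^ k • μ - y) = 0 := by
  obtain ⟨N, hN⟩ := hxy
  set s : Localization.Away f := IsLocalization.Away.invSelf f
  have hs : algebraMap R (Localization.Away f) f * s = 1 := IsLocalization.Away.mul_invSelf f
  let z : (R' × Localization.Away f) ⊗[R] X :=
    (TensorProduct.prodLeft R R R' (Localization.Away f) X).symm (x, (s ^ k) ⊗ₜ[R] y)
  have h1 : ((IsScalarTower.toAlgHom R R' (Localization.Away (algebraMap R R' f))).toLinearMap).rTensor X x =
      (Localization.awayMap (algebraMap R R') f (s ^ k)) ⊗ₜ[R] y := by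
    refine sub_eq_zero.mp (eq_zero_of_pow_smul (B := Localization.Away (algebraMap R R' f)) isUnit_f' (n := N + k) ?_)
    have h2 := congrArg (((IsScalarTower.toAlgHom R R' (Localization.Away (algebraMap R R' f))).toLinearMap).rTensor X) hN
    rw [map_smul, map_sub, map_smul, map_zero, LinearMap.rTensor_tmul, AlgHom.toLinearMap_apply, map_one] at h2
    rw [pow_add, mul_smul, smul_sub, ← h2]
    congr 2
    rw [TensorProduct.smul_tmul']
    congr 1
    rw [Algebra.smul_def, IsScalarTower.algebraMap_apply R R' (Localization.Away (algebraMap R R' f)),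
      show algebraMap R' (Localization.Away (algebraMap R R' f)) (algebraMap R R' (f ^ k)) =
        Localization.awayMap (algebraMap R R') f (algebraMap R _ (f ^ k)) by
        rw [Localization.awayMap, IsLocalization.Away.map, IsLocalization.map_eq], ← map_mul, map_pow, ← mul_pow, hs,
      one_pow, map_one]
  have hz : (β R R' f).rTensor X z = 0 := by
    have hz' : ∀ (a : R' ⊗[R] X) (b : Localization.Away f) (c : X),
        (β R R' f).rTensor X ((TensorProduct.prodLeft R R R' (Localization.Away f) X).symm (a, b ⊗ₜ[R] c)) =
          ((IsScalarTower.toAlgHom R R' (Localization.Away (algebraMap R R' f))).toLinearMap).rTensor X a -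
            (Localization.awayMap (algebraMap R R') f b) ⊗ₜ[R] c := by
      intro a b c
      induction a using TensorProduct.induction_on with
      | zero =>
        rw [show ((TensorProduct.prodLeft R R R' (Localization.Away f) X).symm (0, b ⊗ₜ[R] c)) =
          ((0 : R'), b) ⊗ₜ[R] c from (LinearEquiv.symm_apply_eq _).mpr (by simp), LinearMap.rTensor_tmul, β_apply,
          map_zero, zero_sub, map_zero, zero_sub, TensorProduct.neg_tmul]
      | tmul r m =>
        rw [show ((TensorProduct.prodLeft R R R' (Localization.Away f) X).symm (r ⊗ₜ[R] m, b ⊗ₜ[R] c)) =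
          (r, (0 : Localization.Away f)) ⊗ₜ[R] m + ((0 : R'), b) ⊗ₜ[R] c from
            (LinearEquiv.symm_apply_eq _).mpr (by simp), map_add, LinearMap.rTensor_tmul, LinearMap.rTensor_tmul,
          β_apply, β_apply, map_zero, sub_zero, map_zero, zero_sub, TensorProduct.neg_tmul, ← sub_eq_add_neg,
          LinearMap.rTensor_tmul]
        rfl
      | add a a' ha ha' =>
        rw [show ((TensorProduct.prodLeft R R R' (Localization.Away f) X).symm (a + a', b ⊗ₜ[R] c)) =
          (TensorProduct.prodLeft R R R' (Localization.Away f) X).symm (a, b ⊗ₜ[R] c) +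
            (TensorProduct.prodLeft R R R' (Localization.Away f) X).symm (a', b ⊗ₜ[R] c) -
            ((0 : R'), b) ⊗ₜ[R] c from (LinearEquiv.symm_apply_eq _).mpr (by simp), map_sub, map_add, ha, ha',
          LinearMap.rTensor_tmul, β_apply, map_zero, zero_sub, TensorProduct.neg_tmul, map_add]
        abel
    rw [hz', h1, sub_self]
  obtain ⟨w, hw⟩ := (rTensor_exact X (αβ_exact h) (β_surjective h) z).mp hz
  obtain ⟨μ, rfl⟩ := (TensorProduct.lid R X).symm.surjective w
  rw [TensorProduct.lid_symm_apply] at hw
  replace hw := congrArg (TensorProduct.prodLeft R R R' (Localization.Away f) X) hw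
  rw [α_rTensor_apply, LinearEquiv.apply_symm_apply] at hw
  obtain ⟨e1, e2⟩ := Prod.ext_iff.mp hw
  refine ⟨μ, e1, exists_pow_smul_eq_zero X ?_⟩
  rw [TensorProduct.tmul_sub, TensorProduct.tmul_smul, sub_eq_zero, show (1 : Localization.Away f) ⊗ₜ[R] μ = _ from e2,
    TensorProduct.smul_tmul', Algebra.smul_def, map_pow, ← mul_pow, hs, one_pow]

variable {X} in
theorem exists_torsion (h : EtGlue.IsGlueingPair R R' f) (x : R' ⊗[R] X) {n : ℕ} (hx : f ^ n • x = 0) :
    ∃ μ : X, (1 : R') ⊗ₜ[R] μ = x ∧ ∃ N : ℕ, f ^ N • μ = 0 := by
  obtain ⟨μ, h1, N, h2⟩ := middle h x 0 n ⟨0, by simpa using hx⟩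
  exact ⟨μ, h1, N + n, by rw [pow_add, mul_smul]; simpa using h2⟩

end Groth.Agent.CAlgH.BLGlue
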