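import Mathlib
import Groth.Prelude.Def_EtGlue
import Groth.Agent.CAlgH.BLGlue

/-! Beauville–Laszlo glueing: glueable modules, flatness, finiteness, pullback modules. -/

open TensorProduct

namespace Groth.Agent.CAlgH.BLGlue

universe u v

variable {R : Type u} {R' : Type u} [CommRing R] [CommRing R'] [Algebra R R'] {f : R}
variable {X : Type u} [AddCommGroup X] [Module R X]

section Loc

variable (f X)

noncomputable def locEquiv :
    LocalizedModule (Submonoid.powers f) X ≃ₗ[Localization.Away f] Localization.Away f ⊗[R] X :=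
  haveI : IsLocalizedModule (Submonoid.powers f) (TensorProduct.mk R (Localization.Away f) X 1) :=
    (isLocalizedModule_iff_isBaseChange (Submonoid.powers f) (Localization.Away f) _).mpr
      (TensorProduct.isBaseChange R X (Localization.Away f))
  (IsLocalizedModule.iso (Submonoid.powers f) (TensorProduct.mk R (Localization.Away f) X 1)).extendScalarsOfIsLocalization
    (Submonoid.powers f) (Localization.Away f)

theorem flat_tensor_of_loc (h : Module.Flat (Localization.Away f) (LocalizedModule (Submonoid.powers f) X)) :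
    Module.Flat (Localization.Away f) (Localization.Away f ⊗[R] X) :=
  Module.Flat.of_linearEquiv (locEquiv f X).symm

theorem flat_loc_of_tensor (h : Module.Flat (Localization.Away f) (Localization.Away f ⊗[R] X)) :
    Module.Flat (Localization.Away f) (LocalizedModule (Submonoid.powers f) X) :=
  Module.Flat.of_linearEquiv (locEquiv f X)

end Loc

/-- Glueable means torsion injective. -/
theorem tInj_of_isGlueable (hX : EtGlue.IsGlueable R R' f X) : TInj R R' f X := fun x hx ⟨n, hn⟩ => by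
  refine hX.1 (show ((1 : R') ⊗ₜ[R] x, LocalizedModule.mkLinearMap (Submonoid.powers f) X x) =
    ((1 : R') ⊗ₜ[R] (0 : X), LocalizedModule.mkLinearMap (Submonoid.powers f) X 0) from Prod.ext ?_ ?_)
  · rw [hx, TensorProduct.tmul_zero]
  · rw [map_zero]
    exact (IsLocalizedModule.eq_zero_iff (Submonoid.powers f) _).mpr ⟨⟨f ^ n, n, rfl⟩, hn⟩

theorem injective_of_tInj (hX : TInj R R' f X) :
    Function.Injective (fun m : X => ((1 : R') ⊗ₜ[R] m, LocalizedModule.mkLinearMap (Submonoid.powers f) X m)) := by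
  intro a b h
  obtain ⟨h1, h2⟩ := Prod.ext_iff.mp h
  rw [← sub_eq_zero]
  refine hX _ (by rw [TensorProduct.tmul_sub, sub_eq_zero]; exact h1) ?_
  obtain ⟨⟨_, n, rfl⟩, hn⟩ := LocalizedModule.mk_eq.mp h2
  exact ⟨n, by simpa [smul_sub, sub_eq_zero, Submonoid.smul_def] using hn⟩

theorem tensorOfLoc_mk (m : X) (s : Submonoid.powers f) :
    EtGlue.tensorOfLoc R R' f X (LocalizedModule.mk m s) = LocalizedModule.mk ((1 : R') ⊗ₜ[R] m) s := by
  rw [IsLocalizedModule.mk_eq_mk', IsLocalizedModule.mk_eq_mk', IsLocalizedModule.map_mk']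
  rfl

theorem isGlueable_of_middle
    (hm : ∀ (x : R' ⊗[R] X) (y : X) (k : ℕ), (∃ N : ℕ, f ^ N • (f ^ k • x - (1 : R') ⊗ₜ[R] y) = 0) →
      ∃ μ : X, (1 : R') ⊗ₜ[R] μ = x ∧ ∃ N : ℕ, f ^ N • (f ^ k • μ - y) = 0)
    (hX : TInj R R' f X) : EtGlue.IsGlueable R R' f X := by
  refine ⟨injective_of_tInj hX, fun x y hxy => ?_⟩
  induction y using LocalizedModule.induction_on with
  | _ m s =>
    obtain ⟨_, k, rfl⟩ := s
    rw [tensorOfLoc_mk, EtGlue.locOfTensor, LocalizedModule.mkLinearMap_apply, LocalizedModule.mk_eq] at hxy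
    obtain ⟨⟨_, N, rfl⟩, hN⟩ := hxy
    simp only [Submonoid.smul_def, one_smul] at hN
    obtain ⟨μ, h1, N', h2⟩ := hm x m k ⟨N, by rw [smul_sub, hN, sub_self]⟩
    refine ⟨μ, h1, ?_⟩
    rw [LocalizedModule.mkLinearMap_apply, LocalizedModule.mk_eq]
    exact ⟨⟨f ^ N', N', rfl⟩, by simpa [smul_sub, sub_eq_zero, Submonoid.smul_def] using h2⟩

theorem isGlueable_iff (h : EtGlue.IsGlueingPair R R' f) : EtGlue.IsGlueable R R' f X ↔ TInj R R' f X :=
  ⟨tInj_of_isGlueable, isGlueable_of_middle (fun x y k hxy => middle h x y k hxy)⟩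

section QuotPow

theorem decomp (hq : EtGlue.QuotPowBijective R R' f) (n : ℕ) (z : R' ⊗[R] X) :
    ∃ (x : X) (z' : R' ⊗[R] X), z = (1 : R') ⊗ₜ[R] x + f ^ n • z' := by
  rcases Nat.eq_zero_or_pos n with rfl | hn
  · exact ⟨0, z, by simp⟩
  induction z using TensorProduct.induction_on with
  | zero => exact ⟨0, 0, by simp⟩
  | tmul r m =>
    obtain ⟨a, ha⟩ := (hq n hn).2 (Ideal.Quotient.mk _ r)
    obtain ⟨a, rfl⟩ := Ideal.Quotient.mk_surjective a
    rw [Ideal.quotientMap_mk, eq_comm, Ideal.Quotient.eq, Ideal.map_span, Set.image_singleton,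
      Ideal.mem_span_singleton'] at ha
    obtain ⟨t, ht⟩ := ha
    refine ⟨a • m, t ⊗ₜ[R] m, ?_⟩
    rw [show r = algebraMap R R' a + f ^ n • t by rw [Algebra.smul_def, mul_comm, ht]; ring,
      TensorProduct.add_tmul, TensorProduct.smul_tmul', TensorProduct.tmul_smul, TensorProduct.smul_tmul',
      Algebra.algebraMap_eq_smul_one]
  | add a b ha hb =>
    obtain ⟨x, z, rfl⟩ := ha
    obtain ⟨x', z', rfl⟩ := hb
    exact ⟨x + x', z + z', by rw [TensorProduct.tmul_add, smul_add]; abel⟩

theorem mem_of_tmul (hq : EtGlue.QuotPowBijective R R' f) (n : ℕ) (s : X) (z : R' ⊗[R] X)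
    (h : (1 : R') ⊗ₜ[R] s = f ^ n • z) : ∃ s' : X, s = f ^ n • s' := by
  rcases Nat.eq_zero_or_pos n with rfl | hn
  · exact ⟨s, by simp⟩
  let J := Ideal.span {f ^ n}
  let e := RingEquiv.ofBijective _ (hq n hn)
  obtain ⟨ρ, hρ⟩ : ∃ ρ : R' ⊗[R] X →ₗ[R] X ⧸ J • (⊤ : Submodule R X),
      ∀ m, ρ ((1 : R') ⊗ₜ[R] m) = Submodule.Quotient.mk m := by
    let q : R' →+* R ⧸ J := e.symm.toRingHom.comp (Ideal.Quotient.mk _)
    have hqa : ∀ r : R, q (algebraMap R R' r) = Ideal.Quotient.mk J r := fun r => by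
      show e.symm (Ideal.Quotient.mk _ (algebraMap R R' r)) = _
      rw [RingEquiv.symm_apply_eq]
      rfl
    let q' : R' →ₗ[R] R ⧸ J :=
      { toFun := q
        map_add' := map_add q
        map_smul' := fun r x => by rw [RingHom.id_apply, Algebra.smul_def, map_mul, hqa, Algebra.smul_def]; rfl }
    refine ⟨(TensorProduct.lid (R ⧸ J) (X ⧸ J • (⊤ : Submodule R X))).toLinearMap.restrictScalars R ∘ₗ
      ((TensorProduct.mapOfCompatibleSMul (R ⧸ J) R R (R ⧸ J) (X ⧸ J • (⊤ : Submodule R X))) ∘ₗ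
        TensorProduct.map q' (J • (⊤ : Submodule R X)).mkQ), fun m => ?_⟩
    show q 1 • (Submodule.Quotient.mk m : X ⧸ J • (⊤ : Submodule R X)) = _
    rw [map_one, one_smul]
  have h2 := congrArg ρ h
  rw [hρ, map_smul] at h2
  obtain ⟨w, hw⟩ := Submodule.Quotient.mk_surjective _ (ρ z)
  rw [← hw, ← Submodule.Quotient.mk_smul, Submodule.Quotient.eq, Submodule.ideal_span_singleton_smul,
    Submodule.mem_smul_pointwise_iff_exists] at h2
  obtain ⟨v, -, hv⟩ := h2
  exact ⟨w + v, by rw [smul_add, hv]; abel⟩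

end QuotPow

section Torsion

variable {N : Type v} [AddCommGroup N] [Module R N] (ι : X →ₗ[R] N)

/-- Torsion bijectivity gives middle exactness. -/
theorem middle_of_torsion (hinj : ∀ (n : ℕ) (s : X) (z : N), ι s = f ^ n • z → ∃ s', s = f ^ n • s')
    (htor : ∀ x : N, (∃ n : ℕ, f ^ n • x = 0) → ∃ t : X, (∃ n : ℕ, f ^ n • t = 0) ∧ ι t = x)
    (x : N) (y : X) (k : ℕ) (hxy : ∃ M : ℕ, f ^ M • (f ^ k • x - ι y) = 0) :
    ∃ μ : X, ι μ = x ∧ ∃ M : ℕ, f ^ M • (f ^ k • μ - y) = 0 := by
  obtain ⟨t, ⟨a, ha⟩, ht⟩ := htor _ hxy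
  obtain ⟨μ₀, hμ₀⟩ := hinj k (y + t) x (by rw [map_add, ht, add_sub_cancel])
  obtain ⟨t', ⟨b, hb⟩, ht'⟩ := htor (x - ι μ₀) ⟨k, by
    rw [smul_sub, ← map_smul, ← hμ₀, map_add, ht, add_sub_cancel, sub_self]⟩
  refine ⟨μ₀ + t', by rw [map_add, ht', add_sub_cancel], a + b, ?_⟩
  rw [smul_add (f ^ k), ← hμ₀, show y + t + f ^ k • t' - y = t + f ^ k • t' by abel, smul_add, pow_add, mul_smul,
    mul_smul, smul_comm (f ^ a) (f ^ b) t, ha, smul_zero, smul_comm (f ^ b) (f ^ k) t', hb, smul_zero, smul_zero,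
    add_zero]

end Torsion

/-- A submodule is everything if it is so after base change to `R'` and after inverting `f`. -/
theorem eq_top (h : EtGlue.IsGlueingPair R R' f) (S : Submodule R X) (h1 : ∀ x : X, ∃ n : ℕ, f ^ n • x ∈ S)
    (h2 : ∀ z : R' ⊗[R] X, z ∈ LinearMap.range (S.subtype.lTensor R')) : S = ⊤ := by
  have htor : ∀ q : X ⧸ S, ∃ n : ℕ, f ^ n • q = 0 := fun q => by
    obtain ⟨x, rfl⟩ := Submodule.Quotient.mk_surjective _ q
    obtain ⟨n, hn⟩ := h1 x
    exact ⟨n, by rw [← Submodule.Quotient.mk_smul, Submodule.Quotient.mk_eq_zero]; exact hn⟩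
  have : Subsingleton (Localization.Away f ⊗[R] (X ⧸ S)) := by
    refine ⟨fun a b => ?_⟩
    have : ∀ a : Localization.Away f ⊗[R] (X ⧸ S), a = 0 := fun a => by
      induction a using TensorProduct.induction_on with
      | zero => rfl
      | tmul c q =>
        obtain ⟨n, hn⟩ := htor q
        exact eq_zero_of_pow_smul (isUnit_f (f := f)) (n := n) (by rw [← TensorProduct.tmul_smul, hn, TensorProduct.tmul_zero])
      | add a b ha hb => rw [ha, hb, add_zero]
    rw [this a, this b]
  have hT : TInj R R' f (X ⧸ S) := tInj_of_flat h _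
  refine eq_top_iff.mpr fun x _ => (Submodule.Quotient.mk_eq_zero S).mp (hT _ ?_ (htor _))
  obtain ⟨w, hw⟩ := h2 ((1 : R') ⊗ₜ[R] x)
  rw [show ((1 : R') ⊗ₜ[R] (Submodule.Quotient.mk x : X ⧸ S)) = S.mkQ.lTensor R' ((1 : R') ⊗ₜ[R] x) from rfl, ← hw,
    ← LinearMap.comp_apply, ← LinearMap.lTensor_comp, show S.mkQ ∘ₗ S.subtype = 0 from by ext a; simp,
    LinearMap.lTensor_zero, LinearMap.zero_apply]

/-- Finiteness descends along a glueing pair. -/
theorem finite_of (h : EtGlue.IsGlueingPair R R' f) [Module.Finite R' (R' ⊗[R] X)]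
    (hf : Module.Finite (Localization.Away f) (LocalizedModule (Submonoid.powers f) X)) : Module.Finite R X := by
  classical
  obtain ⟨s, hs⟩ := hf.fg_top
  choose num hnum using fun y : LocalizedModule (Submonoid.powers f) X =>
    IsLocalizedModule.surj (Submonoid.powers f) (LocalizedModule.mkLinearMap (Submonoid.powers f) X) y
  obtain ⟨t, ht⟩ := (inferInstance : Module.Finite R' (R' ⊗[R] X)).fg_top
  choose supp hsupp using fun z : R' ⊗[R] X => TensorProduct.exists_finset z
  let T : Finset X := s.image (fun y => (num y).1) ∪ t.biUnion (fun z => (supp z).image Prod.snd)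
  refine ⟨⟨T, eq_top h _ (fun x => ?_) (fun z => ?_)⟩⟩
  · have hx : LocalizedModule.mkLinearMap (Submonoid.powers f) X x ∈ (Submodule.span R (T : Set X)).localized'
        (Localization.Away f) (Submonoid.powers f) (LocalizedModule.mkLinearMap (Submonoid.powers f) X) := by
      rw [Submodule.localized'_span]
      have hsub : (↑s : Set (LocalizedModule (Submonoid.powers f) X)) ⊆ (Submodule.span (Localization.Away f)
          ((LocalizedModule.mkLinearMap (Submonoid.powers f) X) '' (T : Set X)) : Set _) := by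
        intro y hy
        have h1 := hnum y
        have hu : IsUnit (algebraMap R (Localization.Away f) ((num y).2 : R)) :=
          IsLocalization.map_units (Localization.Away f) (num y).2
        rw [Submonoid.smul_def, ← IsScalarTower.algebraMap_smul (Localization.Away f)] at h1
        rw [SetLike.mem_coe, ← Submodule.smul_mem_iff_of_isUnit _ hu, h1]
        exact Submodule.subset_span ⟨_, Finset.mem_union_left _ (Finset.mem_image_of_mem _ hy), rfl⟩
      have h2 : LocalizedModule.mkLinearMap (Submonoid.powers f) X x ∈ Submodule.span (Localization.Away f)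
          (↑s : Set (LocalizedModule (Submonoid.powers f) X)) := by rw [hs]; exact Submodule.mem_top
      exact Submodule.span_le.mpr hsub h2
    rw [Submodule.mem_localized'] at hx
    obtain ⟨w, hw, ⟨_, n, rfl⟩, hxw⟩ := hx
    rw [IsLocalizedModule.mk'_eq_iff, Submonoid.smul_def, ← map_smul] at hxw
    obtain ⟨⟨_, k, rfl⟩, hk⟩ := (IsLocalizedModule.eq_iff_exists (Submonoid.powers f) _).mp hxw
    simp only [Submonoid.smul_def] at hk
    exact ⟨k + n, by rw [pow_add, mul_smul, ← hk]; exact Submodule.smul_mem _ _ hw⟩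
  · have : (t : Set (R' ⊗[R] X)) ⊆ LinearMap.range ((Submodule.span R (T : Set X)).subtype.lTensor R') := by
      intro z hz
      rw [hsupp z, SetLike.mem_coe]
      exact sum_mem fun a ha => ⟨a.1 ⊗ₜ ⟨a.2, Submodule.subset_span (Finset.mem_union_right _
        (Finset.mem_biUnion.mpr ⟨z, hz, Finset.mem_image_of_mem _ ha⟩))⟩, rfl⟩
    have hr : LinearMap.range ((Submodule.span R (T : Set X)).subtype.lTensor R') =
        (LinearMap.range ((Submodule.span R (T : Set X)).subtype.baseChange R')).restrictScalars R := rfl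
    rw [hr] at this ⊢
    have h2 : z ∈ Submodule.span R' (↑t : Set (R' ⊗[R] X)) := by rw [ht]; exact Submodule.mem_top
    rw [Submodule.restrictScalars_mem]
    rw [Submodule.coe_restrictScalars] at this
    exact Submodule.span_le.mpr this h2

end Groth.Agent.CAlgH.BLGlue
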