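import Mathlib
import Groth.Prelude.Def_EtGlue
import Groth.Agent.CAlgH.BLGlue
import Groth.Agent.CAlgH.BLGlue2

/-! Beauville–Laszlo glueing: flatness and finite projectivity descend. -/

open TensorProduct

namespace Groth.Agent.CAlgH.BLGlue

universe u v

variable {R : Type u} {R' : Type u} [CommRing R] [CommRing R'] [Algebra R R'] {f : R}

/-- Flatness descends along a glueing pair. -/
theorem flat_of (h : EtGlue.IsGlueingPair R R' f) (M : Type u) [AddCommGroup M] [Module R M]
    [Module.Flat R' (R' ⊗[R] M)] [Module.Flat (Localization.Away f) (Localization.Away f ⊗[R] M)] :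
    Module.Flat R M := by
  rw [Module.Flat.iff_rTensor_injective']
  intro I
  rw [injective_iff_map_eq_zero]
  intro z hz
  have : Module.Flat R (Localization.Away f) := IsLocalization.flat _ (Submonoid.powers f)
  have : Module.Flat R (Localization.Away f ⊗[R] M) := Module.Flat.trans R (Localization.Away f) _
  -- torsion
  have hT : ∃ n : ℕ, f ^ n • z = 0 := by
    refine exists_pow_smul_eq_zero (X := I ⊗[R] M) ?_
    let mk1 := TensorProduct.mk R (Localization.Away f) M 1
    have h0 : mk1.lTensor I z = 0 := by
      apply Module.Flat.rTensor_preserves_injective_linearMap (M := Localization.Away f ⊗[R] M) I.subtype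
        Subtype.val_injective
      rw [map_zero, ← LinearMap.comp_apply, LinearMap.rTensor_comp_lTensor, ← LinearMap.lTensor_comp_rTensor,
        LinearMap.comp_apply, hz, map_zero]
    have hc : ∀ w : I ⊗[R] M, TensorProduct.leftComm R I (Localization.Away f) M (mk1.lTensor I w) = 1 ⊗ₜ[R] w := by
      intro w
      induction w using TensorProduct.induction_on with
      | zero => simp
      | tmul a b => simp [mk1]
      | add a b ha hb => simp only [map_add, ha, hb, TensorProduct.tmul_add]
    rw [← hc, h0, map_zero]
  -- base change to `R'`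
  have hI : TInj R R' f I := (tInj_self h).of_injective I.subtype Subtype.val_injective
  refine tInj_tensor h hI M z ?_ hT
  let j := TensorProduct.mk R' (Localization.Away (algebraMap R R' f)) (R' ⊗[R] I) 1
  let Θ := ((I.subtype).baseChange R').prod j
  have hΘ : Function.Injective Θ := by
    rw [injective_iff_map_eq_zero]
    intro w hw
    obtain ⟨h1, h2⟩ := Prod.ext_iff.mp hw
    obtain ⟨n, hn⟩ := exists_pow_smul_eq_zero (R := R') (f := algebraMap R R' f) (X := R' ⊗[R] I) h2
    rw [← map_pow, algebraMap_smul] at hn
    obtain ⟨t, rfl, N, hN⟩ := exists_torsion h w hn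
    have ht : I.subtype t = 0 := tInj_self h _ h1 ⟨N, by rw [← map_smul, hN, map_zero]⟩
    rw [show t = 0 from Subtype.val_injective ht, TensorProduct.tmul_zero]
  let P := R' ⊗[R] M
  have hΘP : Function.Injective (Θ.rTensor P) := Module.Flat.rTensor_preserves_injective_linearMap Θ hΘ
  let D : R' ⊗[R] (I ⊗[R] M) ≃ₗ[R'] (R' ⊗[R] I) ⊗[R'] P := AlgebraTensorModule.distribBaseChange R R' I M
  let u := D ((1 : R') ⊗ₜ[R] z)
  have hu : u = 0 := by
    refine hΘP ?_
    rw [map_zero]
    refine (TensorProduct.prodLeft R' R' (R' ⊗[R] R) _ P).injective ?_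
    rw [map_zero]
    have hp : ∀ w, TensorProduct.prodLeft R' R' (R' ⊗[R] R) _ P (Θ.rTensor P w) =
        (((I.subtype).baseChange R').rTensor P w, j.rTensor P w) := by
      intro w
      induction w using TensorProduct.induction_on with
      | zero => simp only [map_zero]; rfl
      | tmul a b => simp [Θ]
      | add a b ha hb => simp only [map_add, ha, hb, Prod.mk_add_mk]
    rw [hp]
    refine Prod.ext ?_ ?_
    · have hc : ∀ w : I ⊗[R] M, ((I.subtype).baseChange R').rTensor P (D ((1 : R') ⊗ₜ[R] w)) =
          AlgebraTensorModule.distribBaseChange R R' R M ((1 : R') ⊗ₜ[R] (I.subtype.rTensor M w)) := by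
        intro w
        induction w using TensorProduct.induction_on with
        | zero => simp
        | tmul a b => simp [D, P, AlgebraTensorModule.distribBaseChange]
        | add a b ha hb => simp only [map_add, ha, hb, TensorProduct.tmul_add]
      show ((I.subtype).baseChange R').rTensor P u = 0
      rw [hc, hz, TensorProduct.tmul_zero, map_zero]
    · obtain ⟨n, hn⟩ := hT
      show j.rTensor P u = 0
      refine eq_zero_of_pow_smul (R := R') (B := Localization.Away (algebraMap R R' f)) (isUnit_f (f := algebraMap R R' f))
        (N := (Localization.Away (algebraMap R R' f) ⊗[R'] (R' ⊗[R] I)) ⊗[R'] P) (n := n) ?_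
      show algebraMap R R' f ^ n • j.rTensor P u = 0
      rw [← map_smul, ← map_smul, ← map_pow, algebraMap_smul, ← TensorProduct.tmul_smul, hn, TensorProduct.tmul_zero,
        map_zero, map_zero]
  exact D.injective (hu.trans D.map_zero.symm)

theorem finite_tensor_ker (S : Type u) [CommRing S] [Algebra R S] {F M : Type u} [AddCommGroup F] [Module R F]
    [AddCommGroup M] [Module R M] [Module.Finite R F] [Module.Flat R M] [Module.Finite S (S ⊗[R] M)]
    [Module.Projective S (S ⊗[R] M)] (π : F →ₗ[R] M) (hπ : Function.Surjective π) :
    Module.Finite S (S ⊗[R] LinearMap.ker π) := by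
  have := Module.finitePresentation_of_projective S (S ⊗[R] M)
  have hinj : Function.Injective ((LinearMap.ker π).subtype.baseChange S) :=
    LinearMap.lTensor_injective_of_exact_of_flat π hπ (LinearMap.ker π).subtype Subtype.val_injective
      π.exact_subtype_ker_map S
  have hfg := Module.FinitePresentation.fg_ker (π.baseChange S) (LinearMap.lTensor_surjective S hπ)
  have hex : Function.Exact ((LinearMap.ker π).subtype.baseChange S) (π.baseChange S) :=
    lTensor_exact S π.exact_subtype_ker_map hπ
  rw [LinearMap.exact_iff.mp hex] at hfg
  have := Module.Finite.iff_fg.mpr hfg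
  exact Module.Finite.equiv (LinearEquiv.ofInjective _ hinj).symm

/-- Finite projective modules descend along a glueing pair. -/
theorem finite_projective_of (h : EtGlue.IsGlueingPair R R' f) (M : Type u) [AddCommGroup M] [Module R M]
    [Module.Finite R' (R' ⊗[R] M)] [Module.Projective R' (R' ⊗[R] M)]
    [Module.Finite (Localization.Away f) (Localization.Away f ⊗[R] M)]
    [Module.Projective (Localization.Away f) (Localization.Away f ⊗[R] M)] :
    Module.Finite R M ∧ Module.Projective R M := by
  have hfin : Module.Finite R M := finite_of h (Module.Finite.equiv (locEquiv f M).symm)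
  have := flat_of h M
  obtain ⟨n, π, hπ⟩ := Module.Finite.exists_fin' R M
  have hK1 := finite_tensor_ker R' π hπ
  have hK2 := finite_tensor_ker (Localization.Away f) π hπ
  have hK : Module.Finite R (LinearMap.ker π) := finite_of h (Module.Finite.equiv (locEquiv f (LinearMap.ker π)).symm)
  have := Module.finitePresentation_of_surjective π hπ (Module.Finite.iff_fg.mp hK)
  exact ⟨hfin, Module.Flat.projective_of_finitePresentation⟩

end Groth.Agent.CAlgH.BLGlue
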