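import Mathlib
import Groth.Prelude.Def_EtGlue
import Groth.Agent.CAlgH.BLGlue
import Groth.Agent.CAlgH.BLGlue2

/-! Beauville–Laszlo glueing: the fibre product of a compatible pair of modules. -/

open TensorProduct

namespace Groth.Agent.CAlgH.BLGlue

universe u

variable {R : Type u} {R' : Type u} [CommRing R] [CommRing R'] [Algebra R R'] {f : R}
variable {M M' M₁ : Type u} [AddCommGroup M] [Module R M] [AddCommGroup M'] [Module R M'] [Module R' M']
  [IsScalarTower R R' M'] [AddCommGroup M₁] [Module R M₁]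

variable (f) in
/-- `M` is a fibre product of `M'` and `M₁` over `R' ⊗ M₁`, where `γ` becomes invertible after inverting `f`. -/
structure PullData (γ : M' →ₗ[R'] R' ⊗[R] M₁) (p' : M →ₗ[R] M') (p₁ : M →ₗ[R] M₁) : Prop where
  bij : Function.Bijective fun x : M₁ => f • x
  comm : ∀ m, γ (p' m) = (1 : R') ⊗ₜ[R] p₁ m
  ext : ∀ m, p' m = 0 → p₁ m = 0 → m = 0
  lift : ∀ x' x₁, γ x' = (1 : R') ⊗ₜ[R] x₁ → ∃ m, p' m = x' ∧ p₁ m = x₁
  ker_torsion : ∀ x, γ x = 0 → ∃ n : ℕ, f ^ n • x = 0
  surj : ∀ k, ∃ (n : ℕ) (x : M'), f ^ n • k = γ x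

variable {γ : M' →ₗ[R'] R' ⊗[R] M₁} {p' : M →ₗ[R] M'} {p₁ : M →ₗ[R] M₁}

theorem PullData.bij_pow (d : PullData f γ p' p₁) : ∀ n : ℕ, Function.Bijective fun x : M₁ => f ^ n • x
  | 0 => by simp only [pow_zero, one_smul]; exact Function.bijective_id
  | n + 1 => by
    have := (d.bij_pow n).comp d.bij
    simpa [Function.comp_def, pow_succ, mul_smul] using this

theorem PullData.isLocalizedModule (d : PullData f γ p' p₁) : IsLocalizedModule (Submonoid.powers f) p₁ where
  map_units := by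
    rintro ⟨_, n, rfl⟩
    rw [Module.End.isUnit_iff]
    exact d.bij_pow n
  surj x₁ := by
    obtain ⟨n, x, hx⟩ := d.surj ((1 : R') ⊗ₜ[R] x₁)
    obtain ⟨m, -, hm⟩ := d.lift x (f ^ n • x₁) (by rw [← hx, TensorProduct.tmul_smul])
    exact ⟨⟨m, ⟨f ^ n, n, rfl⟩⟩, hm.symm⟩
  exists_of_eq {a b} h := by
    obtain ⟨n, hn⟩ := d.ker_torsion (p' a - p' b) (by rw [map_sub, d.comm, d.comm, h, sub_self])
    refine ⟨⟨f ^ n, n, rfl⟩, sub_eq_zero.mp (d.ext _ ?_ ?_)⟩
    · show p' (f ^ n • a - f ^ n • b) = 0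
      rw [map_sub, map_smul, map_smul, ← smul_sub, hn]
    · show p₁ (f ^ n • a - f ^ n • b) = 0
      rw [map_sub, map_smul, map_smul, h, sub_self]

theorem PullData.surjective (h : EtGlue.IsGlueingPair R R' f) (d : PullData f γ p' p₁) :
    Function.Surjective (p'.liftBaseChange R') := by
  have key : ∀ k, ∃ (s : R' ⊗[R] M) (y : M₁), k = γ (p'.liftBaseChange R' s) + (1 : R') ⊗ₜ[R] y := by
    intro k
    induction k using TensorProduct.induction_on with
    | zero => exact ⟨0, 0, by simp⟩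
    | tmul r y =>
      have := d.isLocalizedModule
      obtain ⟨⟨m, _, n, rfl⟩, hm⟩ := IsLocalizedModule.surj (Submonoid.powers f) p₁ y
      obtain ⟨a, z, hz⟩ := decomp (X := R) h.1 n (r ⊗ₜ[R] (1 : R))
      have hr : r = a • (1 : R') + f ^ n • (TensorProduct.rid R R' z) := by
        have := congrArg (TensorProduct.rid R R') hz
        simpa using this
      refine ⟨TensorProduct.rid R R' z ⊗ₜ[R] m, a • y, ?_⟩
      conv_lhs => rw [hr]
      rw [LinearMap.liftBaseChange_tmul, map_smul, d.comm, TensorProduct.smul_tmul', smul_eq_mul, mul_one,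
        TensorProduct.tmul_smul, TensorProduct.smul_tmul', TensorProduct.add_tmul, add_comm]
      congr 1
      rw [← TensorProduct.smul_tmul', ← TensorProduct.tmul_smul]
      exact congrArg _ hm
    | add a b ha hb =>
      obtain ⟨s, y, rfl⟩ := ha
      obtain ⟨s', y', rfl⟩ := hb
      exact ⟨s + s', y + y', by simp only [map_add, TensorProduct.tmul_add]; abel⟩
  intro x'
  obtain ⟨s, y, hs⟩ := key (γ x')
  obtain ⟨m, hm, -⟩ := d.lift (x' - p'.liftBaseChange R' s) y (by rw [map_sub, hs, add_sub_cancel_left])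
  exact ⟨s + (1 : R') ⊗ₜ[R] m, by rw [map_add, LinearMap.liftBaseChange_tmul, one_smul, hm, add_sub_cancel]⟩

theorem PullData.injective (h : EtGlue.IsGlueingPair R R' f) (d : PullData f γ p' p₁) :
    Function.Injective (p'.liftBaseChange R') := by
  have := d.isLocalizedModule
  rw [injective_iff_map_eq_zero]
  intro w hw
  have hw1 : p₁.lTensor R' w = 0 := by
    rw [show p₁.lTensor R' w = γ (p'.liftBaseChange R' w) from ?_, hw, map_zero]
    clear hw
    induction w using TensorProduct.induction_on with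
    | zero => simp
    | tmul r m => rw [LinearMap.lTensor_tmul, LinearMap.liftBaseChange_tmul, map_smul, d.comm, TensorProduct.smul_tmul',
        smul_eq_mul, mul_one]
    | add a b ha hb => simp only [map_add, ha, hb]
  let Ψ : R' ⊗[R] M₁ →ₗ[R] LocalizedModule (Submonoid.powers f) (R' ⊗[R] M) :=
    TensorProduct.lift ((IsLocalizedModule.map (Submonoid.powers f) p₁
      (LocalizedModule.mkLinearMap (Submonoid.powers f) (R' ⊗[R] M))) ∘ₗ TensorProduct.mk R R' M)
  have hΨ : ∀ v, Ψ (p₁.lTensor R' v) = LocalizedModule.mkLinearMap (Submonoid.powers f) _ v := by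
    intro v
    induction v using TensorProduct.induction_on with
    | zero => simp
    | tmul r m => simp [Ψ, IsLocalizedModule.map_apply]
    | add a b ha hb => simp only [map_add, ha, hb]
  obtain ⟨⟨_, n, rfl⟩, hn⟩ := (IsLocalizedModule.eq_zero_iff (Submonoid.powers f)
    (LocalizedModule.mkLinearMap (Submonoid.powers f) (R' ⊗[R] M))).mp
    (by rw [← hΨ w, hw1, map_zero])
  obtain ⟨μ, rfl, N, hN⟩ := exists_torsion h w hn
  rw [LinearMap.liftBaseChange_tmul, one_smul] at hw
  rw [d.ext μ hw ((d.bij_pow N).1 (by simp only [smul_zero]; rw [← map_smul, hN, map_zero])), TensorProduct.tmul_zero]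

theorem PullData.isGlueable (h : EtGlue.IsGlueingPair R R' f) (d : PullData f γ p' p₁) :
    EtGlue.IsGlueable R R' f M :=
  (isGlueable_iff h).mpr fun μ hμ ⟨N, hN⟩ => d.ext μ
    (by simpa using congrArg (p'.liftBaseChange R') hμ)
    ((d.bij_pow N).1 (by simp only [smul_zero]; rw [← map_smul, hN, map_zero]))

/-- The comparison `R' ⊗ M ≃ M'`. -/
noncomputable def PullData.equiv' (h : EtGlue.IsGlueingPair R R' f) (d : PullData f γ p' p₁) :
    R' ⊗[R] M ≃ₗ[R'] M' :=
  LinearEquiv.ofBijective (p'.liftBaseChange R') ⟨d.injective h, d.surjective h⟩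

theorem PullData.equiv'_tmul (h : EtGlue.IsGlueingPair R R' f) (d : PullData f γ p' p₁) (r : R') (m : M) :
    d.equiv' h (r ⊗ₜ[R] m) = r • p' m :=
  LinearMap.liftBaseChange_tmul ..

end Groth.Agent.CAlgH.BLGlue
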