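import Mathlib
import Groth.Prelude.Def_EtGlue
import Groth.Agent.S2004
import Groth.Agent.CAlgH.BLGlue
import Groth.Agent.CAlgH.BLGlue2
import Groth.Agent.CAlgH.BLGlue3

/-! Beauville–Laszlo glueing: the relative glueing pair `A → R' ⊗ A` and descent for algebras. -/

open TensorProduct

namespace Groth.Agent.CAlgH.BLGlue

universe u

variable {R : Type u} {R' : Type u} [CommRing R] [CommRing R'] [Algebra R R'] {f : R}
variable {A B : Type u} [CommRing A] [Algebra R A] [CommRing B] [Algebra R B]

attribute [local instance] Algebra.TensorProduct.rightAlgebra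

theorem smul_right_pow (n : ℕ) (w : R' ⊗[R] A) :
    f ^ n • w = algebraMap A (R' ⊗[R] A) (algebraMap R A f) ^ n * w := by
  rw [Algebra.smul_def, map_pow, IsScalarTower.algebraMap_apply R A (R' ⊗[R] A)]

/-- The base change of a glueing pair to a glueable algebra. -/
theorem relPair (h : EtGlue.IsGlueingPair R R' f) (hA : EtGlue.IsGlueable R R' f A) :
    EtGlue.IsGlueingPair A (R' ⊗[R] A) (algebraMap R A f) := by
  have hmk : ∀ a : A, algebraMap A (R' ⊗[R] A) a = (1 : R') ⊗ₜ[R] a := fun a => rfl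
  have hq : EtGlue.QuotPowBijective A (R' ⊗[R] A) (algebraMap R A f) := by
    intro n hn
    constructor
    · rw [injective_iff_map_eq_zero]
      intro a ha
      obtain ⟨a, rfl⟩ := Ideal.Quotient.mk_surjective a
      rw [Ideal.quotientMap_mk, Ideal.Quotient.eq_zero_iff_mem, Ideal.map_span, Set.image_singleton,
        Ideal.mem_span_singleton'] at ha
      obtain ⟨z, hz⟩ := ha
      obtain ⟨s, hs⟩ := mem_of_tmul h.1 n a z (by rw [← hmk, ← hz, smul_right_pow, mul_comm, map_pow])
      rw [Ideal.Quotient.eq_zero_iff_mem, Ideal.mem_span_singleton']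
      exact ⟨s, by rw [hs, Algebra.smul_def, map_pow, mul_comm]⟩
    · intro z
      obtain ⟨z, rfl⟩ := Ideal.Quotient.mk_surjective z
      obtain ⟨x, w, rfl⟩ := decomp h.1 n z
      refine ⟨Ideal.Quotient.mk _ x, ?_⟩
      rw [Ideal.quotientMap_mk, Ideal.Quotient.eq, Ideal.map_span, Set.image_singleton, Ideal.mem_span_singleton',
        map_pow]
      exact ⟨-w, by rw [smul_right_pow, hmk x]; ring⟩
  refine (Groth.Agent.S2004.result A (R' ⊗[R] A) _ hq).mpr ⟨fun a ⟨n, hn⟩ ha => ?_, fun z ⟨n, hn⟩ => ?_⟩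
  · exact tInj_of_isGlueable hA a ha ⟨n, by rw [Algebra.smul_def, map_pow]; exact hn⟩
  · obtain ⟨a, rfl, N, hN⟩ := exists_torsion h z (n := n) (by rw [smul_right_pow]; exact hn)
    exact ⟨a, ⟨N, by rwa [Algebra.smul_def, map_pow] at hN⟩, rfl⟩

variable (φ : A →ₐ[R] B) [Algebra A B] [IsScalarTower R A B]

theorem iff_tensor_map (P : ∀ {S T : Type u} [CommRing S] [CommRing T], (S →+* T) → Prop)
    (hP : RingHom.RespectsIso P) (hφ : ∀ a, φ a = algebraMap A B a) :
    P (Algebra.TensorProduct.map (AlgHom.id R R') φ).toRingHom ↔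
      P (algebraMap (R' ⊗[R] A) ((R' ⊗[R] A) ⊗[A] B)) := by
  let ψ := Algebra.TensorProduct.map (AlgHom.id R R') φ
  letI : Algebra (R' ⊗[R] A) (R' ⊗[R] B) := ψ.toRingHom.toAlgebra
  letI : Algebra A (R' ⊗[R] B) := ((algebraMap B (R' ⊗[R] B)).comp (algebraMap A B)).toAlgebra
  have : IsScalarTower A B (R' ⊗[R] B) := IsScalarTower.of_algebraMap_eq' rfl
  have : IsScalarTower A (R' ⊗[R] A) (R' ⊗[R] B) := IsScalarTower.of_algebraMap_eq fun a => by
    show (1 : R') ⊗ₜ[R] algebraMap A B a = ψ ((1 : R') ⊗ₜ[R] a)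
    simp [ψ, hφ]
  have : IsScalarTower R' (R' ⊗[R] A) (R' ⊗[R] B) := IsScalarTower.of_algebraMap_eq fun r => by
    show r ⊗ₜ[R] (1 : B) = ψ (r ⊗ₜ[R] (1 : A))
    simp [ψ]
  have : IsScalarTower R (R' ⊗[R] A) (R' ⊗[R] B) := IsScalarTower.of_algebraMap_eq fun r => by
    show algebraMap R R' r ⊗ₜ[R] (1 : B) = ψ (algebraMap R R' r ⊗ₜ[R] (1 : A))
    simp [ψ]
  have : Algebra.IsPushout A B (R' ⊗[R] A) (R' ⊗[R] B) :=
    (Algebra.IsPushout.comp_iff (R := R) (S := A) (R' := R') (S' := R' ⊗[R] A) (T := B) (T' := R' ⊗[R] B)).mp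
      inferInstance
  have := Algebra.IsPushout.symm this
  let e := Algebra.IsPushout.equiv A (R' ⊗[R] A) B (R' ⊗[R] B)
  have he : ψ.toRingHom = e.toRingEquiv.toRingHom.comp (algebraMap (R' ⊗[R] A) ((R' ⊗[R] A) ⊗[A] B)) :=
    RingHom.ext fun x => (e.commutes x).symm
  have he' : algebraMap (R' ⊗[R] A) ((R' ⊗[R] A) ⊗[A] B) = e.symm.toRingEquiv.toRingHom.comp ψ.toRingHom :=
    RingHom.ext fun x => (e.symm.commutes x).symm
  refine ⟨fun h => ?_, fun h => ?_⟩
  · rw [he']; exact hP.1 _ _ h
  · show P ψ.toRingHom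
    rw [he]; exact hP.1 _ _ h

theorem iff_awayMap (P : ∀ {S T : Type u} [CommRing S] [CommRing T], (S →+* T) → Prop)
    (hP : RingHom.RespectsIso P) (hφ : ∀ a, φ a = algebraMap A B a) (g : A) :
    P (Localization.awayMap φ.toRingHom g) ↔
      P (algebraMap (Localization.Away g) (Localization.Away g ⊗[A] B)) := by
  have hφ' : φ.toRingHom = algebraMap A B := RingHom.ext hφ
  rw [hφ']
  letI : Algebra (Localization.Away g) (Localization.Away (algebraMap A B g)) :=
    (Localization.awayMap (algebraMap A B) g).toAlgebra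
  have : IsScalarTower A (Localization.Away g) (Localization.Away (algebraMap A B g)) :=
    IsScalarTower.of_algebraMap_eq fun a => by
      show _ = Localization.awayMap (algebraMap A B) g (algebraMap A (Localization.Away g) a)
      rw [Localization.awayMap, IsLocalization.Away.map, IsLocalization.map_eq]
      rfl
  have : IsLocalization (Algebra.algebraMapSubmonoid B (Submonoid.powers g))
      (Localization.Away (algebraMap A B g)) := by
    rw [Algebra.algebraMapSubmonoid, Submonoid.map_powers]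
    infer_instance
  have : Algebra.IsPushout A (Localization.Away g) B (Localization.Away (algebraMap A B g)) :=
    (Algebra.isPushout_of_isLocalization (Submonoid.powers g) (Localization.Away g) B _).symm
  let e := Algebra.IsPushout.equiv A (Localization.Away g) B (Localization.Away (algebraMap A B g))
  have he : Localization.awayMap (algebraMap A B) g =
      e.toRingEquiv.toRingHom.comp (algebraMap (Localization.Away g) (Localization.Away g ⊗[A] B)) :=
    RingHom.ext fun x => (e.commutes x).symm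
  have he' : algebraMap (Localization.Away g) (Localization.Away g ⊗[A] B) =
      e.symm.toRingEquiv.toRingHom.comp (Localization.awayMap (algebraMap A B) g) :=
    RingHom.ext fun x => (e.symm.commutes x).symm
  refine ⟨fun h => ?_, fun h => ?_⟩
  · rw [he']; exact hP.1 _ _ h
  · rw [he]; exact hP.1 _ _ h

end Groth.Agent.CAlgH.BLGlue
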