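import Mathlib
import Groth.Prelude.Def_EtGlue
import Groth.Agent.CAlgH.BLGlue
import Groth.Agent.CAlgH.BLGlue2
import Groth.Agent.CAlgH.BLGlue3

/-! Beauville–Laszlo glueing: descent of finite type, finite presentation and étale algebras. -/

open TensorProduct

namespace Groth.Agent.CAlgH.BLGlue

universe u

variable {A : Type u} {A' : Type u} [CommRing A] [CommRing A'] [Algebra A A'] {g : A}

/-- A submodule is everything if it is so after both base changes. -/
theorem eq_top_of_tensor {X : Type u} [AddCommGroup X] [Module A X] (h : EtGlue.IsGlueingPair A A' g)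
    (S : Submodule A X) (h1 : Function.Surjective (S.subtype.lTensor (Localization.Away g)))
    (h2 : Function.Surjective (S.subtype.lTensor A')) : S = ⊤ := by
  refine eq_top h S (fun x => ?_) h2
  obtain ⟨w, hw⟩ := h1 ((1 : Localization.Away g) ⊗ₜ[A] x)
  obtain ⟨n, hn⟩ := exists_pow_smul_eq_zero (R := A) (f := g) (X := X ⧸ S) (x := S.mkQ x) (by
    rw [← LinearMap.lTensor_tmul, ← hw, ← LinearMap.comp_apply, ← LinearMap.lTensor_comp,
      show S.mkQ ∘ₗ S.subtype = 0 from by ext a; simp, LinearMap.lTensor_zero, LinearMap.zero_apply])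
  exact ⟨n, (Submodule.Quotient.mk_eq_zero S).mp hn⟩

variable {B : Type u} [CommRing B] [Algebra A B]

theorem surjective_of_tensor (h : EtGlue.IsGlueingPair A A' g)
    (h1 : Function.Surjective (algebraMap (Localization.Away g) (Localization.Away g ⊗[A] B)))
    (h2 : Function.Surjective (algebraMap A' (A' ⊗[A] B))) : Function.Surjective (algebraMap A B) := by
  have key : ∀ (S : Type u) [CommRing S] [Algebra A S], Function.Surjective (algebraMap S (S ⊗[A] B)) →
      Function.Surjective ((LinearMap.range (Algebra.linearMap A B)).subtype.lTensor S) := by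
    intro S _ _ hs z
    obtain ⟨x, rfl⟩ := hs z
    exact ⟨x ⊗ₜ[A] ⟨1, 1, by simp⟩, rfl⟩
  exact LinearMap.range_eq_top.mp (eq_top_of_tensor h _ (key _ h1) (key _ h2))

theorem exists_finset_adjoin (S : Type u) [CommRing S] [Algebra A S] [Algebra.FiniteType S (S ⊗[A] B)] :
    ∃ T : Finset B, ∀ T' : Finset B, T ⊆ T' →
      Function.Surjective ((Subalgebra.toSubmodule (Algebra.adjoin A (T' : Set B))).subtype.lTensor S) := by
  classical
  obtain ⟨s, hs⟩ := ‹Algebra.FiniteType S (S ⊗[A] B)›.out
  choose supp hsupp using fun z : S ⊗[A] B => TensorProduct.exists_finset z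
  refine ⟨s.biUnion fun z => (supp z).image Prod.snd, fun T' hT => ?_⟩
  let C := Algebra.adjoin A (T' : Set B)
  let ψ := Algebra.TensorProduct.map (AlgHom.id S S) C.val
  have hψ : ψ.range = ⊤ := by
    refine top_le_iff.mp (hs ▸ Algebra.adjoin_le fun z hz => ?_)
    rw [hsupp z]
    exact sum_mem fun a ha => ⟨a.1 ⊗ₜ ⟨a.2, Algebra.subset_adjoin (hT (Finset.mem_biUnion.mpr
      ⟨z, hz, Finset.mem_image_of_mem _ ha⟩))⟩, by simp [ψ]⟩
  intro z
  obtain ⟨w, rfl⟩ := AlgHom.range_eq_top ψ |>.mp hψ z
  exact ⟨w, rfl⟩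

/-- Finite type descends along a glueing pair. -/
theorem finiteType_of (h : EtGlue.IsGlueingPair A A' g) [Algebra.FiniteType A' (A' ⊗[A] B)]
    [Algebra.FiniteType (Localization.Away g) (Localization.Away g ⊗[A] B)] : Algebra.FiniteType A B := by
  classical
  obtain ⟨T₁, h1⟩ := exists_finset_adjoin (A := A) (B := B) (Localization.Away g)
  obtain ⟨T₂, h2⟩ := exists_finset_adjoin (A := A) (B := B) A'
  refine ⟨⟨T₁ ∪ T₂, ?_⟩⟩
  exact Algebra.toSubmodule_eq_top.mp
    (eq_top_of_tensor h _ (h1 _ Finset.subset_union_left) (h2 _ Finset.subset_union_right))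

theorem exists_finset_ker {P : Type u} [CommRing P] [Algebra A P] (π : P →ₐ[A] B) (hπ : Function.Surjective π)
    [Module.Flat A B] (S : Type u) [CommRing S] [Algebra A S] [Algebra.FinitePresentation S (S ⊗[A] P)]
    [Algebra.FinitePresentation S (S ⊗[A] B)] :
    ∃ T : Finset P, (T : Set P) ⊆ RingHom.ker π ∧ ∀ T' : Finset P, T ⊆ T' → (T' : Set P) ⊆ RingHom.ker π →
      Function.Surjective ((((Ideal.span (T' : Set P)).restrictScalars A).comap
        ((RingHom.ker π).restrictScalars A).subtype).subtype.lTensor S) := by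
  classical
  let K : Ideal P := RingHom.ker π
  let inc : P →ₐ[A] S ⊗[A] P := Algebra.TensorProduct.includeRight
  let πS := Algebra.TensorProduct.map (AlgHom.id S S) π
  have hker : (RingHom.ker πS.toRingHom) = K.map inc := Algebra.TensorProduct.lTensor_ker π hπ
  have hfg : (K.map inc).FG := by
    rw [← hker]
    exact Algebra.FinitePresentation.ker_fG_of_surjective πS
      (Algebra.TensorProduct.map_surjective _ _ Function.surjective_id hπ)
  obtain ⟨s', hs', hspan⟩ := (Submodule.fg_span_iff_fg_span_finset_subset _).mp hfg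
  choose pre hpre hpre' using fun z : s' => hs' z.2
  refine ⟨Finset.univ.image pre, fun p hp => ?_, fun T' hT hT' => ?_⟩
  · obtain ⟨z, -, rfl⟩ := Finset.mem_image.mp hp
    exact hpre z
  let J : Ideal P := Ideal.span (T' : Set P)
  have hJK : J ≤ K := Ideal.span_le.mpr hT'
  have hmap : K.map inc ≤ J.map inc := by
    refine hspan.le.trans (Submodule.span_le.mpr fun z hz => ?_)
    have h' := Ideal.mem_map_of_mem inc (I := J) (Ideal.subset_span (hT (Finset.mem_image_of_mem pre (Finset.mem_univ ⟨z, hz⟩))))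
    rw [hpre'] at h'
    exact h'
  let i := (K.restrictScalars A).subtype
  let S₀ := (J.restrictScalars A).comap i
  have hinj : Function.Injective (i.lTensor S) := by
    refine LinearMap.lTensor_injective_of_exact_of_flat π.toLinearMap hπ i Subtype.val_injective ?_ S
    intro x
    exact ⟨fun hx => ⟨⟨x, hx⟩, rfl⟩, by rintro ⟨y, rfl⟩; exact y.2⟩
  intro z
  have hz : i.lTensor S z ∈ (K.map inc).restrictScalars A := by
    rw [Ideal.map_includeRight_eq]
    exact ⟨z, rfl⟩
  have hz' : i.lTensor S z ∈ (J.map inc).restrictScalars A := hmap hz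
  rw [Ideal.map_includeRight_eq] at hz'
  obtain ⟨w, hw⟩ := hz'
  let j : J.restrictScalars A →ₗ[A] S₀ := LinearMap.codRestrict _ (Submodule.inclusion hJK) fun x => x.2
  refine ⟨j.lTensor S w, hinj ?_⟩
  rw [← hw, ← LinearMap.comp_apply, ← LinearMap.comp_apply, ← LinearMap.lTensor_comp, ← LinearMap.lTensor_comp]
  rfl

/-- Flat algebras of finite presentation descend along a glueing pair. -/
theorem finitePresentation_of (h : EtGlue.IsGlueingPair A A' g) [Module.Flat A B]
    [Algebra.FinitePresentation A' (A' ⊗[A] B)]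
    [Algebra.FinitePresentation (Localization.Away g) (Localization.Away g ⊗[A] B)] :
    Algebra.FinitePresentation A B := by
  classical
  obtain ⟨n, π, hπ⟩ := Algebra.FiniteType.iff_quotient_mvPolynomial''.mp (finiteType_of (B := B) h)
  obtain ⟨T₁, hT₁, h1⟩ := exists_finset_ker π hπ (Localization.Away g)
  obtain ⟨T₂, hT₂, h2⟩ := exists_finset_ker π hπ A'
  have hT : ((T₁ ∪ T₂ : Finset _) : Set (MvPolynomial (Fin n) A)) ⊆ (RingHom.ker π : Set (MvPolynomial (Fin n) A)) := by
    rw [Finset.coe_union]; exact Set.union_subset hT₁ hT₂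
  have htop := eq_top_of_tensor h _ (h1 _ Finset.subset_union_left hT) (h2 _ Finset.subset_union_right hT)
  refine Algebra.FinitePresentation.of_surjective hπ ⟨T₁ ∪ T₂, le_antisymm (Submodule.span_le.mpr hT) fun x hx => ?_⟩
  have : (⟨x, hx⟩ : (RingHom.ker π).restrictScalars A) ∈ ((Ideal.span ((T₁ ∪ T₂ : Finset _) : Set _)).restrictScalars A).comap
      ((RingHom.ker π).restrictScalars A).subtype := htop ▸ Submodule.mem_top
  exact this

attribute [local instance] Algebra.TensorProduct.rightAlgebra in
/-- Unramifiedness descends along a glueing pair. -/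
theorem formallyUnramified_of (h : EtGlue.IsGlueingPair A A' g) [Algebra.FormallyUnramified A' (A' ⊗[A] B)]
    [Algebra.FormallyUnramified (Localization.Away g) (Localization.Away g ⊗[A] B)] :
    Algebra.FormallyUnramified A B := by
  have key : ∀ (S : Type u) [CommRing S] [Algebra A S], Algebra.FormallyUnramified S (S ⊗[A] B) →
      Function.Surjective ((⊥ : Submodule A Ω[B⁄A]).subtype.lTensor S) := by
    intro S _ _ hS z
    have := hS.subsingleton_kaehlerDifferential
    have := (KaehlerDifferential.tensorKaehlerEquivBase A S B (S ⊗[A] B)).toEquiv.subsingleton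
    exact ⟨0, Subsingleton.elim _ _⟩
  have htop := eq_top_of_tensor h (⊥ : Submodule A Ω[B⁄A]) (key _ inferInstance) (key _ inferInstance)
  exact ⟨⟨fun a b => by
    have ha : a ∈ (⊥ : Submodule A Ω[B⁄A]) := htop ▸ Submodule.mem_top
    have hb : b ∈ (⊥ : Submodule A Ω[B⁄A]) := htop ▸ Submodule.mem_top
    rw [Submodule.mem_bot] at ha hb
    rw [ha, hb]⟩⟩

end Groth.Agent.CAlgH.BLGlue
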