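import Mathlib

/-!
Basic elements (Eisenbud-Evans) for finitely generated projective modules over Noetherian rings,
with Serre splitting and Bass cancellation as consequences.
-/

set_option linter.style.haveILetI false

universe u

namespace Groth.Agent.CAlgH.BasicElt

open Module TensorProduct

variable {R : Type u} [CommRing R] {m : ℕ}

/-- The value of a vector at a prime. -/
noncomputable def bar (p : PrimeSpectrum R) (u : Fin m → R) : Fin m → p.asIdeal.ResidueField :=
  fun l => algebraMap R p.asIdeal.ResidueField (u l)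

theorem bar_add_smul (p : PrimeSpectrum R) (u v : Fin m → R) (r : R) :
    bar p (u + r • v) = bar p u + algebraMap R p.asIdeal.ResidueField r • bar p v := by
  funext l; simp [bar, Algebra.smul_def]

/-- The rank of a family of vectors at a prime. -/
noncomputable def rk {ι : Type*} (p : PrimeSpectrum R) (U : ι → Fin m → R) : ℕ :=
  finrank p.asIdeal.ResidueField (Submodule.span p.asIdeal.ResidueField (Set.range fun i => bar p (U i)))

theorem exists_scaled {κ : Type*} [Finite κ] (q : PrimeSpectrum R) (G : κ → q.asIdeal.ResidueField) :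
    ∃ s : R, s ∉ q.asIdeal ∧ ∀ i, ∃ a : R,
      algebraMap R q.asIdeal.ResidueField a = algebraMap R q.asIdeal.ResidueField s * G i := by
  obtain ⟨⟨b, hb⟩, hG⟩ := IsLocalization.exist_integer_multiples_of_finite
    (nonZeroDivisors (R ⧸ q.asIdeal)) (S := q.asIdeal.ResidueField) G
  obtain ⟨s, rfl⟩ := Ideal.Quotient.mk_surjective b
  refine ⟨s, fun hs => nonZeroDivisors.ne_zero hb (Ideal.Quotient.eq_zero_iff_mem.mpr hs), fun i => ?_⟩
  obtain ⟨a, ha⟩ := hG i
  obtain ⟨a, rfl⟩ := Ideal.Quotient.mk_surjective a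
  refine ⟨a, ?_⟩
  simp only [Algebra.smul_def] at ha
  rw [IsScalarTower.algebraMap_apply R (R ⧸ q.asIdeal) q.asIdeal.ResidueField a,
    IsScalarTower.algebraMap_apply R (R ⧸ q.asIdeal) q.asIdeal.ResidueField s]
  exact ha

/-- Linear independence at a prime spreads out. -/
theorem exists_notMem_indep {κ : Type*} [Finite κ] (q : PrimeSpectrum R) (W : κ → Fin m → R)
    (h : LinearIndependent q.asIdeal.ResidueField fun j => bar q (W j)) :
    ∃ c, c ∉ q.asIdeal ∧ ∀ p : PrimeSpectrum R, q.asIdeal ≤ p.asIdeal → c ∉ p.asIdeal →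
      LinearIndependent p.asIdeal.ResidueField fun j => bar p (W j) := by
  classical
  cases nonempty_fintype κ
  let K := q.asIdeal.ResidueField
  obtain ⟨G, hG⟩ := LinearMap.exists_leftInverse_of_injective
    (Fintype.linearCombination K (fun j => bar q (W j))) (LinearMap.ker_eq_bot.mpr
      (linearIndependent_iff_injective_fintypeLinearCombination.mp h))
  obtain ⟨s, hs, hA⟩ := exists_scaled q (fun x : Fin m × κ => G (Pi.single x.1 1) x.2)
  choose A hA using hA
  have key : ∀ i j, (∑ l, W j l * A (l, i)) - (if i = j then s else 0) ∈ q.asIdeal := by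
    intro i j
    rw [← Ideal.algebraMap_residueField_eq_zero, map_sub, map_sum]
    have h1 : G (bar q (W j)) i = if i = j then 1 else 0 := by
      have := congrFun (LinearMap.congr_fun hG (Pi.single j (1 : K))) i
      simpa [Fintype.linearCombination_apply_single, Pi.single_apply] using this
    have h2 : G (bar q (W j)) i = ∑ l, bar q (W j) l * G (Pi.single l 1) i := by
      conv_lhs => rw [← Finset.univ_sum_single (bar q (W j))]
      rw [map_sum, Finset.sum_apply]
      refine Finset.sum_congr rfl fun l _ => ?_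
      rw [← mul_one (bar q (W j) l), ← smul_eq_mul, Pi.single_smul, map_smul]
      simp
    rw [h1] at h2
    have h4 : ∑ l, algebraMap R K (W j l * A (l, i)) = algebraMap R K s * (if i = j then 1 else 0) := by
      rw [h2, Finset.mul_sum]
      exact Finset.sum_congr rfl fun l _ => by rw [map_mul, hA]; simp only [bar]; ring
    rw [h4]
    split_ifs <;> simp [K]
  refine ⟨s, hs, fun p hqp hsp => Fintype.linearIndependent_iff.mpr fun x hx i => ?_⟩
  have hi := fun j => Ideal.algebraMap_residueField_eq_zero.mpr (hqp (key i j))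
  simp only [map_sub, map_sum, map_mul, sub_eq_zero] at hi
  have h5 : ∑ j, x j * algebraMap R p.asIdeal.ResidueField (if i = j then s else 0) = 0 := by
    simp only [← hi, Finset.mul_sum]
    rw [Finset.sum_comm]
    refine Finset.sum_eq_zero fun l _ => ?_
    have := congrFun hx l
    simp only [Finset.sum_apply, Pi.smul_apply, smul_eq_mul, bar, Pi.zero_apply] at this
    simp only [← mul_assoc, ← Finset.sum_mul, this, zero_mul]
  simp only [apply_ite (algebraMap R p.asIdeal.ResidueField), map_zero, mul_ite, mul_zero,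
    Finset.sum_ite_eq, Finset.mem_univ, if_true] at h5
  exact (mul_eq_zero.mp h5).resolve_right (fun e => hsp (Ideal.algebraMap_residueField_eq_zero.mp e))

theorem exists_notMem_rk_le {ι : Type*} [Finite ι] (q : PrimeSpectrum R) (U : ι → Fin m → R) :
    ∃ c, c ∉ q.asIdeal ∧ ∀ p : PrimeSpectrum R, q.asIdeal ≤ p.asIdeal → c ∉ p.asIdeal → rk q U ≤ rk p U := by
  classical
  obtain ⟨κ, a, hinj, hspan, hli⟩ := exists_linearIndependent' q.asIdeal.ResidueField (fun i => bar q (U i))
  haveI : Finite κ := Finite.of_injective a hinj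
  cases nonempty_fintype κ
  obtain ⟨c, hc, h⟩ := exists_notMem_indep q (fun j => U (a j)) hli
  refine ⟨c, hc, fun p hqp hcp => ?_⟩
  rw [rk, ← hspan, rk]
  refine (finrank_span_eq_card hli).trans_le ((finrank_span_eq_card (h p hqp hcp)).symm.trans_le ?_)
  exact Submodule.finrank_mono (Submodule.span_mono (by rintro _ ⟨j, rfl⟩; exact ⟨a j, rfl⟩))

variable [IsNoetherianRing R] (δ : PrimeSpectrum R → ℕ)
  (hδ : ∀ p q : PrimeSpectrum R, q < p → δ p < δ q)

include hδ in
theorem finite_critical (N : ℕ) (U : Fin (N + 2) → Fin m → R)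
    (hU : ∀ p, min (N + 2) (δ p + 1) ≤ rk p U) :
    {p : PrimeSpectrum R | rk p U ≤ N + 1 ∧ rk p U ≤ δ p + 1}.Finite := by
  set S := {p : PrimeSpectrum R | rk p U ≤ N + 1 ∧ rk p U ≤ δ p + 1}
  suffices H : ∀ I : Ideal R, (S ∩ {p | I ≤ p.asIdeal}).Finite by
    refine (H ⊥).subset fun p hp => ⟨hp, (bot_le : (⊥ : Ideal R) ≤ p.asIdeal)⟩
  intro I
  induction I using WellFoundedGT.induction with
  | ind I ih =>
    by_cases hI : I.IsPrime
    · let q : PrimeSpectrum R := ⟨I, hI⟩
      obtain ⟨c, hc, hle⟩ := exists_notMem_rk_le q U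
      have hlt : I < I ⊔ Ideal.span {c} := lt_of_le_of_ne le_sup_left fun e => hc (by
        show c ∈ I
        rw [e]; exact Submodule.mem_sup_right (Ideal.mem_span_singleton_self c))
      refine ((Set.finite_singleton q).union (ih _ hlt)).subset fun p hp => ?_
      obtain ⟨⟨h1, h2⟩, hIp⟩ := hp
      rcases eq_or_ne p q with e | hne
      · exact Or.inl e
      refine Or.inr ⟨⟨h1, h2⟩, ?_⟩
      show I ⊔ Ideal.span {c} ≤ p.asIdeal
      refine sup_le hIp ((Ideal.span_singleton_le_iff_mem _).mpr ?_)
      by_contra hcp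
      have hlt' : q < p := lt_of_le_of_ne hIp (Ne.symm hne)
      have := hle p hIp hcp
      have := hδ p q hlt'
      have := hU q
      have := hU p
      omega
    · rcases eq_or_ne I ⊤ with rfl | hne
      · exact Set.Finite.subset Set.finite_empty fun p hp => p.isPrime.ne_top (top_le_iff.mp hp.2)
      obtain ⟨x, hx, y, hy, hxy⟩ : ∃ x, x ∉ I ∧ ∃ y, y ∉ I ∧ x * y ∈ I := by
        simp only [Ideal.isPrime_iff, hne, ne_eq, not_false_eq_true, true_and, not_forall, not_or] at hI
        obtain ⟨x, y, hxy, hx, hy⟩ := hI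
        exact ⟨x, hx, y, hy, hxy⟩
      have hlt : ∀ z, z ∉ I → I < I ⊔ Ideal.span {z} := fun z hz => lt_of_le_of_ne le_sup_left fun e =>
        hz (e ▸ Submodule.mem_sup_right (Ideal.mem_span_singleton_self z))
      refine ((ih _ (hlt x hx)).union (ih _ (hlt y hy))).subset fun p hp => ?_
      rcases p.isPrime.mem_or_mem (hp.2 hxy) with h | h
      · exact Or.inl ⟨hp.1, sup_le hp.2 ((Ideal.span_singleton_le_iff_mem _).mpr h)⟩
      · exact Or.inr ⟨hp.1, sup_le hp.2 ((Ideal.span_singleton_le_iff_mem _).mpr h)⟩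

/-- The modification multiplier. -/
def mu (a : R) {N : ℕ} (i : Fin (N + 1)) : R := if i = 0 then a else 1

/-- The shortened family. -/
def shorten (a : R) {N : ℕ} (U : Fin (N + 2) → Fin m → R) (c : Fin (N + 1) → R) : Fin (N + 1) → Fin m → R :=
  fun i => U i.castSucc + (mu a i * c i) • U (Fin.last _)

theorem span_union_last (a : R) {N : ℕ} (U : Fin (N + 2) → Fin m → R) (c : Fin (N + 1) → R) (p : PrimeSpectrum R) :
    Submodule.span p.asIdeal.ResidueField (Set.range fun i => bar p (U i)) =
      Submodule.span p.asIdeal.ResidueField (Set.range fun i => bar p (shorten a U c i)) ⊔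
        Submodule.span p.asIdeal.ResidueField {bar p (U (Fin.last _))} := by
  refine le_antisymm (Submodule.span_le.mpr ?_) (sup_le (Submodule.span_le.mpr ?_) (Submodule.span_le.mpr ?_))
  · rintro _ ⟨i, rfl⟩
    induction i using Fin.lastCases with
    | last => exact Submodule.mem_sup_right (Submodule.mem_span_singleton_self _)
    | cast i =>
      have : bar p (U i.castSucc) = bar p (shorten a U c i) -
          algebraMap R p.asIdeal.ResidueField (mu a i * c i) • bar p (U (Fin.last _)) := by
        rw [shorten, bar_add_smul, add_sub_cancel_right]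
      show bar p (U i.castSucc) ∈ _
      rw [this]
      exact sub_mem (Submodule.mem_sup_left (Submodule.subset_span ⟨i, rfl⟩))
        (Submodule.mem_sup_right (Submodule.smul_mem _ _ (Submodule.mem_span_singleton_self _)))
  · rintro _ ⟨i, rfl⟩
    show bar p (shorten a U c i) ∈ _
    rw [shorten, bar_add_smul]
    exact add_mem (Submodule.subset_span ⟨_, rfl⟩) (Submodule.smul_mem _ _ (Submodule.subset_span ⟨_, rfl⟩))
  · rintro _ rfl
    exact Submodule.subset_span ⟨_, rfl⟩

theorem exists_coeffs (a : R) {N : ℕ} (U : Fin (N + 2) → Fin m → R)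
    (hU0 : ∀ p : PrimeSpectrum R, a ∈ p.asIdeal → bar p (U 0) ≠ 0) :
    ∀ S : Finset (PrimeSpectrum R), (∀ p ∈ S, rk p U ≤ N + 1) →
      ∃ c : Fin (N + 1) → R, ∀ p ∈ S, bar p (U (Fin.last _)) ∈
        Submodule.span p.asIdeal.ResidueField (Set.range fun i => bar p (shorten a U c i)) := by
  classical
  intro S
  induction S using Finset.strongInduction with
  | H S ih =>
    intro hS
    rcases S.eq_empty_or_nonempty with rfl | hne
    · exact ⟨0, by simp⟩
    obtain ⟨p, hp, hmin⟩ := S.exists_minimal hne
    obtain ⟨c, hc⟩ := ih _ (Finset.erase_ssubset hp) (fun q hq => hS q (Finset.mem_of_mem_erase hq))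
    by_cases hgood : bar p (U (Fin.last _)) ∈
        Submodule.span p.asIdeal.ResidueField (Set.range fun i => bar p (shorten a U c i))
    · refine ⟨c, fun q hq => ?_⟩
      rcases eq_or_ne q p with rfl | h
      · exact hgood
      · exact hc q (Finset.mem_erase.mpr ⟨h, hq⟩)
    -- `e` lies in the other primes but not in `p`
    have he : ∀ q ∈ S.erase p, ∃ e, e ∈ q.asIdeal ∧ e ∉ p.asIdeal := by
      intro q hq
      obtain ⟨hqp, hqS⟩ := Finset.mem_erase.mp hq
      refine Set.not_subset.mp fun hle => hqp ?_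
      exact le_antisymm hle (hmin hqS hle)
    choose! e he1 he2 using he
    let E := ∏ q ∈ S.erase p, e q
    have hE2 : E ∉ p.asIdeal := fun h => by
      obtain ⟨q, hq, hq'⟩ := p.isPrime.prod_mem_iff.mp h
      exact he2 q hq hq'
    have hE1 : ∀ q ∈ S.erase p, E ∈ q.asIdeal := fun q hq => Ideal.prod_mem _ hq (he1 q hq)
    let V := fun i => bar p (shorten a U c i)
    let w := bar p (U (Fin.last _))
    have hdep : ¬ LinearIndependent p.asIdeal.ResidueField V := by
      intro hli
      have h1 : Submodule.span p.asIdeal.ResidueField (Set.range V) <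
          Submodule.span p.asIdeal.ResidueField (Set.range fun i => bar p (U i)) := by
        rw [span_union_last a U c p]
        exact lt_of_le_of_ne le_sup_left fun heq => hgood (heq ▸ Submodule.mem_sup_right (Submodule.mem_span_singleton_self _))
      have h2 := Submodule.finrank_lt_finrank_of_lt h1
      rw [finrank_span_eq_card hli, Fintype.card_fin] at h2
      have h3 := hS p hp
      rw [rk] at h3
      omega
    obtain ⟨l, hl, j, hj, hmu⟩ : ∃ l : Fin (N + 1) → p.asIdeal.ResidueField, ∑ i, l i • V i = 0 ∧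
        ∃ j, l j ≠ 0 ∧ mu a j ∉ p.asIdeal := by
      obtain ⟨l, hl, j, hj⟩ := Fintype.not_linearIndependent_iff.mp hdep
      refine ⟨l, hl, ?_⟩
      by_contra! hno
      have hzero : ∀ i, i ≠ 0 → l i = 0 := by
        intro i hi
        by_contra h
        have := hno i h
        simp only [mu, if_neg hi] at this
        exact p.isPrime.ne_top ((Ideal.eq_top_iff_one _).mpr this)
      have hj0 : j = 0 := by
        by_contra h
        exact hj (hzero j h)
      subst hj0
      have ha : a ∈ p.asIdeal := by simpa [mu] using hno 0 hj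
      rw [Finset.sum_eq_single 0 (fun i _ hi => by rw [hzero i hi, zero_smul]) (by simp)] at hl
      refine hU0 p ha ?_
      have hV0 := (smul_eq_zero.mp hl).resolve_left hj
      simp only [V, shorten, bar_add_smul, mu, if_pos, map_mul, Ideal.algebraMap_residueField_eq_zero.mpr ha,
        zero_mul, zero_smul, add_zero] at hV0
      simpa using hV0
    refine ⟨c + Pi.single j E, fun q hq => ?_⟩
    have hsh : ∀ (r : PrimeSpectrum R) i, bar r (shorten a U (c + Pi.single j E) i) = bar r (shorten a U c i) +
        (if i = j then algebraMap R r.asIdeal.ResidueField (mu a i * E) else 0) • bar r (U (Fin.last _)) := by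
      intro r i
      rw [shorten, shorten, bar_add_smul, bar_add_smul]
      by_cases h : i = j
      · subst h; simp [mul_add, add_smul, add_assoc]
      · simp [h]
    rcases eq_or_ne q p with rfl | h
    · set V' := fun i => bar q (shorten a U (c + Pi.single j E) i)
      have hsum : ∑ i, l i • V' i = (l j * algebraMap R q.asIdeal.ResidueField (mu a j * E)) • w := by
        simp only [V', hsh, smul_add, Finset.sum_add_distrib]
        rw [show ∑ i, l i • bar q (shorten a U c i) = 0 from hl, zero_add, Finset.sum_eq_single j]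
        · rw [if_pos rfl, ← mul_smul]
        · intro i _ hi; rw [if_neg hi, zero_smul, smul_zero]
        · simp
      have hne' : l j * algebraMap R q.asIdeal.ResidueField (mu a j * E) ≠ 0 :=
        mul_ne_zero hj fun h => (q.isPrime.mem_or_mem (Ideal.algebraMap_residueField_eq_zero.mp h)).elim hmu hE2
      rw [show bar q (U (Fin.last _)) = w from rfl, ← Submodule.smul_mem_iff _ hne', ← hsum]
      exact Submodule.sum_mem _ fun i _ => Submodule.smul_mem _ _ (Submodule.subset_span ⟨i, rfl⟩)
    · have hmem := Finset.mem_erase.mpr ⟨h, hq⟩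
      have : (fun i => bar q (shorten a U (c + Pi.single j E) i)) = fun i => bar q (shorten a U c i) := by
        funext i
        rw [hsh]
        by_cases hij : i = j
        · rw [if_pos hij, map_mul, Ideal.algebraMap_residueField_eq_zero.mpr (hE1 q hmem), mul_zero, zero_smul, add_zero]
        · rw [if_neg hij, zero_smul, add_zero]
      rw [this]
      exact hc q hmem

include hδ in
/-- The basic element lemma. -/
theorem basic : ∀ (N : ℕ) (U : Fin (N + 1) → Fin m → R) (a : R),
    (∀ p, min (N + 1) (δ p + 1) ≤ rk p U) →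
    (∀ p : PrimeSpectrum R, a ∈ p.asIdeal → bar p (U 0) ≠ 0) →
    ∃ t ∈ Submodule.span R (Set.range fun i : Fin N => U i.succ),
      ∀ p, bar p (U 0 + a • t) ≠ 0 := by
  intro N
  induction N with
  | zero =>
    intro U a hU _
    refine ⟨0, zero_mem _, fun p => ?_⟩
    rw [smul_zero, add_zero]
    intro h
    have h1 : 1 ≤ rk p U := by have := hU p; omega
    have h2 : Submodule.span p.asIdeal.ResidueField (Set.range fun i : Fin 1 => bar p (U i)) = ⊥ :=
      Submodule.span_eq_bot.mpr (by rintro _ ⟨i, rfl⟩; rw [Subsingleton.elim i 0]; exact h)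
    rw [rk, h2, finrank_bot] at h1
    omega
  | succ N ih =>
    intro U a hU hU0
    obtain ⟨c, hc⟩ := exists_coeffs a U hU0 (finite_critical δ hδ N U hU).toFinset
      (fun p hp => ((finite_critical δ hδ N U hU).mem_toFinset.mp hp).1)
    have hrank : ∀ p, min (N + 1) (δ p + 1) ≤ rk p (shorten a U c) := by
      intro p
      have h1 := hU p
      have h2 : rk p U ≤ rk p (shorten a U c) + 1 := by
        rw [rk, rk, span_union_last a U c p]
        refine (Submodule.finrank_add_le_finrank_add_finrank _ _).trans ?_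
        gcongr
        refine (finrank_span_le_card _).trans ?_
        simp
      by_cases hp : rk p U ≤ N + 1 ∧ rk p U ≤ δ p + 1
      · have := hc p ((finite_critical δ hδ N U hU).mem_toFinset.mpr hp)
        have h3 : rk p U = rk p (shorten a U c) := by
          rw [rk, rk, span_union_last a U c p, sup_eq_left.mpr ((Submodule.span_singleton_le_iff_mem _ _).mpr this)]
        omega
      · omega
    have h0 : ∀ p : PrimeSpectrum R, a ∈ p.asIdeal → bar p (shorten a U c 0) ≠ 0 := by
      intro p ha
      rw [shorten, bar_add_smul, map_mul]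
      simpa [mu, Ideal.algebraMap_residueField_eq_zero.mpr ha] using hU0 p ha
    obtain ⟨t, ht, hne⟩ := ih (shorten a U c) a hrank h0
    refine ⟨c 0 • U (Fin.last _) + t, add_mem (Submodule.smul_mem _ _ (Submodule.subset_span ⟨Fin.last N, by simp⟩))
      (Submodule.span_le.mpr ?_ ht), fun p => ?_⟩
    · rintro _ ⟨i, rfl⟩
      show shorten a U c i.succ ∈ _
      rw [shorten]
      exact add_mem (Submodule.subset_span ⟨i.castSucc, congrArg U (Fin.ext rfl)⟩)
        (Submodule.smul_mem _ _ (Submodule.subset_span ⟨Fin.last N, by simp⟩))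
    · have e : U 0 + a • (c 0 • U (Fin.last _) + t) = shorten a U c 0 + a • t := by
        simp [shorten, mu, smul_add, mul_smul, add_assoc]
      rw [e]
      exact hne p

section Module

variable {P : Type u} [AddCommGroup P] [Module R P] [Module.Finite R P] [Module.Projective R P]

include hδ in
/-- A vector unimodular together with `a` can be made unimodular by adding a multiple of `a`. -/
theorem exists_unimodular (hrk : ∀ q, δ q + 1 ≤ rankAtStalk (R := R) P q) (x : P) (a : R)
    (hx : ∃ (φ : P →ₗ[R] R) (r : R), φ x + r * a = 1) :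
    ∃ (t : P) (φ : P →ₗ[R] R), φ (x + a • t) = 1 := by
  classical
  obtain ⟨M, f, g, -, -, hfg⟩ := Module.Finite.exists_comp_eq_id_of_projective R P
  obtain ⟨N, s, hs⟩ := Module.Finite.exists_fin' R P
  let U : Fin (N + 1) → Fin M → R := Fin.cons (g x) fun i => g (s (Pi.single i 1))
  obtain ⟨φ₀, r₀, hφ⟩ := hx
  have hU0 : ∀ q : PrimeSpectrum R, a ∈ q.asIdeal → bar q (U 0) ≠ 0 := by
    intro q ha h
    refine q.isPrime.ne_top ((Ideal.eq_top_iff_one _).mpr (hφ ▸ add_mem ?_ (Ideal.mul_mem_left _ _ ha)))
    have hx0 : φ₀ x = ∑ l, g x l * φ₀ (f (Pi.single l 1)) := by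
      conv_lhs => rw [← LinearMap.id_apply (R := R) x, ← hfg, LinearMap.comp_apply, ← Finset.univ_sum_single (g x)]
      rw [map_sum, map_sum]
      refine Finset.sum_congr rfl fun l _ => ?_
      rw [← mul_one (g x l), ← smul_eq_mul, Pi.single_smul, map_smul, map_smul]
      simp
    rw [hx0]
    exact sum_mem fun l _ => Ideal.mul_mem_right _ _ (Ideal.algebraMap_residueField_eq_zero.mp (congrFun h l))
  have hU : ∀ q : PrimeSpectrum R, min (N + 1) (δ q + 1) ≤ rk q U := by
    intro q
    refine (min_le_right _ _).trans ((hrk q).trans ?_)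
    rw [rankAtStalk_eq]
    let K := q.asIdeal.ResidueField
    let Φ : K ⊗[R] P →ₗ[K] (Fin M → K) := (piScalarRight R K K (Fin M)).toLinearMap ∘ₗ g.baseChange K
    have hΦ : Function.Injective Φ := by
      refine (piScalarRight R K K (Fin M)).injective.comp ?_
      refine Function.LeftInverse.injective (g := f.baseChange K) fun y => ?_
      rw [← LinearMap.comp_apply, ← LinearMap.baseChange_comp, hfg, LinearMap.baseChange_id, LinearMap.id_apply]
    rw [← LinearMap.finrank_range_of_inj hΦ]
    refine Submodule.finrank_mono ?_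
    rintro _ ⟨y, rfl⟩
    induction y using TensorProduct.induction_on with
    | zero => rw [map_zero]; exact zero_mem _
    | add y z hy hz => rw [map_add]; exact add_mem hy hz
    | tmul z y =>
      obtain ⟨v, rfl⟩ := hs y
      rw [← mul_one z, ← smul_eq_mul, ← TensorProduct.smul_tmul', map_smul, ← Finset.univ_sum_single v, map_sum, tmul_sum, map_sum]
      refine Submodule.smul_mem _ _ (sum_mem fun i _ => ?_)
      rw [← mul_one (v i), ← smul_eq_mul, Pi.single_smul, map_smul, tmul_smul, ← IsScalarTower.algebraMap_smul K (v i), map_smul]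
      refine Submodule.smul_mem _ _ (Submodule.subset_span ⟨i.succ, ?_⟩)
      funext l
      simp [Φ, U, bar, K, Algebra.smul_def]
  obtain ⟨t, ht, hne⟩ := basic δ hδ N U a hU hU0
  have htg : t ∈ LinearMap.range g := by
    refine Submodule.span_le.mpr ?_ ht
    rintro _ ⟨i, rfl⟩
    exact ⟨s (Pi.single i 1), by simp [U]⟩
  obtain ⟨t, rfl⟩ := htg
  have htop : Ideal.span (Set.range (g (x + a • t))) = ⊤ := by
    by_contra h
    obtain ⟨q, hq, hle⟩ := Ideal.exists_le_maximal _ h
    refine hne ⟨q, hq.isPrime⟩ (funext fun l => ?_)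
    simp only [bar, Pi.zero_apply, Ideal.algebraMap_residueField_eq_zero]
    have := hle (Ideal.subset_span ⟨l, rfl⟩)
    simpa [U, map_add, map_smul] using this
  obtain ⟨c, hc⟩ := (Ideal.mem_span_range_iff_exists_fun).mp ((Ideal.eq_top_iff_one _).mp htop)
  refine ⟨t, (Fintype.linearCombination R c) ∘ₗ g, ?_⟩
  simpa [Fintype.linearCombination_apply, mul_comm] using hc

end Module

section Apply

variable {d : ℕ}

omit [IsNoetherianRing R] in
theorem exists_delta (hdim : ringKrullDim R ≤ d) :
    ∃ δ : PrimeSpectrum R → ℕ, (∀ p q, q < p → δ p < δ q) ∧ ∀ p, δ p ≤ d := by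
  have hle : ∀ p : PrimeSpectrum R, Order.coheight p ≤ (d : ℕ∞) := fun p => by
    exact_mod_cast (Order.coheight_le_krullDim p).trans hdim
  have hfin : ∀ p : PrimeSpectrum R, Order.coheight p < ⊤ := fun p => (hle p).trans_lt (ENat.coe_lt_top d)
  refine ⟨fun p => (Order.coheight p).toNat, fun p q hqp => ?_, fun p => ?_⟩
  · obtain ⟨x, hx⟩ := ENat.ne_top_iff_exists.mp (hfin p).ne
    obtain ⟨y, hy⟩ := ENat.ne_top_iff_exists.mp (hfin q).ne
    have := Order.coheight_strictAnti hqp (hfin p)
    simp only [← hx, ← hy] at this ⊢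
    simpa using this
  · exact ENat.toNat_le_of_le_coe (hle p)

variable {P : Type u} [AddCommGroup P] [Module R P] [Module.Finite R P] [Module.Projective R P]

/-- Serre: splitting off a free rank one summand. -/
theorem exists_splitting (hdim : ringKrullDim R ≤ d) (hrk : ∀ q, d + 1 ≤ rankAtStalk (R := R) P q) :
    ∃ (s : P) (φ : P →ₗ[R] R), φ s = 1 := by
  obtain ⟨δ, hδ, hle⟩ := exists_delta hdim
  obtain ⟨t, φ, h⟩ := exists_unimodular δ hδ (fun q => (Nat.add_le_add_right (hle q) 1).trans (hrk q))
    (0 : P) (1 : R) ⟨0, 1, by simp⟩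
  exact ⟨_, φ, h⟩

/-- Bass: `Aut (P × R)` is transitive on unimodular elements. -/
theorem exists_aut (hdim : ringKrullDim R ≤ d) (hrk : ∀ q, d + 1 ≤ rankAtStalk (R := R) P q)
    (x : P) (a : R) (hx : ∃ (φ : P →ₗ[R] R) (r : R), φ x + r * a = 1) :
    ∃ e : (P × R) ≃ₗ[R] (P × R), e (x, a) = (0, 1) := by
  obtain ⟨δ, hδ, hle⟩ := exists_delta hdim
  obtain ⟨t, φ, h⟩ := exists_unimodular δ hδ (fun q => (Nat.add_le_add_right (hle q) 1).trans (hrk q)) x a hx
  let σ (t : P) : (P × R) ≃ₗ[R] (P × R) :=
    { toFun := fun y => (y.1 + y.2 • t, y.2)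
      invFun := fun y => (y.1 - y.2 • t, y.2)
      map_add' := fun y z => by ext <;> simp [add_smul]; abel
      map_smul' := fun r y => by ext <;> simp [smul_add, mul_smul]
      left_inv := fun y => by ext <;> simp
      right_inv := fun y => by ext <;> simp }
  let τ (ψ : P →ₗ[R] R) : (P × R) ≃ₗ[R] (P × R) :=
    { toFun := fun y => (y.1, y.2 + ψ y.1)
      invFun := fun y => (y.1, y.2 - ψ y.1)
      map_add' := fun y z => by ext <;> simp [map_add]; ring
      map_smul' := fun r y => by ext <;> simp [mul_add]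
      left_inv := fun y => by ext <;> simp
      right_inv := fun y => by ext <;> simp }
  refine ⟨(σ t).trans ((τ ((1 - a) • φ)).trans (σ (-(x + a • t)))), ?_⟩
  have h' : φ x + a * φ t = 1 := by rw [← h, map_add, map_smul, smul_eq_mul]
  simp [σ, τ, h']

variable {P' : Type u} [AddCommGroup P'] [Module R P']

/-- Bass cancellation of a free rank one summand. -/
theorem cancel_one (hdim : ringKrullDim R ≤ d) (hrk : ∀ q, d + 1 ≤ rankAtStalk (R := R) P q)
    (e : (P × R) ≃ₗ[R] (P' × R)) : Nonempty (P ≃ₗ[R] P') := by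
  let w := e.symm (0, 1)
  obtain ⟨f, hf⟩ := exists_aut hdim hrk w.1 w.2
    ⟨LinearMap.snd R P' R ∘ₗ e.toLinearMap ∘ₗ LinearMap.inl R P R, (e ((0 : P), (1 : R))).2, by
      have h1 : (e w).2 = 1 := by simp [w]
      have h2 : w = ((w.1, 0) : P × R) + w.2 • ((0, 1) : P × R) := by ext <;> simp
      rw [h2, map_add, map_smul, Prod.snd_add, Prod.smul_snd, smul_eq_mul] at h1
      simp only [LinearMap.coe_comp, Function.comp_apply, LinearMap.inl_apply, LinearEquiv.coe_coe, LinearMap.snd_apply]
      linear_combination h1⟩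
  let g : (P × R) ≃ₗ[R] (P' × R) := f.symm.trans e
  have hg : g (0, 1) = (0, 1) := by
    show e (f.symm (0, 1)) = _
    rw [← hf, LinearEquiv.symm_apply_apply]
    exact e.apply_symm_apply _
  have hg' : g.symm (0, 1) = (0, 1) := by conv_lhs => rw [← hg, g.symm_apply_apply]
  refine ⟨LinearEquiv.ofLinear (LinearMap.fst R P' R ∘ₗ g.toLinearMap ∘ₗ LinearMap.inl R P R)
    (LinearMap.fst R P R ∘ₗ g.symm.toLinearMap ∘ₗ LinearMap.inl R P' R) ?_ ?_⟩
  · refine LinearMap.ext fun y => ?_
    simp only [LinearMap.coe_comp, Function.comp_apply, LinearMap.inl_apply, LinearEquiv.coe_coe, LinearMap.fst_apply,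
      LinearMap.id_apply]
    have : ((g.symm (y, 0)).1, (0 : R)) = g.symm (y, 0) - (g.symm (y, 0)).2 • ((0, 1) : P × R) := by
      ext <;> simp
    rw [this, map_sub, map_smul, hg, g.apply_symm_apply]
    simp
  · refine LinearMap.ext fun y => ?_
    simp only [LinearMap.coe_comp, Function.comp_apply, LinearMap.inl_apply, LinearEquiv.coe_coe, LinearMap.fst_apply,
      LinearMap.id_apply]
    have : ((g (y, 0)).1, (0 : R)) = g (y, 0) - (g (y, 0)).2 • ((0, 1) : P' × R) := by
      ext <;> simp
    rw [this, map_sub, map_smul, hg', g.symm_apply_apply]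
    simp

end Apply

end Groth.Agent.CAlgH.BasicElt

namespace Groth.Agent.CAlgH.BasicElt

open Module

variable {R : Type u} [CommRing R] [IsNoetherianRing R] [Nontrivial R] {d : ℕ}

theorem rankAtStalk_fin (k : ℕ) (q : PrimeSpectrum R) : rankAtStalk (R := R) (Fin k → R) q = k := by
  rw [rankAtStalk_eq_finrank_of_free]
  simp

/-- Iterated splitting. -/
theorem exists_equiv_prod (hdim : ringKrullDim R ≤ d) : ∀ (k n : ℕ) (P : Type u) [AddCommGroup P] [Module R P]
    [Module.Finite R P] [Module.Projective R P], (∀ q, rankAtStalk (R := R) P q = n) → d + k ≤ n →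
    ∃ (P₀ : Type u) (_ : AddCommGroup P₀) (_ : Module R P₀) (_ : Module.Finite R P₀) (_ : Module.Projective R P₀),
      (∀ q, rankAtStalk (R := R) P₀ q = n - k) ∧ Nonempty (P ≃ₗ[R] (Fin k → R) × P₀) := by
  intro k
  induction k with
  | zero =>
    intro n P _ _ _ _ hrk _
    exact ⟨P, inferInstance, inferInstance, inferInstance, inferInstance, by simpa using hrk,
      ⟨(LinearEquiv.uniqueProd (R := R) : ((Fin 0 → R) × P) ≃ₗ[R] P).symm⟩⟩
  | succ k ih =>
    intro n P _ _ _ _ hrk hle
    obtain ⟨P₀, _, _, _, _, hrk₀, ⟨e⟩⟩ := ih n P hrk (by omega)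
    obtain ⟨s, φ, hs⟩ := exists_splitting (P := P₀) hdim (fun q => by rw [hrk₀ q]; omega)
    let π : P₀ →ₗ[R] LinearMap.ker φ := LinearMap.codRestrict _ (LinearMap.id - φ.smulRight s) fun y => by
      simp [hs]
    have hπ : π ∘ₗ (LinearMap.ker φ).subtype = LinearMap.id := by
      ext y
      have : φ (y : P₀) = 0 := y.2
      simp [π, this]
    haveI : Module.Finite R (LinearMap.ker φ) := Module.Finite.of_surjective π fun y => ⟨y, LinearMap.congr_fun hπ y⟩
    haveI : Module.Projective R (LinearMap.ker φ) := Module.Projective.of_split _ _ hπ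
    let eK : P₀ ≃ₗ[R] R × LinearMap.ker φ :=
      { toFun := fun y => (φ y, π y)
        map_add' := fun y z => by simp
        map_smul' := fun r y => by simp
        invFun := fun y => y.1 • s + (y.2 : P₀)
        left_inv := fun y => by simp [π]
        right_inv := fun y => by
          have h2 : φ (y.2 : P₀) = 0 := y.2.2
          refine Prod.ext (by simp [hs, h2]) (Subtype.ext ?_)
          simp [π, hs, h2] }
    refine ⟨LinearMap.ker φ, inferInstance, inferInstance, inferInstance, inferInstance, fun q => ?_, ⟨?_⟩⟩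
    · have h := congrFun (rankAtStalk_eq_of_equiv eK) q
      rw [hrk₀ q, rankAtStalk_prod, Pi.add_apply, rankAtStalk_self, Pi.one_apply] at h
      omega
    · exact e.trans ((LinearEquiv.prodCongr (LinearEquiv.refl R _) eK).trans
        (((LinearEquiv.prodAssoc R _ _ _).symm).trans (LinearEquiv.prodCongr
          ((LinearEquiv.prodComm R _ _).trans (Fin.consLinearEquiv R fun _ : Fin (k + 1) => R)) (LinearEquiv.refl R _))))

/-- Bass cancellation of free summands. -/
theorem cancel (hdim : ringKrullDim R ≤ d) : ∀ (k n : ℕ) (P P' : Type u) [AddCommGroup P] [Module R P]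
    [Module.Finite R P] [Module.Projective R P] [AddCommGroup P'] [Module R P'],
    (∀ q, rankAtStalk (R := R) P q = n) → d + 1 ≤ n →
    ((P × (Fin k → R)) ≃ₗ[R] (P' × (Fin k → R))) → Nonempty (P ≃ₗ[R] P') := by
  intro k
  induction k with
  | zero =>
    intro n P P' _ _ _ _ _ _ _ _ e
    exact ⟨(LinearEquiv.prodUnique (M := P) (M₂ := Fin 0 → R)).symm.trans (e.trans LinearEquiv.prodUnique)⟩
  | succ k ih =>
    intro n P P' _ _ _ _ _ _ hrk hle e
    let split (M : Type u) [AddCommGroup M] [Module R M] : (M × (Fin (k + 1) → R)) ≃ₗ[R] ((M × (Fin k → R)) × R) :=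
      (LinearEquiv.prodCongr (LinearEquiv.refl R M)
        ((Fin.consLinearEquiv R fun _ : Fin (k + 1) => R).symm.trans (LinearEquiv.prodComm R _ _))).trans
        (LinearEquiv.prodAssoc R _ _ _).symm
    obtain ⟨e'⟩ := cancel_one (P := P × (Fin k → R)) (P' := P' × (Fin k → R)) hdim
      (fun q => by rw [rankAtStalk_prod, Pi.add_apply, hrk q]; omega)
      ((split P).symm.trans (e.trans (split P')))
    exact ih n P P' hrk hle e'

end Groth.Agent.CAlgH.BasicElt
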