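import Mathlib.Algebra.Module.FinitePresentation

/-! Coherent modules. -/

universe u
namespace Groth.Agent.CAlgH

variable {R : Type u} [CommRing R] {M N : Type u} [AddCommGroup M] [Module R M] [AddCommGroup N] [Module R N]

/-- coherent module -/
def CohMod (R M : Type u) [CommRing R] [AddCommGroup M] [Module R M] : Prop :=
  Module.Finite R M ∧ ∀ P : Submodule R M, P.FG → Module.FinitePresentation R P

theorem CohMod.submodule (h : CohMod R M) {L : Submodule R M} (hL : L.FG) : CohMod R L :=
  ⟨Module.Finite.iff_fg.mpr hL, fun P hP =>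
    have := h.2 (P.map L.subtype) (hP.map _)
    Module.FinitePresentation.of_equiv (Submodule.equivMapOfInjective L.subtype L.injective_subtype P).symm⟩

theorem CohMod.fg_ker [Module.Finite R N] (h : CohMod R M) (φ : N →ₗ[R] M) : (LinearMap.ker φ).FG := by
  have : Module.FinitePresentation R (LinearMap.range φ) :=
    h.2 _ (by rw [LinearMap.range_eq_map]; exact Module.Finite.fg_top.map _)
  rw [← LinearMap.ker_rangeRestrict]
  exact Module.FinitePresentation.fg_ker φ.rangeRestrict (LinearMap.surjective_rangeRestrict φ)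

theorem CohMod.quotient (h : CohMod R M) {L : Submodule R M} (hL : L.FG) : CohMod R (M ⧸ L) := by
  have := h.1
  refine ⟨inferInstance, fun P hP => ?_⟩
  classical
  obtain ⟨t, ht⟩ := hP
  choose g hg using fun x : M ⧸ L => Submodule.mkQ_surjective L x
  let P' : Submodule R M := Submodule.span R (g '' t) ⊔ L
  have hP' : P'.FG := Submodule.FG.sup ⟨t.image g, by rw [Finset.coe_image]⟩ hL
  have hmap : P'.map L.mkQ = P := by
    rw [Submodule.map_sup, Submodule.map_span, Set.image_image]
    simp only [hg, Set.image_id', ht]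
    rw [sup_eq_left, Submodule.map_le_iff_le_comap]
    intro x hx
    rw [Submodule.mem_comap, Submodule.mkQ_apply, (Submodule.Quotient.mk_eq_zero L).mpr hx]
    exact P.zero_mem
  have hFP := h.2 P' hP'
  let l : P' →ₗ[R] P := LinearMap.codRestrict P (L.mkQ ∘ₗ P'.subtype) fun x => hmap ▸ ⟨x, x.2, rfl⟩
  have hl : Function.Surjective l := by
    rintro ⟨y, hy⟩
    rw [← hmap] at hy
    obtain ⟨x, hx, rfl⟩ := hy
    exact ⟨⟨x, hx⟩, rfl⟩
  refine Module.finitePresentation_of_surjective l hl ?_
  have hk : LinearMap.ker l = L.comap P'.subtype := by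
    ext x
    rw [LinearMap.mem_ker, ← Subtype.coe_inj, Submodule.mem_comap]
    exact Submodule.Quotient.mk_eq_zero L
  rw [hk, ← Submodule.fg_map_iff P'.subtype P'.injective_subtype, Submodule.map_comap_subtype, inf_eq_right.mpr le_sup_right]
  exact hL

end Groth.Agent.CAlgH
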