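import Mathlib
import Groth.Agent.CAlgCohen.Structure
import Groth.Agent.CAlgH.DecayLocal

/-! For a local ring of characteristic `p`, the cotangent space injects into `Ω ⊗ K`, split. -/

open IsLocalRing TensorProduct KaehlerDifferential

namespace Groth.Agent.CAlgH.CotOmega

universe u

variable (R : Type u) [CommRing R] [IsLocalRing R]

local notation "𝕂" => ResidueField R

/-- `x ↦ 1 ⊗ d x` on the cotangent space, `R`-linearly. -/
noncomputable def ιR : CotangentSpace R →ₗ[R] 𝕂 ⊗[R] Ω[R⁄ℤ] :=
  Submodule.liftQ _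
    { toFun := fun x => (1 : 𝕂) ⊗ₜ[R] D ℤ R x.1
      map_add' := fun x y => by simp [TensorProduct.tmul_add]
      map_smul' := fun r x => by
        have hx : algebraMap R 𝕂 x.1 = 0 := residue_eq_zero_iff x.1 |>.mpr x.2
        have hs : x.1 • ((1 : 𝕂) ⊗ₜ[R] D ℤ R r) = 0 := by
          rw [TensorProduct.smul_tmul', Algebra.smul_def, hx, zero_mul, TensorProduct.zero_tmul]
        simp only [SetLike.val_smul, smul_eq_mul, Derivation.leibniz, TensorProduct.tmul_add,
          TensorProduct.tmul_smul, hs, add_zero, RingHom.id_apply] }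
    (by
      rw [Submodule.smul_le]
      intro r hr x _
      have hr0 : algebraMap R 𝕂 r = 0 := residue_eq_zero_iff r |>.mpr hr
      rw [LinearMap.mem_ker, map_smul, LinearMap.coe_mk, AddHom.coe_mk, TensorProduct.smul_tmul', Algebra.smul_def,
        hr0, zero_mul, TensorProduct.zero_tmul])

/-- `x ↦ 1 ⊗ d x` on the cotangent space. -/
noncomputable def ι : CotangentSpace R →ₗ[𝕂] 𝕂 ⊗[R] Ω[R⁄ℤ] :=
  (ιR R).extendScalarsOfSurjective residue_surjective

theorem ι_toCotangent (x : maximalIdeal R) :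
    ι R ((maximalIdeal R).toCotangent x) = (1 : 𝕂) ⊗ₜ[R] D ℤ R x.1 := rfl

/-- The map to `Ω` of the residue field. -/
noncomputable def jmap : 𝕂 ⊗[R] Ω[R⁄ℤ] →ₗ[𝕂] Ω[𝕂⁄ℤ] := mapBaseChange ℤ R 𝕂

theorem jmap_surjective : Function.Surjective (jmap R) :=
  mapBaseChange_surjective ℤ R 𝕂 residue_surjective

theorem jmap_ι : jmap R ∘ₗ ι R = 0 := by
  refine LinearMap.ext fun z => ?_
  obtain ⟨x, rfl⟩ := (maximalIdeal R).toCotangent_surjective z
  rw [LinearMap.comp_apply, ι_toCotangent, jmap, mapBaseChange_tmul, one_smul, map_D,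
    show algebraMap R 𝕂 x.1 = 0 from residue_eq_zero_iff x.1 |>.mpr x.2, map_zero, LinearMap.zero_apply]

theorem exists_ι_of_jmap_eq_zero {w : 𝕂 ⊗[R] Ω[R⁄ℤ]} (hw : jmap R w = 0) : ∃ c, ι R c = w := by
  obtain ⟨c, rfl⟩ := (exact_kerCotangentToTensor_mapBaseChange ℤ R 𝕂 residue_surjective w).mp hw
  obtain ⟨y, rfl⟩ := Ideal.toCotangent_surjective _ c
  rw [kerCotangentToTensor_toCotangent]
  exact ⟨(maximalIdeal R).toCotangent ⟨y.1, (residue_eq_zero_iff y.1).mp y.2⟩, rfl⟩

theorem exists_retraction (p : ℕ) [Fact p.Prime] (hp : (p : R) = 0) :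
    ∃ π : 𝕂 ⊗[R] Ω[R⁄ℤ] →ₗ[𝕂] CotangentSpace R, π ∘ₗ ι R = LinearMap.id := by
  let M := maximalIdeal R
  let R₂ := R ⧸ M ^ 2
  let q : R →+* R₂ := Ideal.Quotient.mk _
  have : Nontrivial R₂ := Ideal.Quotient.nontrivial_iff.mpr fun h => (maximalIdeal.isMaximal R).ne_top <|
    top_le_iff.mp (h ▸ Ideal.pow_le_self two_ne_zero)
  have : IsLocalRing R₂ := .of_surjective' q Ideal.Quotient.mk_surjective
  have hmax : maximalIdeal R₂ = M.map q :=
    (map_maximalIdeal_of_surjective q Ideal.Quotient.mk_surjective).symm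
  have h2 : maximalIdeal R₂ ^ 2 = ⊥ := by
    rw [hmax, ← Ideal.map_pow]
    exact Ideal.map_quotient_self _
  have : IsAdicComplete (maximalIdeal R₂) R₂ := CAlgH.Decay.isAdicComplete_of_pow_smul_eq_bot _ 2 (by
    rw [h2, Submodule.bot_smul])
  have hp2 : (p : R₂) = 0 := by rw [← map_natCast q, hp, map_zero]
  have hp2' : (p : ResidueField R₂) = 0 := by rw [← map_natCast (residue R₂), hp2, map_zero]
  have hchar : CharP (ResidueField R₂) p := (CharP.charP_iff_prime_eq_zero Fact.out).mpr hp2'
  obtain ⟨s, hs⟩ := Groth.Agent.CAlgCohen.exists_coefficientField R₂ (fun l hl hl0 => by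
    have : l = p := by
      have := (CharP.cast_eq_zero_iff (ResidueField R₂) p l).mp hl0
      exact ((Nat.prime_dvd_prime_iff_eq Fact.out hl).mp this).symm
    rw [this, hp2])
  -- the projection `a ↦ a - s ā`
  have hloc : IsLocalHom q := IsLocalHom.of_surjective q Ideal.Quotient.mk_surjective
  let s' : R →+* R₂ := (s.comp (residue R₂)).comp q
  have hdiff : ∀ a, q a - s' a ∈ maximalIdeal R₂ := fun a => by
    rw [← residue_eq_zero_iff, map_sub, sub_eq_zero]
    exact (RingHom.congr_fun hs (residue R₂ (q a))).symm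
  have hlift : ∀ a, ∃ x : M, q x.1 = q a - s' a := fun a => by
    have h := hdiff a
    rw [hmax, Ideal.mem_map_iff_of_surjective q Ideal.Quotient.mk_surjective] at h
    obtain ⟨x, hx, hxe⟩ := h
    exact ⟨⟨x, hx⟩, hxe⟩
  choose g hg using hlift
  have hcot : ∀ x y : M, q x.1 = q y.1 → M.toCotangent x = M.toCotangent y := fun x y h => by
    rw [Ideal.toCotangent_eq]
    exact Ideal.Quotient.eq.mp h
  have hsmul : ∀ (a : R) (x : M), algebraMap R 𝕂 a • M.toCotangent x = M.toCotangent (a • x) := fun a x => by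
    rw [map_smul]
    exact algebraMap_smul _ _ _
  have hzero : ∀ u v : R₂, u ∈ maximalIdeal R₂ → v ∈ maximalIdeal R₂ → u * v = 0 := fun u v hu hv => by
    have : u * v ∈ maximalIdeal R₂ ^ 2 := by rw [pow_two (maximalIdeal R₂)]; exact Ideal.mul_mem_mul hu hv
    exact h2.le this
  let δ : Derivation ℤ R (CotangentSpace R) :=
    Derivation.mk'
      (AddMonoidHom.toIntLinearMap
        { toFun := fun a => M.toCotangent (g a)
          map_zero' := by
            rw [← map_zero M.toCotangent]
            exact hcot _ _ (by rw [hg]; simp)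
          map_add' := fun a b => by
            rw [← map_add]
            exact hcot _ _ (by rw [Submodule.coe_add, map_add, hg, hg, hg, map_add, map_add]; ring) })
      fun a b => by
        show M.toCotangent (g (a * b)) = a • M.toCotangent (g b) + b • M.toCotangent (g a)
        rw [← map_smul, ← map_smul, ← map_add]
        refine hcot _ _ ?_
        rw [Submodule.coe_add, SetLike.val_smul, SetLike.val_smul, smul_eq_mul, smul_eq_mul, map_add, map_mul, map_mul,
          hg, hg, hg, map_mul, map_mul]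
        have h0 := hzero _ _ (hdiff a) (hdiff b)
        linear_combination -h0
  refine ⟨δ.liftKaehlerDifferential.liftBaseChange 𝕂, LinearMap.ext fun z => ?_⟩
  obtain ⟨x, rfl⟩ := M.toCotangent_surjective z
  rw [LinearMap.comp_apply, ι_toCotangent, LinearMap.liftBaseChange_tmul, one_smul,
    Derivation.liftKaehlerDifferential_comp_D, LinearMap.id_apply]
  show M.toCotangent (g x.1) = M.toCotangent x
  refine hcot _ _ ?_
  have hx : residue R₂ (q x.1) = 0 := (residue_eq_zero_iff _).mpr (hmax ▸ Ideal.mem_map_of_mem q x.2)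
  rw [hg]
  simp [s', hx]

theorem ι_injective (p : ℕ) [Fact p.Prime] (hp : (p : R) = 0) : Function.Injective (ι R) := by
  obtain ⟨π, hπ⟩ := exists_retraction R p hp
  exact fun a b h => by
    have := congrArg π h
    rwa [← LinearMap.comp_apply, ← LinearMap.comp_apply, hπ] at this

end Groth.Agent.CAlgH.CotOmega
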