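import Groth.Prelude.Def_W4c5adicflatcomplDec
import Mathlib

/-!
Basic theory of adically decaying functions.
-/

namespace CAlgH.Decay

open W4c5adicflatcompl

variable {A : Type*} [CommRing A] (I : Ideal A)

theorem mem_smul_top_pow_le {M : Type*} [AddCommGroup M] [Module A M] {m n : ℕ} (h : m ≤ n)
    {x : M} (hx : x ∈ (I ^ n • ⊤ : Submodule A M)) : x ∈ (I ^ m • ⊤ : Submodule A M) :=
  Submodule.smul_mono (Ideal.pow_le_pow_right h) le_rfl hx

theorem map_mem_pow {M N : Type*} [AddCommGroup M] [Module A M] [AddCommGroup N] [Module A N]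
    (f : M →ₗ[A] N) {n : ℕ} {x : M} (hx : x ∈ (I ^ n • ⊤ : Submodule A M)) :
    f x ∈ (I ^ n • ⊤ : Submodule A N) := by
  have := Submodule.mem_map_of_mem (f := f) hx
  rw [Submodule.map_smul''] at this
  exact Submodule.smul_mono le_rfl le_top this

theorem eq_zero_of_forall_mem {M : Type*} [AddCommGroup M] [Module A M] [IsHausdorff I M] {x : M}
    (h : ∀ n : ℕ, x ∈ (I ^ n • ⊤ : Submodule A M)) : x = 0 :=
  IsHausdorff.haus (inferInstance : IsHausdorff I M) x fun n => SModEq.zero.2 (h n)

theorem eq_of_forall_mem {M : Type*} [AddCommGroup M] [Module A M] [IsHausdorff I M] {x y : M}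
    (h : ∀ n : ℕ, x - y ∈ (I ^ n • ⊤ : Submodule A M)) : x = y :=
  sub_eq_zero.1 (eq_zero_of_forall_mem I h)

theorem exists_limit {M : Type*} [AddCommGroup M] [Module A M] [IsPrecomplete I M] (f : ℕ → M)
    (hf : ∀ n : ℕ, f (n + 1) - f n ∈ (I ^ n • ⊤ : Submodule A M)) :
    ∃ L : M, ∀ n : ℕ, L - f n ∈ (I ^ n • ⊤ : Submodule A M) := by
  have key : ∀ m n : ℕ, m ≤ n → f n - f m ∈ (I ^ m • ⊤ : Submodule A M) := by
    intro m n hmn
    induction n, hmn using Nat.le_induction with
    | base => simp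
    | succ n hmn ih =>
      have := Submodule.add_mem _ (mem_smul_top_pow_le I hmn (hf n)) ih
      rwa [sub_add_sub_cancel] at this
  obtain ⟨L, hL⟩ := IsPrecomplete.prec (inferInstance : IsPrecomplete I M) (f := f)
    (fun {m n} hmn => (SModEq.sub_mem.2 (key m n hmn)).symm)
  exact ⟨L, fun n => SModEq.sub_mem.1 (hL n).symm⟩

theorem mem_pow_smul_top_self {n : ℕ} {a : A} :
    a ∈ (I ^ n • ⊤ : Submodule A A) ↔ a ∈ I ^ n := by
  rw [smul_eq_mul, Ideal.mul_top]

/-- writing an element of `span s • N` as a combination of the generators -/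
theorem exists_coeff {M : Type*} [AddCommGroup M] [Module A M] (s : Finset A) (N : Submodule A M)
    {x : M} (hx : x ∈ Ideal.span (s : Set A) • N) :
    ∃ y : A → M, (∀ a, y a ∈ N) ∧ x = ∑ a ∈ s, a • y a := by
  induction hx using Submodule.smul_induction_on' with
  | smul r hr m hm =>
    obtain ⟨c, -, hc⟩ := Submodule.mem_span_finset.1 hr
    refine ⟨fun a => c a • m, fun a => N.smul_mem _ hm, ?_⟩
    rw [← hc, Finset.sum_smul]
    exact Finset.sum_congr rfl fun a _ => by rw [smul_eq_mul, mul_smul, smul_comm]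
  | add x _ y _ ihx ihy =>
    obtain ⟨u, hu, rfl⟩ := ihx
    obtain ⟨v, hv, rfl⟩ := ihy
    exact ⟨u + v, fun a => N.add_mem (hu a) (hv a),
      by simp [smul_add, Finset.sum_add_distrib]⟩

variable {Z : Type*} {M : Type*} [AddCommGroup M] [Module A M]

theorem val_mem_pow {n : ℕ} {f : decaying I Z M}
    (hf : f ∈ (I ^ n • ⊤ : Submodule A (decaying I Z M))) (z : Z) :
    (f : Z → M) z ∈ (I ^ n • ⊤ : Submodule A M) :=
  map_mem_pow I ((LinearMap.proj z).comp (decaying I Z M).subtype) hf

theorem isHausdorff [IsHausdorff I M] : IsHausdorff I (decaying I Z M) :=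
  ⟨fun f hf => Subtype.ext (funext fun z =>
    eq_zero_of_forall_mem I fun n => val_mem_pow I (SModEq.zero.1 (hf n)) z)⟩

/-- A choice function of maximal level. -/
theorem exists_level [IsHausdorff I M] (N : ℕ) (x : M) (hx : x ≠ 0)
    (hN : x ∈ (I ^ N • ⊤ : Submodule A M)) :
    ∃ m, N ≤ m ∧ x ∈ (I ^ m • ⊤ : Submodule A M) ∧
      ∀ k, x ∈ (I ^ k • ⊤ : Submodule A M) → k ≤ m := by
  have h : ∃ k, x ∉ (I ^ k • ⊤ : Submodule A M) := by
    by_contra h
    push Not at h
    exact hx (eq_zero_of_forall_mem I h)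
  classical
  have h0 : Nat.find h ≠ 0 := by
    intro h0
    have := Nat.find_spec h
    rw [h0] at this
    exact this (by simp)
  have hle : ∀ k, x ∈ (I ^ k • ⊤ : Submodule A M) → k < Nat.find h := by
    intro k hk
    by_contra hlt
    exact Nat.find_spec h (mem_smul_top_pow_le I (not_lt.1 hlt) hk)
  refine ⟨Nat.find h - 1, Nat.le_sub_one_of_lt (hle N hN), ?_, fun k hk => Nat.le_sub_one_of_lt (hle k hk)⟩
  by_contra hc
  exact Nat.find_min h (Nat.sub_one_lt h0) hc

theorem mem_pow_smul_iff [IsHausdorff I M] {n : ℕ} (hfg : (I ^ n).FG) (f : decaying I Z M) :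
    f ∈ (I ^ n • ⊤ : Submodule A (decaying I Z M)) ↔
      ∀ z, (f : Z → M) z ∈ (I ^ n • ⊤ : Submodule A M) := by
  refine ⟨fun h z => val_mem_pow I h z, fun h => ?_⟩
  obtain ⟨s, hs⟩ := hfg
  have key : ∀ z, ∃ y : A → M, (∀ a k, (f : Z → M) z ∈ (I ^ (n + k) • ⊤ : Submodule A M) →
      y a ∈ (I ^ k • ⊤ : Submodule A M)) ∧ (f : Z → M) z = ∑ a ∈ s, a • y a := by
    intro z
    by_cases hz : (f : Z → M) z = 0
    · exact ⟨0, fun a k _ => Submodule.zero_mem _, by simp [hz]⟩
    obtain ⟨m, hnm, hm, hmax⟩ := exists_level I n _ hz (h z)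
    have : (f : Z → M) z ∈ Ideal.span (s : Set A) • (I ^ (m - n) • ⊤ : Submodule A M) := by
      rw [show Ideal.span (s : Set A) = I ^ n from hs, ← Submodule.mul_smul, ← pow_add, Nat.add_sub_cancel' hnm]
      exact hm
    obtain ⟨y, hy, hsum⟩ := exists_coeff s _ this
    exact ⟨y, fun a k hk => mem_smul_top_pow_le I
      (Nat.le_sub_of_add_le (by have := hmax _ hk; omega)) (hy a), hsum⟩
  choose y hy hsum using key
  have hg : ∀ a, (fun z => y z a) ∈ decaying I Z M := fun a k =>
    (f.2 (n + k)).subset fun z hz hz' => hz (hy z a k hz')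
  have heq : f = ∑ a ∈ s, a • (⟨_, hg a⟩ : decaying I Z M) := by
    refine Subtype.ext (funext fun z => ?_)
    simp [hsum z]
  rw [heq]
  exact Submodule.sum_mem _ fun a ha => Submodule.smul_mem_smul
    (by rw [← hs]; exact Submodule.subset_span ha) Submodule.mem_top

theorem isAdicComplete [IsAdicComplete I M] (hfg : I.FG) :
    IsAdicComplete I (decaying I Z M) where
  toIsHausdorff := isHausdorff I
  toIsPrecomplete := ⟨fun f hf => by
    have hz : ∀ z, ∃ L, ∀ n, L - (f n : Z → M) z ∈ (I ^ n • ⊤ : Submodule A M) := fun z =>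
      exists_limit I _ fun n => by
        have := val_mem_pow I (SModEq.sub_mem.1 (hf (Nat.le_succ n)).symm) z
        simpa using this
    choose L hL using hz
    have hLd : L ∈ decaying I Z M := fun n => ((f n).2 n).subset fun z hz hz' => hz (by
      simpa using Submodule.add_mem _ (hL z n) hz')
    refine ⟨⟨L, hLd⟩, fun n => (SModEq.sub_mem.2 ?_).symm⟩
    exact (mem_pow_smul_iff I (Ideal.FG.pow hfg) _).2 fun z => hL z n⟩

/-- `m` is the adic sum of the family `f`. -/
def HasSum (f : Z → M) (m : M) : Prop :=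
  ∀ n : ℕ, ∀ S : Finset Z, (∀ z, z ∉ S → f z ∈ (I ^ n • ⊤ : Submodule A M)) →
    m - ∑ z ∈ S, f z ∈ (I ^ n • ⊤ : Submodule A M)

theorem sum_sub_sum_mem {f : Z → M} {n : ℕ} {S T : Finset Z}
    (hS : ∀ z, z ∉ S → f z ∈ (I ^ n • ⊤ : Submodule A M))
    (hT : ∀ z, z ∉ T → f z ∈ (I ^ n • ⊤ : Submodule A M)) :
    (∑ z ∈ S, f z) - ∑ z ∈ T, f z ∈ (I ^ n • ⊤ : Submodule A M) := by
  classical
  rw [← Finset.sum_sdiff_sub_sum_sdiff]
  exact Submodule.sub_mem _ (Submodule.sum_mem _ fun z hz => hT z (Finset.mem_sdiff.1 hz).2)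
    (Submodule.sum_mem _ fun z hz => hS z (Finset.mem_sdiff.1 hz).2)

theorem hasSum_of_exists {f : Z → M} {m : M}
    (h : ∀ n : ℕ, ∃ S : Finset Z, (∀ z, z ∉ S → f z ∈ (I ^ n • ⊤ : Submodule A M)) ∧
      m - ∑ z ∈ S, f z ∈ (I ^ n • ⊤ : Submodule A M)) : HasSum I f m := by
  intro n T hT
  obtain ⟨S, hS, hm⟩ := h n
  simpa using Submodule.add_mem _ hm (sum_sub_sum_mem I hS hT)

theorem exists_finset {f : Z → M} (hf : f ∈ decaying I Z M) (n : ℕ) :
    ∃ S : Finset Z, ∀ z, z ∉ S → f z ∈ (I ^ n • ⊤ : Submodule A M) :=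
  ⟨(hf n).toFinset, fun z hz => by simpa using hz⟩

theorem HasSum.unique [IsHausdorff I M] {f : Z → M} (hf : f ∈ decaying I Z M) {m m' : M}
    (h : HasSum I f m) (h' : HasSum I f m') : m = m' :=
  eq_of_forall_mem I fun n => by
    obtain ⟨S, hS⟩ := exists_finset I hf n
    simpa using Submodule.sub_mem _ (h n S hS) (h' n S hS)

theorem exists_hasSum [IsPrecomplete I M] {f : Z → M} (hf : f ∈ decaying I Z M) :
    ∃ m, HasSum I f m := by
  choose S hS using exists_finset I hf
  obtain ⟨L, hL⟩ := exists_limit I (fun n => ∑ z ∈ S n, f z) fun n =>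
    sum_sub_sum_mem I (fun z hz => mem_smul_top_pow_le I (Nat.le_succ n) (hS (n + 1) z hz)) (hS n)
  exact ⟨L, hasSum_of_exists I fun n => ⟨S n, hS n, hL n⟩⟩

section sumMap

variable {N : Type*} [AddCommGroup N] [Module A N]

theorem comp_mem_decaying (h : Z → N →ₗ[A] M) (g : decaying I Z N) :
    (fun z => h z ((g : Z → N) z)) ∈ decaying I Z M :=
  fun n => (g.2 n).subset fun z hz hz' => hz (map_mem_pow I (h z) hz')

/-- The map `g ↦ ∑ h z (g z)`. -/
noncomputable def sumMap [IsAdicComplete I M] (h : Z → N →ₗ[A] M) : decaying I Z N →ₗ[A] M where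
  toFun g := (exists_hasSum I (comp_mem_decaying I h g)).choose
  map_add' g₁ g₂ := by
    refine HasSum.unique I (comp_mem_decaying I h (g₁ + g₂)) (Exists.choose_spec _) ?_
    refine hasSum_of_exists I fun n => ?_
    classical
    obtain ⟨S₁, hS₁⟩ := exists_finset I (comp_mem_decaying I h g₁) n
    obtain ⟨S₂, hS₂⟩ := exists_finset I (comp_mem_decaying I h g₂) n
    have h1 : ∀ z, z ∉ S₁ ∪ S₂ → _ := fun z hz => hS₁ z fun h' => hz (Finset.mem_union_left _ h')
    have h2 : ∀ z, z ∉ S₁ ∪ S₂ → _ := fun z hz => hS₂ z fun h' => hz (Finset.mem_union_right _ h')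
    refine ⟨S₁ ∪ S₂, fun z hz => by simpa using Submodule.add_mem _ (h1 z hz) (h2 z hz), ?_⟩
    have := Submodule.add_mem _
      ((exists_hasSum I (comp_mem_decaying I h g₁)).choose_spec n _ h1)
      ((exists_hasSum I (comp_mem_decaying I h g₂)).choose_spec n _ h2)
    simpa [Finset.sum_add_distrib, sub_add_sub_comm] using this
  map_smul' a g := by
    refine HasSum.unique I (comp_mem_decaying I h (a • g)) (Exists.choose_spec _) ?_
    refine hasSum_of_exists I fun n => ?_
    obtain ⟨S, hS⟩ := exists_finset I (comp_mem_decaying I h g) n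
    refine ⟨S, fun z hz => by simpa using Submodule.smul_mem _ a (hS z hz), ?_⟩
    have := Submodule.smul_mem _ a ((exists_hasSum I (comp_mem_decaying I h g)).choose_spec n _ hS)
    simpa [Finset.smul_sum, smul_sub] using this

theorem hasSum_sumMap [IsAdicComplete I M] (h : Z → N →ₗ[A] M) (g : decaying I Z N) :
    HasSum I (fun z => h z ((g : Z → N) z)) (sumMap I h g) :=
  (exists_hasSum I (comp_mem_decaying I h g)).choose_spec

theorem sumMap_single [DecidableEq Z] [IsAdicComplete I M] (h : Z → N →ₗ[A] M) (z : Z) (x : N) :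
    sumMap I h (single I z x) = h z x := by
  refine HasSum.unique I (comp_mem_decaying I h _) (hasSum_sumMap I h _) ?_
  refine hasSum_of_exists I fun n => ⟨{z}, fun z' hz' => ?_, by simp⟩
  simp [Pi.single_eq_of_ne (Finset.notMem_singleton.1 hz')]

theorem sub_sum_single_mem [DecidableEq Z] [IsHausdorff I M] {n : ℕ} (hfg : (I ^ n).FG)
    (g : decaying I Z M) {S : Finset Z}
    (hS : ∀ z, z ∉ S → (g : Z → M) z ∈ (I ^ n • ⊤ : Submodule A M)) :
    g - ∑ z ∈ S, single I z ((g : Z → M) z) ∈ (I ^ n • ⊤ : Submodule A (decaying I Z M)) := by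
  rw [mem_pow_smul_iff I hfg]
  intro z
  by_cases hz : z ∈ S <;> simp [Finset.sum_apply, Finset.sum_pi_single, hz, hS z]

/-- Linear maps out of decaying functions are determined by the values on singles. -/
theorem map_ext_single [DecidableEq Z] [IsHausdorff I N] [IsHausdorff I M] (hfg : I.FG)
    {φ ψ : decaying I Z N →ₗ[A] M} (h : ∀ z x, φ (single I z x) = ψ (single I z x)) : φ = ψ := by
  refine LinearMap.ext fun g => eq_of_forall_mem I fun n => ?_
  obtain ⟨S, hS⟩ := exists_finset I g.2 n
  have := map_mem_pow I (φ - ψ) (sub_sum_single_mem I (Ideal.FG.pow hfg) g hS)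
  simpa [map_sub, map_sum, h] using this

end sumMap

section completion

theorem exists_of_sub_mem {M : Type*} [AddCommGroup M] [Module A M] {n : ℕ}
    (h : (I ^ n • ⊤ : Submodule A (AdicCompletion I M)) = (AdicCompletion.eval I M n).ker)
    (x : AdicCompletion I M) :
    ∃ y : M, x - AdicCompletion.of I M y ∈ (I ^ n • ⊤ : Submodule A (AdicCompletion I M)) := by
  obtain ⟨y, hy⟩ := Submodule.Quotient.mk_surjective _ (x.val n)
  refine ⟨y, ?_⟩
  rw [h, LinearMap.mem_ker, map_sub, AdicCompletion.eval_of, sub_eq_zero]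
  exact hy.symm

/-- The retraction of the completion map of a completion. -/
noncomputable def retraction (M : Type*) [AddCommGroup M] [Module A M] :
    AdicCompletion I (AdicCompletion I M) →ₗ[A] AdicCompletion I M :=
  AdicCompletion.lift I
    (fun n => ((I ^ n • ⊤ : Submodule A (AdicCompletion I M)).liftQ (AdicCompletion.eval I M n)
      ((AdicCompletion.pow_smul_top_le_ker_eval (I := I) (M := M) n))).comp
        (AdicCompletion.eval I (AdicCompletion I M) n))
    (fun {m n} hmn => by
      refine LinearMap.ext fun x => ?_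
      obtain ⟨y, hy⟩ := Submodule.Quotient.mk_surjective _ (x.val n)
      have hm : x.val m = Submodule.Quotient.mk y := by
        rw [← AdicCompletion.transitionMap_comp_eval_apply I _ hmn x]
        simp [← hy]
      simp [← hy, hm])

theorem retraction_val (x : AdicCompletion I (AdicCompletion I M)) (n : ℕ) :
    (retraction I M x).val n = ((I ^ n • ⊤ : Submodule A (AdicCompletion I M)).liftQ
      (AdicCompletion.eval I M n) ((AdicCompletion.pow_smul_top_le_ker_eval (I := I) (M := M) n))) (x.val n) :=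
  rfl

theorem retraction_of (x : AdicCompletion I M) :
    retraction I M (AdicCompletion.of I (AdicCompletion I M) x) = x :=
  AdicCompletion.ext fun n => by rw [retraction_val, AdicCompletion.of_apply]; rfl

theorem retraction_map_of (x : AdicCompletion I M) :
    retraction I M (AdicCompletion.map I (AdicCompletion.of I M) x) = x := by
  refine AdicCompletion.ext fun n => ?_
  obtain ⟨y, hy⟩ := Submodule.Quotient.mk_surjective _ (x.val n)
  rw [retraction_val, AdicCompletion.map_val_apply, ← hy]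
  rfl

/-- If a completion is complete, kernels of evaluations are the powers of the ideal. -/
theorem ker_eval_of_isAdicComplete [IsAdicComplete I (AdicCompletion I M)] (n : ℕ) :
    (I ^ n • ⊤ : Submodule A (AdicCompletion I M)) = (AdicCompletion.eval I M n).ker := by
  refine le_antisymm ((AdicCompletion.pow_smul_top_le_ker_eval (I := I) (M := M) n)) fun x hx => ?_
  have hinj : Function.Injective (retraction I M) := by
    intro a b hab
    obtain ⟨a, rfl⟩ := AdicCompletion.of_surjective I (AdicCompletion I M) a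
    obtain ⟨b, rfl⟩ := AdicCompletion.of_surjective I (AdicCompletion I M) b
    rw [retraction_of, retraction_of] at hab
    rw [hab]
  have heq : AdicCompletion.of I (AdicCompletion I M) x =
      AdicCompletion.map I (AdicCompletion.of I M) x :=
    hinj (by rw [retraction_of, retraction_map_of])
  have := congrArg (fun y => y.val n) heq
  simp only [AdicCompletion.of_apply, AdicCompletion.map_val_apply] at this
  rw [LinearMap.mem_ker] at hx
  rw [show x.val n = 0 from hx, map_zero] at this
  exact (Submodule.Quotient.mk_eq_zero _).1 this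

end completion

end CAlgH.Decay
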