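import Groth.Agent.CAlgH.Decay

/-!
Decaying functions with values in finite modules over a complete Noetherian ring.
-/

namespace CAlgH.Decay

open W4c5adicflatcompl TensorProduct

variable {A : Type*} [CommRing A] [IsNoetherianRing A] (I : Ideal A)

theorem isHausdorff_of_finite [IsAdicComplete I A] (M : Type*) [AddCommGroup M] [Module A M]
    [Module.Finite A M] : IsHausdorff I M :=
  IsHausdorff.of_le_jacobson _ _ (IsAdicComplete.le_jacobson_bot I)

theorem exists_lift {Z M N : Type*} [AddCommGroup M] [Module A M] [AddCommGroup N] [Module A N]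
    [IsHausdorff I N] (φ : M →ₗ[A] N) (hφ : Function.Surjective φ) {g : Z → N}
    (hg : g ∈ decaying I Z N) : ∃ f ∈ decaying I Z M, ∀ z, φ (f z) = g z := by
  have key : ∀ z, ∃ x : M, φ x = g z ∧
      ∀ k, g z ∈ (I ^ k • ⊤ : Submodule A N) → x ∈ (I ^ k • ⊤ : Submodule A M) := by
    intro z
    by_cases hz : g z = 0
    · exact ⟨0, by rw [map_zero, hz], fun k _ => Submodule.zero_mem _⟩
    obtain ⟨m, -, hm, hmax⟩ := exists_level I 0 (g z) hz (by simp)
    have : g z ∈ (I ^ m • ⊤ : Submodule A M).map φ := by
      rwa [Submodule.map_smul'', Submodule.map_top, LinearMap.range_eq_top.2 hφ]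
    obtain ⟨x, hx, hxz⟩ := this
    exact ⟨x, hxz, fun k hk => mem_smul_top_pow_le I (hmax k hk) hx⟩
  choose f hf hf' using key
  exact ⟨f, fun n => (hg n).subset fun z hz hz' => hz (hf' z n hz'), hf⟩

theorem mem_decaying_submodule_iff {Z M : Type*} [AddCommGroup M] [Module A M] [Module.Finite A M]
    (N : Submodule A M) (f : Z → N) :
    f ∈ decaying I Z N ↔ (fun z => (f z : M)) ∈ decaying I Z M := by
  refine ⟨fun h n => (h n).subset fun z hz hz' => hz (map_mem_pow I N.subtype hz'), fun h n => ?_⟩
  obtain ⟨c, hc⟩ := Ideal.exists_pow_inf_eq_pow_smul I N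
  refine (h (n + c)).subset fun z hz hz' => hz ?_
  have h2 : (f z : M) ∈ I ^ n • (I ^ c • ⊤ ⊓ N) := by
    have h3 := hc (n + c) (Nat.le_add_left c n)
    rw [Nat.add_sub_cancel] at h3
    rw [← h3]
    exact ⟨hz', (f z).2⟩
  have h4 : (f z : M) ∈ (I ^ n • ⊤ : Submodule A N).map N.subtype := by
    rw [Submodule.map_smul'', Submodule.map_top, Submodule.range_subtype]
    exact Submodule.smul_mono le_rfl inf_le_right h2
  obtain ⟨y, hy, hyz⟩ := h4
  rwa [Subtype.ext hyz] at hy

/-- The canonical map `M ⊗ dec(Z, A) → Z → M`. -/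
noncomputable def theta (Z M : Type*) [AddCommGroup M] [Module A M] :
    M ⊗[A] decaying I Z A →ₗ[A] Z → M :=
  TensorProduct.piScalarRightHom A A M Z ∘ₗ (decaying I Z A).subtype.lTensor M

theorem theta_tmul {Z M : Type*} [AddCommGroup M] [Module A M] (m : M) (g : decaying I Z A) :
    theta I Z M (m ⊗ₜ g) = fun z => (g : Z → A) z • m := by
  simp [theta]

theorem theta_map {Z M M' : Type*} [AddCommGroup M] [Module A M] [AddCommGroup M'] [Module A M']
    (f : M →ₗ[A] M') (y : M ⊗[A] decaying I Z A) (z : Z) :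
    theta I Z M' (f.rTensor _ y) z = f (theta I Z M y z) := by
  induction y using TensorProduct.induction_on with
  | zero => simp
  | tmul m g => simp [theta_tmul]
  | add a b ha hb => simp [ha, hb]

theorem theta_mem {Z M : Type*} [AddCommGroup M] [Module A M] (y : M ⊗[A] decaying I Z A) :
    theta I Z M y ∈ decaying I Z M := by
  induction y using TensorProduct.induction_on with
  | zero => simp
  | tmul m g =>
    rw [theta_tmul]
    exact comp_mem_decaying I (fun _ => LinearMap.toSpanSingleton A M m) g
  | add a b ha hb => rw [map_add]; exact add_mem ha hb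

theorem theta_free_surjective {Z : Type*} {k : ℕ} {f : Z → Fin k → A}
    (hf : f ∈ decaying I Z (Fin k → A)) : ∃ y, theta I Z (Fin k → A) y = f := by
  classical
  refine ⟨∑ i, Pi.single i 1 ⊗ₜ ⟨fun z => f z i,
    comp_mem_decaying I (fun _ => LinearMap.proj i) ⟨f, hf⟩⟩, ?_⟩
  ext z j
  simp [map_sum, theta_tmul, Finset.sum_apply, Pi.single_apply]

theorem theta_free_injective {Z : Type*} {k : ℕ} (y : (Fin k → A) ⊗[A] decaying I Z A)
    (hy : theta I Z (Fin k → A) y = 0) : y = 0 := by
  classical
  let P : Fin k → (Fin k → A) ⊗[A] decaying I Z A →ₗ[A] decaying I Z A := fun i =>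
    (TensorProduct.lid A _).toLinearMap ∘ₗ (LinearMap.proj i : (Fin k → A) →ₗ[A] A).rTensor _
  have hP : ∀ i y z, ((P i y : decaying I Z A) : Z → A) z = theta I Z (Fin k → A) y z i := by
    intro i y z
    induction y using TensorProduct.induction_on with
    | zero => simp
    | tmul m g => simp [P, theta_tmul, mul_comm]
    | add a b ha hb => simp [ha, hb]
  have hdecomp : ∀ y, y = ∑ i, Pi.single i 1 ⊗ₜ P i y := by
    intro y
    induction y using TensorProduct.induction_on with
    | zero => simp
    | tmul m g =>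
      conv_lhs => rw [pi_eq_sum_univ' m, TensorProduct.sum_tmul]
      simp [P, TensorProduct.smul_tmul]
    | add a b ha hb =>
      simp only [map_add, TensorProduct.tmul_add, Finset.sum_add_distrib, ← ha, ← hb]
  rw [hdecomp y]
  refine Finset.sum_eq_zero fun i _ => ?_
  have : P i y = 0 := Subtype.ext (funext fun z => by simp [hP, hy])
  simp [this]

theorem theta_surjective [IsAdicComplete I A] {Z M : Type*} [AddCommGroup M] [Module A M]
    [Module.Finite A M] {f : Z → M} (hf : f ∈ decaying I Z M) : ∃ y, theta I Z M y = f := by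
  obtain ⟨k, φ, hφ⟩ := Module.Finite.exists_fin' A M
  haveI := isHausdorff_of_finite I M
  obtain ⟨g, hg, hgf⟩ := exists_lift I φ hφ hf
  obtain ⟨y, hy⟩ := theta_free_surjective I hg
  exact ⟨φ.rTensor _ y, funext fun z => by rw [theta_map, hy, hgf]⟩

theorem theta_injective [IsAdicComplete I A] (Z M : Type*) [AddCommGroup M] [Module A M]
    [Module.Finite A M] : Function.Injective (theta I Z M) := by
  obtain ⟨k, φ, hφ⟩ := Module.Finite.exists_fin' A M
  rw [injective_iff_map_eq_zero]
  intro x hx
  obtain ⟨y, rfl⟩ := LinearMap.rTensor_surjective (decaying I Z A) hφ x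
  have hK : ∀ z, theta I Z (Fin k → A) y z ∈ LinearMap.ker φ := fun z => by
    rw [LinearMap.mem_ker, ← theta_map, hx, Pi.zero_apply]
  obtain ⟨w, hw⟩ := theta_surjective I (M := LinearMap.ker φ) (f := fun z => ⟨_, hK z⟩)
    ((mem_decaying_submodule_iff I _ _).2 (theta_mem I y))
  have : y = (LinearMap.ker φ).subtype.rTensor _ w := sub_eq_zero.1 <|
    theta_free_injective I _ <| funext fun z => by
      rw [map_sub, Pi.sub_apply, theta_map, hw]; simp
  rw [this, ← LinearMap.comp_apply, ← LinearMap.rTensor_comp,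
    (LinearMap.comp_ker_subtype φ : φ ∘ₗ (LinearMap.ker φ).subtype = 0), LinearMap.rTensor_zero,
    LinearMap.zero_apply]

theorem flat_decaying [IsAdicComplete I A] (Z : Type*) : Module.Flat A (decaying I Z A) := by
  rw [Module.Flat.iff_rTensor_injective']
  intro J
  rw [injective_iff_map_eq_zero]
  intro x hx
  refine theta_injective I Z J (((LinearMap.map_zero (theta I Z J)).symm ▸ ?_) : _)
  funext z
  have := theta_map I J.subtype x z
  rw [hx, map_zero] at this
  exact Subtype.ext (by simpa using this.symm)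

end CAlgH.Decay
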