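import Mathlib

/-!
# Divisors of the generic determinant
-/

set_option autoImplicit false
universe u

open MvPolynomial

namespace Groth.Agent.CAlgH.DetUnits

variable {n : ℕ}

/-- set the variables in `S` to zero -/
noncomputable def kill (k : Type u) [CommRing k] (S : Finset (Fin n × Fin n)) :
    MvPolynomial (Fin n × Fin n) k →ₐ[k] MvPolynomial (Fin n × Fin n) k :=
  aeval fun q => if q ∈ S then 0 else X q

theorem kill_comp (k : Type u) [CommRing k] (S T : Finset (Fin n × Fin n)) :
    (kill k S).comp (kill k T) = kill k (S ∪ T) := by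
  refine algHom_ext fun q => ?_
  simp only [kill, AlgHom.comp_apply, aeval_X, Finset.mem_union]
  by_cases h : q ∈ T <;> simp [h]

theorem kill_univ (k : Type u) [CommRing k] (f : MvPolynomial (Fin n × Fin n) k) :
    kill k Finset.univ f = C (constantCoeff f) := by
  have : kill k (Finset.univ : Finset (Fin n × Fin n)) =
      (Algebra.ofId k _).comp (aeval fun _ => (0 : k)) :=
    algHom_ext fun q => by simp [kill]
  rw [this]
  simp [Algebra.ofId_apply, MvPolynomial.algebraMap_eq]

/-- scale the variables in `S` by a new variable -/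
noncomputable def scale (k : Type u) [CommRing k] (S : Finset (Fin n × Fin n)) :
    MvPolynomial (Fin n × Fin n) k →ₐ[k] Polynomial (MvPolynomial (Fin n × Fin n) k) :=
  aeval fun q => if q ∈ S then Polynomial.X * Polynomial.C (X q) else Polynomial.C (X q)

theorem scale_eval_one (k : Type u) [CommRing k] (S : Finset (Fin n × Fin n))
    (f : MvPolynomial (Fin n × Fin n) k) : (scale k S f).eval 1 = f := by
  have h : ((Polynomial.evalRingHom (1 : MvPolynomial (Fin n × Fin n) k)).comp (scale k S).toRingHom) =
      RingHom.id _ := by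
    refine ringHom_ext (fun c => ?_) (fun q => ?_)
    · simp [scale]
    · by_cases hq : q ∈ S <;> simp [scale, hq]
  exact RingHom.congr_fun h f

theorem scale_eval_zero (k : Type u) [CommRing k] (S : Finset (Fin n × Fin n))
    (f : MvPolynomial (Fin n × Fin n) k) : (scale k S f).eval 0 = kill k S f := by
  have h : ((Polynomial.evalRingHom (0 : MvPolynomial (Fin n × Fin n) k)).comp (scale k S).toRingHom) =
      (kill k S).toRingHom := by
    refine ringHom_ext (fun c => ?_) (fun q => ?_)
    · simp [scale, kill]
    · by_cases hq : q ∈ S <;> simp [scale, kill, hq]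
  exact RingHom.congr_fun h f

theorem kill_eq_self_of_natDegree (k : Type u) [CommRing k] (S : Finset (Fin n × Fin n))
    (f : MvPolynomial (Fin n × Fin n) k) (h : (scale k S f).natDegree = 0) : kill k S f = f := by
  obtain ⟨c, hc⟩ := Polynomial.natDegree_eq_zero.mp h
  rw [← scale_eval_zero, ← hc, Polynomial.eval_C]
  have := scale_eval_one k S f
  rwa [← hc, Polynomial.eval_C] at this

/-- the generic determinant -/
noncomputable abbrev detX (k : Type u) [CommRing k] (n : ℕ) : MvPolynomial (Fin n × Fin n) k :=
  (Matrix.mvPolynomialX (Fin n) (Fin n) k).det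

theorem scale_row (k : Type u) [CommRing k] (i : Fin n) :
    scale k ({i} ×ˢ Finset.univ) (detX k n) = Polynomial.X * Polynomial.C (detX k n) := by
  classical
  let M : Matrix (Fin n) (Fin n) (Polynomial (MvPolynomial (Fin n × Fin n) k)) :=
    (Matrix.mvPolynomialX (Fin n) (Fin n) k).map Polynomial.C
  have h1 : (Matrix.mvPolynomialX (Fin n) (Fin n) k).map (scale k ({i} ×ˢ Finset.univ)) =
      M.updateRow i ((Polynomial.X : Polynomial (MvPolynomial (Fin n × Fin n) k)) • M i) := by
    ext1 a b
    by_cases ha : a = i
    · subst ha; simp [scale, M]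
    · simp [scale, M, ha, Ne.symm ha]
  rw [detX, AlgHom.map_det, AlgHom.mapMatrix_apply, h1, Matrix.det_updateRow_smul,
    Matrix.updateRow_eq_self]
  congr 1
  exact (RingHom.map_det (Polynomial.C : MvPolynomial (Fin n × Fin n) k →+* _) _).symm

theorem scale_col (k : Type u) [CommRing k] (j : Fin n) :
    scale k (Finset.univ ×ˢ {j}) (detX k n) = Polynomial.X * Polynomial.C (detX k n) := by
  classical
  let M : Matrix (Fin n) (Fin n) (Polynomial (MvPolynomial (Fin n × Fin n) k)) :=
    (Matrix.mvPolynomialX (Fin n) (Fin n) k).map Polynomial.C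
  have h1 : (Matrix.mvPolynomialX (Fin n) (Fin n) k).map (scale k (Finset.univ ×ˢ {j})) =
      M.updateCol j ((Polynomial.X : Polynomial (MvPolynomial (Fin n × Fin n) k)) • (fun a => M a j)) := by
    ext1 a b
    by_cases hb : b = j
    · subst hb; simp [scale, M]
    · simp [scale, M, hb, Ne.symm hb]
  rw [detX, AlgHom.map_det, AlgHom.mapMatrix_apply, h1, Matrix.det_updateCol_smul,
    Matrix.updateCol_eq_self]
  congr 1
  exact (RingHom.map_det (Polynomial.C : MvPolynomial (Fin n × Fin n) k →+* _) _).symm

/-- the evaluation at the identity matrix -/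
noncomputable abbrev atOne (k : Type u) [CommRing k] (n : ℕ) : MvPolynomial (Fin n × Fin n) k →+* k :=
  eval fun q => if q.1 = q.2 then 1 else 0

theorem atOne_detX (k : Type u) [CommRing k] (n : ℕ) : atOne k n (detX k n) = 1 := by
  rw [atOne, detX, Matrix.eval_det_mvPolynomialX]
  rw [show (Matrix.of fun i j => if (i, j).1 = (i, j).2 then (1 : k) else 0) = 1 from by
    ext1 i j; simp [Matrix.one_apply]]
  exact Matrix.det_one

theorem detX_prime (k : Type u) [Field k] (hn : 0 < n) : Prime (detX k n) := by
  classical
  rw [← UniqueFactorizationMonoid.irreducible_iff_prime]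
  have hD0 : detX k n ≠ 0 := fun h => by simpa [h] using atOne_detX k n
  refine ⟨fun h => ?_, fun f g hfg => ?_⟩
  · obtain ⟨c, hc, hC⟩ := MvPolynomial.isUnit_iff_eq_C_of_isReduced.mp h
    have h1 := scale_row k (⟨0, hn⟩ : Fin n)
    have h2 := congrArg Polynomial.natDegree h1
    rw [Polynomial.natDegree_X_mul (by simpa using hD0), Polynomial.natDegree_C, hC] at h2
    rw [show scale k ({(⟨0, hn⟩ : Fin n)} ×ˢ Finset.univ) (C c) = Polynomial.C (C c) from
      (AlgHom.commutes _ c), Polynomial.natDegree_C] at h2
    omega
  have key : ∀ S, scale k S (detX k n) = Polynomial.X * Polynomial.C (detX k n) →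
      kill k S f = f ∨ kill k S g = g := by
    intro S hS
    have h2 := congrArg Polynomial.natDegree hS
    rw [hfg, map_mul, Polynomial.natDegree_X_mul (by rw [Polynomial.C_ne_zero, ← hfg]; exact hD0), Polynomial.natDegree_C,
      Polynomial.natDegree_mul] at h2
    · rcases Nat.eq_zero_or_pos (scale k S f).natDegree with h | h
      · exact Or.inl (kill_eq_self_of_natDegree k S f h)
      · exact Or.inr (kill_eq_self_of_natDegree k S g (by omega))
    · intro h0
      have := scale_eval_one k S f
      rw [h0, Polynomial.eval_zero] at this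
      exact hD0 (by rw [hfg, ← this, zero_mul])
    · intro h0
      have := scale_eval_one k S g
      rw [h0, Polynomial.eval_zero] at this
      exact hD0 (by rw [hfg, ← this, mul_zero])
  have hboth : ∀ i j, ∀ a b, (a = f ∧ b = g ∨ a = g ∧ b = f) →
      kill k ({i} ×ˢ Finset.univ) a = a → kill k (Finset.univ ×ˢ {j}) b = b → False := by
    intro i j a b hab ha hb
    have ha' : kill k {(i, j)} a = a := by
      rw [← ha, ← AlgHom.comp_apply, kill_comp]
      congr 2; simp [Finset.subset_iff]
    have hb' : kill k {(i, j)} b = b := by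
      rw [← hb, ← AlgHom.comp_apply, kill_comp]
      congr 2; simp [Finset.subset_iff]
    have hD : kill k {(i, j)} (detX k n) = detX k n := by
      rcases hab with ⟨rfl, rfl⟩ | ⟨rfl, rfl⟩ <;> rw [hfg, map_mul, ha', hb']
    let σ : Equiv.Perm (Fin n) := Equiv.swap i j
    let P : Matrix (Fin n) (Fin n) k := (1 : Matrix (Fin n) (Fin n) k).submatrix σ id
    let v : Fin n × Fin n → k := fun q => P q.1 q.2
    let v' : Fin n × Fin n → k := fun q => if q = (i, j) then 0 else v q
    have h1 : eval v (detX k n) = eval v' (detX k n) := by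
      have : (eval v).comp (kill k {(i, j)}).toRingHom = eval v' := by
        refine ringHom_ext (fun c => by simp [kill]) (fun q => ?_)
        by_cases hq : q = (i, j) <;> simp [kill, v', hq]
      conv_lhs => rw [← hD]
      exact RingHom.congr_fun this _
    rw [detX, Matrix.eval_det_mvPolynomialX, Matrix.eval_det_mvPolynomialX] at h1
    have h2 : (Matrix.of fun a b => v' (a, b)).det = 0 := by
      refine Matrix.det_eq_zero_of_row_eq_zero i fun b => ?_
      by_cases hb : b = j
      · simp [v', hb]
      · simp [v', v, P, σ, hb, Matrix.one_apply, Ne.symm hb]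
    rw [h2] at h1
    have h3 : (Matrix.of fun a b => v (a, b)) = P := rfl
    rw [h3, Matrix.det_permute, Matrix.det_one, mul_one] at h1
    rcases Int.units_eq_one_or (Equiv.Perm.sign σ) with h | h <;> simp [h] at h1
  have const : ∀ h : MvPolynomial (Fin n × Fin n) k,
      (∀ j, kill k (Finset.univ ×ˢ {j}) h = h) → h = C (constantCoeff h) := by
    intro h hh
    have : ∀ T : Finset (Fin n), kill k (Finset.univ ×ˢ T) h = h := by
      intro T
      induction T using Finset.induction with
      | empty =>
        rw [Finset.product_empty]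
        have : kill k (∅ : Finset (Fin n × Fin n)) = AlgHom.id k _ := algHom_ext fun q => by simp [kill]
        rw [this]; rfl
      | insert a T _ ih =>
        conv_rhs => rw [← hh a, ← ih, ← AlgHom.comp_apply, kill_comp, ← Finset.product_union]
        rw [Finset.insert_eq]
    rw [← kill_univ, ← Finset.univ_product_univ, this]
  have hunit : ∀ a : MvPolynomial (Fin n × Fin n) k, (a ∣ detX k n) →
      (∀ j, kill k (Finset.univ ×ˢ {j}) a = a) → IsUnit a := by
    intro a ha hc
    rw [const a hc]
    refine (isUnit_iff_ne_zero.mpr fun h0 => hD0 ?_).map C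
    rw [const a hc, h0, map_zero] at ha
    exact zero_dvd_iff.mp ha
  by_cases hf : ∀ i, kill k ({i} ×ˢ Finset.univ) f = f
  · -- then `g` depends on every column
    refine Or.inl (hunit f ⟨g, hfg⟩ fun j => ?_)
    rcases key _ (scale_col k j) with h | h
    · exact h
    · exact (hboth ⟨0, hn⟩ j f g (Or.inl ⟨rfl, rfl⟩) (hf _) h).elim
  · push Not at hf
    obtain ⟨i, hi⟩ := hf
    have hgi := (key _ (scale_row k i)).resolve_left hi
    refine Or.inr (hunit g ⟨f, hfg.trans (mul_comm _ _)⟩ fun j => ?_)
    rcases key _ (scale_col k j) with h | h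
    · exact (hboth i j g f (Or.inr ⟨rfl, rfl⟩) hgi h).elim
    · exact h

/-- Over a domain a divisor of a power of `det` is determined by its value at `1` and an exponent. -/
theorem exists_eq_mul_pow (A : Type u) [CommRing A] [IsDomain A] (hn : 0 < n)
    (f g : MvPolynomial (Fin n × Fin n) A) (M : ℕ) (h : f * g = detX A n ^ M) :
    ∃ j, f = C (atOne A n f) * detX A n ^ j := by
  let K := FractionRing A
  let φ := algebraMap A K
  have hd : MvPolynomial.map φ (detX A n) = detX K n := by
    rw [detX, RingHom.map_det, RingHom.mapMatrix_apply]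
    congr 1; ext1 a b; simp
  have hdvd : MvPolynomial.map φ f ∣ detX K n ^ M :=
    ⟨MvPolynomial.map φ g, by rw [← map_mul, h, map_pow, hd]⟩
  obtain ⟨j, -, hj⟩ := (dvd_prime_pow (detX_prime K hn) M).mp hdvd
  obtain ⟨w, hw⟩ := hj.symm
  obtain ⟨c, hc, hwc⟩ := MvPolynomial.isUnit_iff_eq_C_of_isReduced.mp w.isUnit
  have h1 := congrArg (atOne K n) hw
  rw [map_mul, map_pow, atOne_detX, one_pow, one_mul, hwc] at h1
  have h2 : atOne K n (MvPolynomial.map φ f) = φ (atOne A n f) := by
    have : (atOne K n).comp (MvPolynomial.map φ) = φ.comp (atOne A n) :=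
      ringHom_ext (fun a => by simp) (fun q => by by_cases hq : q.1 = q.2 <;> simp [hq])
    exact RingHom.congr_fun this f
  simp [h2] at h1
  refine ⟨j, MvPolynomial.map_injective φ (IsFractionRing.injective A K) ?_⟩
  rw [map_mul, map_C, map_pow, hd, ← h1, ← hwc, mul_comm]
  exact hw.symm

end Groth.Agent.CAlgH.DetUnits
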