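import Groth.Agent.CAlgH.DetUnits

/-!
# Units `a · det ^ e` of the coordinate ring of `GL_n`
-/

set_option autoImplicit false
universe u

open MvPolynomial

namespace Groth.Agent.CAlgH.DetUnits

variable (A : Type u) [CommRing A] (n : ℕ)

/-- pull back along `T ↦ diag(T, 1, …, 1)` -/
noncomputable def diagHom [NeZero n] : MvPolynomial (Fin n × Fin n) A →+* LaurentPolynomial A :=
  eval₂Hom LaurentPolynomial.C
    (fun q => if q.1 = q.2 then (if q.1 = 0 then LaurentPolynomial.T 1 else 1) else 0)

theorem diagHom_detX [NeZero n] : diagHom A n (detX A n) = LaurentPolynomial.T 1 := by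
  classical
  rw [detX, RingHom.map_det]
  have : (diagHom A n).mapMatrix (Matrix.mvPolynomialX (Fin n) (Fin n) A) =
      Matrix.diagonal (fun i : Fin n => if i = 0 then (LaurentPolynomial.T 1 : LaurentPolynomial A) else 1) := by
    ext1 a b
    simp [diagHom, Matrix.diagonal_apply]
  rw [this, Matrix.det_diagonal, Finset.prod_ite_eq']
  simp

theorem isUnit_diagHom_detX [NeZero n] : IsUnit (diagHom A n (detX A n)) := by
  rw [diagHom_detX]; exact LaurentPolynomial.isUnit_T 1

/-- the hom on the coordinate ring of `GL_n` -/
noncomputable def diagLoc [NeZero n] : Localization.Away (detX A n) →+* LaurentPolynomial A :=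
  IsLocalization.Away.lift (detX A n) (isUnit_diagHom_detX A n)

theorem diagLoc_apply [NeZero n] (f : MvPolynomial (Fin n × Fin n) A) :
    diagLoc A n (algebraMap _ _ f) = diagHom A n f :=
  IsLocalization.Away.lift_eq _ _ f

theorem diagLoc_unit [NeZero n] (a : Aˣ) (e : ℤ)
    (u : (Localization.Away (detX A n))ˣ) (hu : (u : Localization.Away (detX A n)) = algebraMap _ _ (detX A n)) :
    diagLoc A n ((Units.map (algebraMap A (Localization.Away (detX A n))).toMonoidHom a * u ^ e :
      (Localization.Away (detX A n))ˣ) : Localization.Away (detX A n)) =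
      LaurentPolynomial.C (a : A) * LaurentPolynomial.T e := by
  let τ : (LaurentPolynomial A)ˣ := (LaurentPolynomial.isUnit_T (R := A) 1).unit
  have hτ : Units.map (diagLoc A n).toMonoidHom u = τ := by
    ext1
    change diagLoc A n (u : Localization.Away (detX A n)) = LaurentPolynomial.T 1
    rw [hu, diagLoc_apply, diagHom_detX]
  have hpow : ∀ e : ℤ, ((τ ^ e : (LaurentPolynomial A)ˣ) : LaurentPolynomial A) = LaurentPolynomial.T e := by
    intro e
    induction e using Int.induction_on with
    | zero => simp
    | succ i ih =>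
      rw [zpow_add_one, Units.val_mul, ih, LaurentPolynomial.T_add]; rfl
    | pred i ih =>
      rw [zpow_sub_one, Units.val_mul, ih, sub_eq_add_neg, LaurentPolynomial.T_add]
      congr 1
      rw [Units.inv_eq_of_mul_eq_one_right]
      change (LaurentPolynomial.T 1 : LaurentPolynomial A) * LaurentPolynomial.T (-1) = 1
      rw [← LaurentPolynomial.T_add, add_neg_cancel, LaurentPolynomial.T_zero]
  rw [Units.val_mul, map_mul]
  congr 1
  · change diagLoc A n (algebraMap A _ (a : A)) = _
    rw [IsScalarTower.algebraMap_apply A (MvPolynomial (Fin n × Fin n) A), diagLoc_apply]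
    simp [diagHom]
  · rw [← hpow e, ← hτ, ← map_zpow]; rfl

end Groth.Agent.CAlgH.DetUnits
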