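import Mathlib

/-!
# Transvections and diagonal matrices generate `GL n` of a local ring
-/

set_option autoImplicit false
universe u

open Matrix

namespace Groth.Agent.CAlgH.ElemGen

variable {B : Type u} [CommRing B] {n : ℕ}

/-- transvection as an element of `GL` -/
def tGL (i j : Fin n) (h : i ≠ j) (c : B) : GL (Fin n) B :=
  ⟨Matrix.transvection i j c, Matrix.transvection i j (-c),
    by rw [Matrix.transvection_mul_transvection_same _ _ h, add_neg_cancel, Matrix.transvection_zero],
    by rw [Matrix.transvection_mul_transvection_same _ _ h, neg_add_cancel, Matrix.transvection_zero]⟩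

@[simp] theorem tGL_val (i j : Fin n) (h : i ≠ j) (c : B) :
    (tGL i j h c : Matrix (Fin n) (Fin n) B) = Matrix.transvection i j c := rfl

@[simp] theorem det_tGL (i j : Fin n) (h : i ≠ j) (c : B) :
    Matrix.GeneralLinearGroup.det (tGL i j h c) = 1 := by
  ext; exact Matrix.det_transvection_of_ne i j h c

/-- the diagonal embedding -/
def dGL : (Fin n → Bˣ) →* GL (Fin n) B :=
  (Units.map (Matrix.diagonalRingHom (Fin n) B).toMonoidHom).comp MulEquiv.piUnits.symm.toMonoidHom

@[simp] theorem dGL_val (f : Fin n → Bˣ) :
    (dGL f : Matrix (Fin n) (Fin n) B) = Matrix.diagonal fun i => (f i : B) := rfl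

theorem det_dGL (f : Fin n → Bˣ) : Matrix.GeneralLinearGroup.det (dGL f) = ∏ i, f i := by
  ext; simp [Matrix.GeneralLinearGroup.val_det_apply, Matrix.det_diagonal]

theorem exists_column_clear (H : Subgroup (GL (Fin n) B))
    (htr : ∀ i j h c, tGL i j h c ∈ H) (g : GL (Fin n) B) (k : Fin n)
    (hk : IsUnit ((g : Matrix (Fin n) (Fin n) B) k k)) (s : Finset (Fin n)) (hs : k ∉ s) :
    ∃ e ∈ H, ∀ a b, ((e * g : GL (Fin n) B) : Matrix (Fin n) (Fin n) B) a b =
      if a ∈ s then (g : Matrix (Fin n) (Fin n) B) a b -
        (g : Matrix (Fin n) (Fin n) B) a k * hk.unit⁻¹ * (g : Matrix (Fin n) (Fin n) B) k b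
      else (g : Matrix (Fin n) (Fin n) B) a b := by
  classical
  induction s using Finset.induction_on with
  | empty => exact ⟨1, one_mem _, fun a b => by simp⟩
  | @insert x s hx ih =>
    simp only [Finset.mem_insert, not_or] at hs
    obtain ⟨e, he, hE⟩ := ih hs.2
    let c : B := -((g : Matrix (Fin n) (Fin n) B) x k * hk.unit⁻¹)
    refine ⟨tGL x k (Ne.symm hs.1) c * e, mul_mem (htr _ _ _ _) he, fun a b => ?_⟩
    rw [mul_assoc, Units.val_mul, tGL_val]
    by_cases ha : a = x
    · subst ha
      rw [Matrix.transvection_mul_apply_same, hE, hE, if_neg hx, if_neg hs.2,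
        if_pos (Finset.mem_insert_self _ _)]
      simp only [c]; ring
    · rw [Matrix.transvection_mul_apply_of_ne _ _ _ _ ha, hE]
      simp [ha]

/-- `GL n` of a local ring is generated by transvections and diagonal matrices. -/
theorem exists_mul_dGL [IsLocalRing B] (H : Subgroup (GL (Fin n) B))
    (htr : ∀ i j h c, tGL i j h c ∈ H) (g : GL (Fin n) B) :
    ∃ d : Fin n → Bˣ, ∃ h ∈ H, g = h * dGL d := by
  classical
  have key : ∀ m ≤ n, ∃ e ∈ H, ∀ b : Fin n, (b : ℕ) < m →
      IsUnit (((e * g : GL (Fin n) B) : Matrix (Fin n) (Fin n) B) b b) ∧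
        ∀ a, a ≠ b → ((e * g : GL (Fin n) B) : Matrix (Fin n) (Fin n) B) a b = 0 := by
    intro m
    induction m with
    | zero => exact fun _ => ⟨1, one_mem _, fun b hb => absurd hb (Nat.not_lt_zero _)⟩
    | succ m ih =>
      intro hm
      obtain ⟨e, he, hE⟩ := ih (Nat.le_of_succ_le hm)
      let k : Fin n := ⟨m, hm⟩
      let M : Matrix (Fin n) (Fin n) B := ((e * g : GL (Fin n) B) : Matrix (Fin n) (Fin n) B)
      -- some entry of the column `k` below the diagonal is a unit
      have hex : ∃ a : Fin n, m ≤ (a : ℕ) ∧ IsUnit (M a k) := by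
        by_contra hcon
        push Not at hcon
        let π := IsLocalRing.residue B
        have hz : ∀ a : Fin n, m ≤ (a : ℕ) → π (M a k) = 0 := fun a ha =>
          (IsLocalRing.residue_eq_zero_iff _).mpr (hcon a ha)
        let v : Fin n → IsLocalRing.ResidueField B := fun b =>
          if b = k then 1 else if (b : ℕ) < m then -(π (M b k) / π (M b b)) else 0
        have hv : (π.mapMatrix M) *ᵥ v = 0 := by
          funext a
          simp only [Matrix.mulVec, dotProduct, Pi.zero_apply, RingHom.mapMatrix_apply,
            Matrix.map_apply]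
          by_cases ha : (a : ℕ) < m
          · have hak : a ≠ k := fun h => by simp [h, k] at ha
            rw [Finset.sum_eq_add a k hak]
            · have hne : π (M a a) ≠ 0 := ((hE a ha).1.map π).ne_zero
              simp only [v, if_neg hak, if_pos ha, if_pos rfl]
              field_simp
              ring
            · intro b _ hb
              simp only [v, if_neg hb.2]
              split_ifs with hbm
              · rw [show M a b = 0 from (hE b hbm).2 a (Ne.symm hb.1), map_zero, zero_mul]
              · rw [mul_zero]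
            · simp
            · simp
          · refine Finset.sum_eq_zero fun b _ => ?_
            simp only [v]
            split_ifs with hb hbm
            · subst hb; rw [hz a (not_lt.mp ha), zero_mul]
            · rw [show M a b = 0 from (hE b hbm).2 a (fun h => ha (h ▸ hbm)), map_zero, zero_mul]
            · rw [mul_zero]
        have hdet : (π.mapMatrix M).det = 0 :=
          Matrix.exists_mulVec_eq_zero_iff.mp ⟨v, fun h => by
            simpa [v] using congrFun h k, hv⟩
        rw [← RingHom.map_det] at hdet
        exact ((Matrix.isUnits_det_units (e * g)).map π).ne_zero hdet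
      obtain ⟨a₀, ha₀, hu⟩ := hex
      -- make the diagonal entry a unit
      obtain ⟨e', he', hE', hkk⟩ : ∃ e' ∈ H, (∀ b : Fin n, (b : ℕ) < m →
          IsUnit (((e' * g : GL (Fin n) B) : Matrix (Fin n) (Fin n) B) b b) ∧
          ∀ a, a ≠ b → ((e' * g : GL (Fin n) B) : Matrix (Fin n) (Fin n) B) a b = 0) ∧
          IsUnit (((e' * g : GL (Fin n) B) : Matrix (Fin n) (Fin n) B) k k) := by
        by_cases hkk : IsUnit (M k k)
        · exact ⟨e, he, hE, hkk⟩
        · have hne : k ≠ a₀ := fun h => hkk (h ▸ hu)
          have hrow : ∀ a b, ((tGL k a₀ hne 1 * e * g : GL (Fin n) B) :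
              Matrix (Fin n) (Fin n) B) a b = if a = k then M k b + M a₀ b else M a b := by
            intro a b
            rw [mul_assoc, Units.val_mul, tGL_val]
            by_cases ha : a = k
            · subst ha; rw [Matrix.transvection_mul_apply_same, if_pos rfl, one_mul]
            · rw [Matrix.transvection_mul_apply_of_ne _ _ _ _ ha, if_neg ha]
          refine ⟨tGL k a₀ hne 1 * e, mul_mem (htr _ _ _ _) he, fun b hb => ?_, ?_⟩
          · have hbk : b ≠ k := fun h => by simp [h, k] at hb
            have h0 : a₀ ≠ b := fun h => by subst h; omega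
            refine ⟨by rw [hrow, if_neg hbk]; exact (hE b hb).1, fun a hab => ?_⟩
            rw [hrow]
            split_ifs with ha
            · rw [show M k b = 0 from (hE b hb).2 k (Ne.symm hbk), show M a₀ b = 0 from (hE b hb).2 a₀ h0, add_zero]
            · exact (hE b hb).2 a hab
          · rw [hrow, if_pos rfl]
            by_contra h
            have := IsLocalRing.nonunits_add h (show -M k k ∈ nonunits B by
              simpa [mem_nonunits_iff] using hkk)
            simp [mem_nonunits_iff, hu] at this
      -- clear the column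
      obtain ⟨f, hf, hF⟩ := exists_column_clear H htr (e' * g) k hkk (Finset.univ.erase k) (by simp)
      refine ⟨f * e', mul_mem hf he', fun b hb => ?_⟩
      rw [mul_assoc]
      rcases Nat.lt_succ_iff_lt_or_eq.mp hb with hb | hb
      · have hbk : b ≠ k := fun h => by simp [h, k] at hb
        have hkb := (hE' b hb).2 k (Ne.symm hbk)
        refine ⟨?_, fun a hab => ?_⟩
        · rw [hF]; split_ifs
          · rw [hkb, mul_zero, sub_zero]; exact (hE' b hb).1
          · exact (hE' b hb).1
        · rw [hF]; split_ifs
          · rw [hkb, mul_zero, sub_zero]; exact (hE' b hb).2 a hab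
          · exact (hE' b hb).2 a hab
      · obtain rfl : b = k := Fin.ext hb
        refine ⟨by rw [hF, if_neg (by simp)]; exact hkk, fun a hab => ?_⟩
        rw [hF, if_pos (by simp [hab]), mul_assoc, IsUnit.val_inv_mul, mul_one, sub_self]
  obtain ⟨e, he, hE⟩ := key n le_rfl
  let d : Fin n → Bˣ := fun b => (hE b b.2).1.unit
  refine ⟨d, e⁻¹, inv_mem he, eq_inv_mul_iff_mul_eq.mpr (Units.ext ?_)⟩
  ext a b
  rw [dGL_val]
  by_cases hab : a = b
  · subst hab; simp [d]
  · rw [Matrix.diagonal_apply_ne _ hab]; exact (hE b b.2).2 a hab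

/-- Homomorphisms to a commutative group only see the product of the diagonal entries. -/
theorem map_dGL {G : Type*} [CommGroup G] (φ : GL (Fin n) B →* G) (i₀ : Fin n) (f : Fin n → Bˣ) :
    φ (dGL f) = φ (dGL (Pi.mulSingle i₀ (∏ i, f i))) := by
  classical
  have hsw : ∀ (i j : Fin n) (t : Bˣ),
      φ (dGL (Pi.mulSingle i t)) = φ (dGL (Pi.mulSingle j t)) := by
    intro i j t
    let P : GL (Fin n) B :=
      ⟨(Equiv.swap i j).toPEquiv.toMatrix, (Equiv.swap i j).toPEquiv.toMatrix,
        by rw [← PEquiv.toMatrix_trans, ← Equiv.toPEquiv_trans]; simp [PEquiv.toMatrix_refl],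
        by rw [← PEquiv.toMatrix_trans, ← Equiv.toPEquiv_trans]; simp [PEquiv.toMatrix_refl]⟩
    have key : P * dGL (Pi.mulSingle j t) = dGL (Pi.mulSingle i t) * P := by
      apply Units.ext
      show (Equiv.swap i j).toPEquiv.toMatrix *
          Matrix.diagonal (fun a => ((Pi.mulSingle j t : Fin n → Bˣ) a : B)) =
        Matrix.diagonal (fun a => ((Pi.mulSingle i t : Fin n → Bˣ) a : B)) *
          (Equiv.swap i j).toPEquiv.toMatrix
      ext a b
      rw [Matrix.mul_diagonal, Matrix.diagonal_mul]
      by_cases hb : Equiv.swap i j a = b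
      · subst hb
        have h3 : (Pi.mulSingle j t : Fin n → Bˣ) (Equiv.swap i j a) =
            (Pi.mulSingle i t : Fin n → Bˣ) a := by
          rcases eq_or_ne a i with rfl | hai
          · simp
          rw [Pi.mulSingle_eq_of_ne hai, Pi.mulSingle_eq_of_ne]
          intro he
          exact hai ((Equiv.swap i j).injective (he.trans (Equiv.swap_apply_left i j).symm))
        rw [h3, mul_comm]
      · simp [PEquiv.toMatrix_apply, Equiv.toPEquiv, hb]
    have h2 := congrArg φ key
    rw [map_mul, map_mul, mul_comm] at h2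
    exact (mul_right_cancel h2).symm
  conv_lhs => rw [← Finset.univ_prod_mulSingle f]
  have hP : Pi.mulSingle i₀ (∏ i, f i) = ∏ i, (Pi.mulSingle i₀ (f i) : Fin n → Bˣ) :=
    map_prod (MonoidHom.mulSingle (fun _ : Fin n => Bˣ) i₀) f Finset.univ
  rw [hP]
  show (φ.comp dGL) _ = (φ.comp dGL) _
  rw [map_prod, map_prod]
  exact Finset.prod_congr rfl fun i _ => hsw i i₀ (f i)

/-- Map functoriality. -/
theorem map_tGL {C : Type u} [CommRing C] (φ : B →+* C) (i j : Fin n) (h : i ≠ j) (c : B) :
    Matrix.GeneralLinearGroup.map φ (tGL i j h c) = tGL i j h (φ c) := by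
  refine Units.ext ?_
  ext a b
  show φ (Matrix.transvection i j c a b) = Matrix.transvection i j (φ c) a b
  simp [Matrix.transvection, Matrix.one_apply, Matrix.single_apply, apply_ite φ]

theorem map_dGL_map {C : Type u} [CommRing C] (φ : B →+* C) (f : Fin n → Bˣ) :
    Matrix.GeneralLinearGroup.map φ (dGL f) = dGL (fun i => Units.map φ (f i)) := by
  refine Units.ext ?_
  ext a b
  show φ (Matrix.diagonal (fun i => (f i : B)) a b) =
    Matrix.diagonal (fun i => φ (f i : B)) a b
  simp [Matrix.diagonal_apply, apply_ite φ]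

end Groth.Agent.CAlgH.ElemGen
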