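import Mathlib

/-!
# Étale neighbourhoods of `A/I`

Given an étale `A`-algebra `E` with an `A`-algebra map `σ : E → A/I`, there is a localization
`A' = E[1/x]` (still étale over `A`) with `A/I → A'/IA'` bijective and through which `σ` factors.
Applications: lifting of coprime monic factorizations and of idempotents.
-/

set_option autoImplicit false
universe u

open Polynomial

namespace Groth.Agent.CAlgH.EtaleNbhd

variable {A : Type u} [CommRing A] (I : Ideal A)

theorem exists_etale_nbhd (E : Type u) [CommRing E] [Algebra A E] [Algebra.Etale A E]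
    (σ : E →ₐ[A] A ⧸ I) :
    ∃ (A' : Type u) (_ : CommRing A') (_ : Algebra A A') (ι : E →ₐ[A] A'),
      Algebra.Etale A A' ∧
      Function.Bijective (algebraMap (A ⧸ I) (A' ⧸ I.map (algebraMap A A'))) ∧
      ∀ e : E, Ideal.Quotient.mk (I.map (algebraMap A A')) (ι e) =
        algebraMap (A ⧸ I) (A' ⧸ I.map (algebraMap A A')) (σ e) := by
  classical
  set J : Ideal E := RingHom.ker σ.toRingHom with hJ
  set IE : Ideal E := I.map (algebraMap A E) with hIE
  have hmemJ : ∀ e, e ∈ J ↔ σ e = 0 := fun e => RingHom.mem_ker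
  have hIEJ : IE ≤ J := by
    rw [hIE, Ideal.map_le_iff_le_comap]
    intro a ha
    rw [Ideal.mem_comap, hmemJ, AlgHom.commutes, Ideal.Quotient.algebraMap_eq,
      Ideal.Quotient.eq_zero_iff_mem]
    exact ha
  -- lifts of the values of σ
  choose a ha using fun e : E => Ideal.Quotient.mk_surjective (σ e)
  -- finitely many generators of J modulo IE
  obtain ⟨s, hs⟩ := (Algebra.FiniteType.out : (⊤ : Subalgebra A E).FG)
  set J' : Ideal E :=
    IE ⊔ Ideal.span ((fun g => g - algebraMap A E (a g)) '' (s : Set E)) with hJ'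
  have hred : ∀ e : E, ∃ c : A, e - algebraMap A E c ∈ J' := by
    intro e
    have he : e ∈ Algebra.adjoin A (s : Set E) := by rw [hs]; trivial
    induction he using Algebra.adjoin_induction with
    | mem x hx => exact ⟨a x, Ideal.mem_sup_right (Ideal.subset_span ⟨x, hx, rfl⟩)⟩
    | algebraMap r => exact ⟨r, by simp⟩
    | add x y _ _ hx hy =>
      obtain ⟨c, hc⟩ := hx; obtain ⟨d, hd⟩ := hy
      refine ⟨c + d, ?_⟩
      have := add_mem hc hd
      convert this using 1
      rw [map_add]; ring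
    | mul x y _ _ hx hy =>
      obtain ⟨c, hc⟩ := hx; obtain ⟨d, hd⟩ := hy
      refine ⟨c * d, ?_⟩
      have := add_mem (Ideal.mul_mem_right y _ hc) (Ideal.mul_mem_left _ (algebraMap A E c) hd)
      convert this using 1
      rw [map_mul]; ring
  have hJ'J : J' ≤ J := by
    refine sup_le hIEJ (Ideal.span_le.mpr ?_)
    rintro _ ⟨g, _, rfl⟩
    rw [SetLike.mem_coe, hmemJ, map_sub, AlgHom.commutes, Ideal.Quotient.algebraMap_eq, ha, sub_self]
  have hJeq : J = J' := by
    refine le_antisymm (fun e he => ?_) hJ'J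
    obtain ⟨c, hc⟩ := hred e
    have h1 : c ∈ I := by
      have h2 := (hmemJ _).mp (hJ'J hc)
      rw [map_sub, (hmemJ e).mp he, AlgHom.commutes, Ideal.Quotient.algebraMap_eq, zero_sub,
        neg_eq_zero, Ideal.Quotient.eq_zero_iff_mem] at h2
      exact h2
    have := add_mem hc (Ideal.mem_sup_left (Ideal.mem_map_of_mem (algebraMap A E) h1) :
      algebraMap A E c ∈ J')
    simpa using this
  -- J is idempotent modulo IE
  set K : Ideal E := J ^ 2 ⊔ IE with hK
  have hJK : J ≤ K := by
    have hk : ∀ c : A, c ∈ I → Algebra.ofId A (E ⧸ K) c = 0 := by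
      intro c hc
      change Ideal.Quotient.mk K (algebraMap A E c) = 0
      exact Ideal.Quotient.eq_zero_iff_mem.mpr (Ideal.mem_sup_right (Ideal.mem_map_of_mem _ hc))
    let g₁ : E →ₐ[A] E ⧸ K := Ideal.Quotient.mkₐ A K
    let g₂ : E →ₐ[A] E ⧸ K := (Ideal.Quotient.liftₐ I (Algebra.ofId A (E ⧸ K)) hk).comp σ
    have hnil : IsNilpotent (J.map (Ideal.Quotient.mk K)) := by
      refine ⟨2, ?_⟩
      rw [← Ideal.map_pow, Ideal.zero_eq_bot, Ideal.map_eq_bot_iff_le_ker, Ideal.mk_ker]
      exact le_sup_left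
    have : g₁ = g₂ := by
      refine Algebra.FormallyUnramified.ext (I := J.map (Ideal.Quotient.mk K)) hnil fun e => ?_
      have h2 : g₂ e = Ideal.Quotient.mk K (algebraMap A E (a e)) := by
        simp only [g₂, AlgHom.comp_apply, ← ha e]
        rfl
      rw [h2, Ideal.Quotient.eq]
      have h1 : e - algebraMap A E (a e) ∈ J := by
        rw [hmemJ, map_sub, AlgHom.commutes, Ideal.Quotient.algebraMap_eq, ha, sub_self]
      have h := Ideal.mem_map_of_mem (Ideal.Quotient.mk K) h1
      rw [map_sub] at h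
      exact h
    intro e he
    have h := AlgHom.congr_fun this e
    simp only [g₂, AlgHom.comp_apply, (hmemJ e).mp he, map_zero] at h
    exact Ideal.Quotient.eq_zero_iff_mem.mp h
  set Jb : Ideal (E ⧸ IE) := J.map (Ideal.Quotient.mk IE) with hJb
  have hfg : Jb.FG := by
    refine ⟨(s.image fun g => Ideal.Quotient.mk IE (g - algebraMap A E (a g))), ?_⟩
    rw [hJb, hJeq, hJ', Ideal.map_sup, Ideal.map_quotient_self, bot_sup_eq, Ideal.map_span,
      Finset.coe_image, ← Set.image_comp]
    rfl
  have hidem : IsIdempotentElem Jb := by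
    refine le_antisymm Ideal.mul_le_right ?_
    refine (Ideal.map_mono hJK).trans ?_
    rw [hK, Ideal.map_sup, Ideal.map_quotient_self, sup_bot_eq, pow_two, Ideal.map_mul]
  obtain ⟨εb, hεi, hεs⟩ := (Ideal.isIdempotentElem_iff_of_fg Jb hfg).mp hidem
  obtain ⟨ε, rfl⟩ := Ideal.Quotient.mk_surjective εb
  set x : E := 1 - ε with hx
  have hεJ : ε ∈ J := by
    have h1 : Ideal.Quotient.mk IE ε ∈ Jb := by rw [hεs]; exact Ideal.mem_span_singleton_self _
    have h2 : ε ∈ Ideal.comap (Ideal.Quotient.mk IE) Jb := h1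
    rwa [hJb, Ideal.comap_map_of_surjective _ Ideal.Quotient.mk_surjective, ← RingHom.ker_eq_comap_bot,
      Ideal.mk_ker, sup_eq_left.mpr hIEJ] at h2
  have hσx : σ x = 1 := by rw [hx, map_sub, map_one, (hmemJ ε).mp hεJ, sub_zero]
  have hxJ : ∀ e ∈ J, x * e ∈ IE := by
    intro e he
    have h1 : Ideal.Quotient.mk IE e ∈ Jb := Ideal.mem_map_of_mem _ he
    rw [hεs, Ideal.mem_span_singleton'] at h1
    obtain ⟨c, hc⟩ := h1
    rw [← Ideal.Quotient.eq_zero_iff_mem, map_mul, ← hc, hx, map_sub, map_one]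
    linear_combination (-c) * hεi.eq
  let A' := Localization.Away x
  have : Algebra.Etale E A' := Algebra.Etale.of_isLocalizationAway x
  have : Algebra.Etale A A' := Algebra.Etale.comp A E A'
  let ι : E →ₐ[A] A' := IsScalarTower.toAlgHom A E A'
  have hJzero : ∀ e ∈ J, Ideal.Quotient.mk (I.map (algebraMap A A')) (ι e) = 0 := by
    intro e he
    have h1 : ι (x * e) ∈ I.map (algebraMap A A') := by
      rw [IsScalarTower.algebraMap_eq A E A', ← Ideal.map_map]
      exact Ideal.mem_map_of_mem _ (hxJ e he)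
    rw [map_mul] at h1
    rw [Ideal.Quotient.eq_zero_iff_mem]
    exact (Ideal.unit_mul_mem_iff_mem _ (IsLocalization.Away.algebraMap_isUnit x)).mp h1
  have hcompat : ∀ e : E, Ideal.Quotient.mk (I.map (algebraMap A A')) (ι e) =
      algebraMap (A ⧸ I) (A' ⧸ I.map (algebraMap A A')) (σ e) := by
    intro e
    rw [← ha e]
    have h1 : e - algebraMap A E (a e) ∈ J := by
      rw [hmemJ, map_sub, AlgHom.commutes, Ideal.Quotient.algebraMap_eq, ha, sub_self]
    have h2 := hJzero _ h1
    rw [map_sub, map_sub, sub_eq_zero, AlgHom.commutes] at h2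
    rw [h2]; rfl
  refine ⟨A', inferInstance, inferInstance, ι, inferInstance, ⟨?_, ?_⟩, hcompat⟩
  · -- injective
    have hu : IsUnit (σ.toRingHom x) := by
      change IsUnit (σ x); rw [hσx]; exact isUnit_one
    let τ : A' →+* A ⧸ I := IsLocalization.Away.lift x hu
    have hτ : ∀ c : A, τ (algebraMap A A' c) = Ideal.Quotient.mk I c := by
      intro c
      rw [IsScalarTower.algebraMap_apply A E A']
      change τ (algebraMap E A' _) = _
      rw [IsLocalization.Away.lift_eq]
      exact σ.commutes c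
    intro u v huv
    obtain ⟨c, rfl⟩ := Ideal.Quotient.mk_surjective u
    obtain ⟨d, rfl⟩ := Ideal.Quotient.mk_surjective v
    have h1 : algebraMap A A' c - algebraMap A A' d ∈ I.map (algebraMap A A') :=
      Ideal.Quotient.eq.mp huv
    have h2 : I.map (algebraMap A A') ≤ RingHom.ker τ := by
      rw [Ideal.map_le_iff_le_comap]
      intro i hi
      rw [Ideal.mem_comap, RingHom.mem_ker, hτ, Ideal.Quotient.eq_zero_iff_mem]
      exact hi
    have h3 := h2 h1
    rwa [RingHom.mem_ker, map_sub, hτ, hτ, sub_eq_zero] at h3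
  · -- surjective
    intro z
    obtain ⟨z, rfl⟩ := Ideal.Quotient.mk_surjective z
    obtain ⟨n, e, hn⟩ := IsLocalization.Away.surj x z
    refine ⟨σ e, ?_⟩
    have h1 : Ideal.Quotient.mk (I.map (algebraMap A A')) (ι x) = 1 := by
      rw [hcompat, hσx, map_one]
    have h2 := congrArg (Ideal.Quotient.mk (I.map (algebraMap A A'))) hn
    rw [map_mul, map_pow] at h2
    rw [show algebraMap E A' x = ι x from rfl, h1, one_pow, mul_one] at h2
    rw [← hcompat, h2]; rfl

/-- Coprime monic factorizations modulo `I` lift to an étale neighbourhood. -/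
theorem exists_lift_factorization (f : A[X]) (hf : f.Monic) (g h : (A ⧸ I)[X]) (hg : g.Monic)
    (hh : h.Monic) (hcop : IsCoprime g h) (hfgh : f.map (Ideal.Quotient.mk I) = g * h) :
    ∃ (A' : Type u) (_ : CommRing A') (_ : Algebra A A'), Algebra.Etale A A' ∧
      Function.Bijective (algebraMap (A ⧸ I) (A' ⧸ I.map (algebraMap A A'))) ∧
      ∃ g' h' : A'[X], g'.Monic ∧ h'.Monic ∧ IsCoprime g' h' ∧
        f.map (algebraMap A A') = g' * h' ∧
        g'.map (Ideal.Quotient.mk (I.map (algebraMap A A'))) =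
          g.map (algebraMap (A ⧸ I) (A' ⧸ I.map (algebraMap A A'))) ∧
        h'.map (Ideal.Quotient.mk (I.map (algebraMap A A'))) =
          h.map (algebraMap (A ⧸ I) (A' ⧸ I.map (algebraMap A A'))) := by
  rcases subsingleton_or_nontrivial (A ⧸ I) with hs | hn
  · have hI : I = ⊤ := Ideal.Quotient.subsingleton_iff.mp hs
    let A' := Localization.Away (0 : A)
    have : Algebra.Etale A A' := Algebra.Etale.of_isLocalizationAway 0
    have hA' : Subsingleton A' := IsLocalization.subsingleton (M := Submonoid.powers (0 : A))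
      (Submonoid.mem_powers 0)
    have hq : Subsingleton (A' ⧸ I.map (algebraMap A A')) :=
      Ideal.Quotient.mk_surjective.subsingleton
    refine ⟨A', inferInstance, inferInstance, inferInstance,
      ⟨fun _ _ _ => Subsingleton.elim _ _, fun z => ⟨0, Subsingleton.elim _ _⟩⟩,
      1, 1, monic_one, monic_one, isCoprime_one_left, Subsingleton.elim _ _,
      Subsingleton.elim _ _, Subsingleton.elim _ _⟩
  · have hdeg : f.natDegree = g.natDegree + h.natDegree := by
      rw [← hg.natDegree_mul hh, ← hfgh, hf.natDegree_map]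
    let p : MonicDegreeEq A f.natDegree := MonicDegreeEq.mk f hf rfl
    let q₁ : MonicDegreeEq (A ⧸ I) g.natDegree := MonicDegreeEq.mk g hg rfl
    let q₂ : MonicDegreeEq (A ⧸ I) h.natDegree := MonicDegreeEq.mk h hh rfl
    let E := UniversalCoprimeFactorizationRing g.natDegree h.natDegree hdeg p
    let σ : E →ₐ[A] A ⧸ I :=
      (UniversalCoprimeFactorizationRing.homEquiv (A ⧸ I) g.natDegree h.natDegree hdeg p).symm
        ⟨(q₁, q₂), by rw [Ideal.Quotient.algebraMap_eq]; exact hfgh.symm, hcop⟩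
    obtain ⟨A', _, _, ι, het, hbij, hc⟩ := exists_etale_nbhd I E σ
    let π : A' →ₐ[A] A' ⧸ I.map (algebraMap A A') := Ideal.Quotient.mkₐ A _
    let φ : A ⧸ I →ₐ[A] A' ⧸ I.map (algebraMap A A') := IsScalarTower.toAlgHom A (A ⧸ I) _
    have hcomm : π.comp ι = φ.comp σ := AlgHom.ext hc
    set F := UniversalCoprimeFactorizationRing.homEquiv A' g.natDegree h.natDegree hdeg p ι with hF
    refine ⟨A', inferInstance, inferInstance, het, hbij, F.1.1.1, F.1.2.1, F.1.1.monic, F.1.2.monic,
      F.2.2, F.2.1.symm, ?_, ?_⟩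
    · have h1 := UniversalCoprimeFactorizationRing.homEquiv_comp_fst (f := ι) (g := π)
      rw [hcomm, UniversalCoprimeFactorizationRing.homEquiv_comp_fst, Equiv.apply_symm_apply] at h1
      exact (congrArg Subtype.val h1).symm
    · have h1 := UniversalCoprimeFactorizationRing.homEquiv_comp_snd (f := ι) (g := π)
      rw [hcomm, UniversalCoprimeFactorizationRing.homEquiv_comp_snd, Equiv.apply_symm_apply] at h1
      exact (congrArg Subtype.val h1).symm

/-- For `f` monic with `f ≡ (X²-X)^n` mod `I`: over an étale neighbourhood there is `p` with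
`f ∣ p² - p` and `p ≡ X` modulo `(I, X² - X)`. -/
theorem exists_idempotent_polynomial (f : A[X]) (hf : f.Monic) (n : ℕ) (hn : 1 ≤ n)
    (hfI : f.map (Ideal.Quotient.mk I) = (X ^ 2 - X) ^ n) :
    ∃ (A' : Type u) (_ : CommRing A') (_ : Algebra A A'), Algebra.Etale A A' ∧
      Function.Bijective (algebraMap (A ⧸ I) (A' ⧸ I.map (algebraMap A A'))) ∧
      ∃ p r : A'[X], f.map (algebraMap A A') ∣ p ^ 2 - p ∧
        p - X - (X ^ 2 - X) * r ∈ (I.map (algebraMap A A')).map C := by
  have hsplit : f.map (Ideal.Quotient.mk I) = X ^ n * (X - 1) ^ n := by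
    rw [hfI, ← mul_pow]; ring
  have hcop : IsCoprime (X : (A ⧸ I)[X]) (X - 1) := ⟨1, -1, by ring⟩
  have hm1 : ((X : (A ⧸ I)[X]) - 1).Monic := by
    rw [← map_one (C : A ⧸ I →+* _)]; exact monic_X_sub_C 1
  obtain ⟨A', _, _, het, hbij, g', h', hg', hh', hco, hfac, hgI, hhI⟩ :=
    exists_lift_factorization I f hf (X ^ n) ((X - 1) ^ n) (monic_X_pow n) (hm1.pow n)
      (hcop.pow) hsplit
  obtain ⟨u, v, huv⟩ := hco
  refine ⟨A', inferInstance, inferInstance, het, hbij, u * g', ?_⟩
  set mk := mapRingHom (Ideal.Quotient.mk (I.map (algebraMap A A'))) with hmk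
  have hgm : mk g' = X ^ n := by rw [hmk, coe_mapRingHom, hgI]; simp
  have hhm : mk h' = (X - 1) ^ n := by rw [hmk, coe_mapRingHom, hhI]; simp
  have hdvd : (X ^ 2 - X : (A' ⧸ I.map (algebraMap A A'))[X]) ∣ mk (u * g') - X := by
    rw [show (X ^ 2 - X : (A' ⧸ I.map (algebraMap A A'))[X]) = X * (X - 1) by ring]
    refine IsCoprime.mul_dvd ⟨1, -1, by ring⟩ ?_ ?_
    · rw [map_mul, hgm]
      exact dvd_sub (dvd_mul_of_dvd_right (dvd_pow_self _ (by omega)) _) dvd_rfl
    · have h1 : mk (u * g') - X = -(mk v * (X - 1) ^ n) - (X - 1) := by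
        have := congrArg mk huv
        simp only [map_add, map_mul, hhm, map_one] at this
        rw [map_mul]
        linear_combination this
      rw [h1]
      exact dvd_sub (dvd_neg.mpr (dvd_mul_of_dvd_right (dvd_pow_self _ (by omega)) _)) dvd_rfl
  obtain ⟨rb, hrb⟩ := hdvd
  obtain ⟨r, rfl⟩ := Polynomial.map_surjective _ Ideal.Quotient.mk_surjective rb
  refine ⟨r, ?_, ?_⟩
  · rw [hfac]
    exact ⟨-(u * v), by linear_combination (u * g') * huv⟩
  · rw [Ideal.mem_map_C_iff]
    intro i
    rw [← Ideal.Quotient.eq_zero_iff_mem]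
    have h0 : mk (u * g' - X - (X ^ 2 - X) * r) = 0 := by
      have hX : mk (X : A'[X]) = X := by simp [hmk]
      have hr' : mk r = r.map (Ideal.Quotient.mk (I.map (algebraMap A A'))) := rfl
      simp only [map_sub, map_mul, map_pow, hX, hr'] at hrb ⊢
      linear_combination hrb
    have := congrArg (fun q => q.coeff i) h0
    rwa [hmk, coe_mapRingHom, coeff_map, coeff_zero] at this

/-- A monic polynomial with lower coefficients in `I` composed with `X² - X`. -/
theorem comp_map_eq (q : A[X]) (hq : q.Monic) (hqI : ∀ i ≠ q.natDegree, q.coeff i ∈ I) :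
    (q.comp (X ^ 2 - X)).map (Ideal.Quotient.mk I) = (X ^ 2 - X) ^ q.natDegree := by
  have h1 : q.map (Ideal.Quotient.mk I) = X ^ q.natDegree := by
    ext i
    rw [coeff_map, coeff_X_pow]
    split_ifs with h
    · subst h; rw [hq.coeff_natDegree, map_one]
    · exact Ideal.Quotient.eq_zero_iff_mem.mpr (hqI i h)
  rw [map_comp, h1]; simp

end Groth.Agent.CAlgH.EtaleNbhd
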