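import Mathlib.RingTheory.Etale.Field
import Mathlib.RingTheory.Etale.Pi
import Mathlib.RingTheory.Artinian.Module
import Mathlib.RingTheory.Artinian.Ring
import Mathlib.FieldTheory.IsAlgClosed.Basic

/-! Finite algebras over an algebraically closed field. -/

universe u v
namespace Groth.Agent.CAlgH

variable (k : Type u) [Field k] [IsAlgClosed k] (A : Type v) [CommRing A] [Algebra k A] [Module.Finite k A]

/-- residue at a maximal ideal -/
noncomputable def resEquiv (m : MaximalSpectrum A) : k ≃ₐ[k] A ⧸ m.asIdeal :=
  AlgEquiv.ofBijective (Algebra.ofId k _) (by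
    have : IsDomain (A ⧸ m.asIdeal) := Ideal.Quotient.isDomain _
    have : Module.Finite k (A ⧸ m.asIdeal) := Module.Finite.of_surjective (Ideal.Quotient.mkₐ k m.asIdeal).toLinearMap Ideal.Quotient.mk_surjective
    exact IsAlgClosed.algebraMap_bijective_of_isIntegral)

/-- the finite point evaluation maps -/
noncomputable def pt (m : MaximalSpectrum A) : A →ₐ[k] k :=
  (resEquiv k A m).symm.toAlgHom.comp (Ideal.Quotient.mkₐ k m.asIdeal)

theorem ker_pt (m : MaximalSpectrum A) : RingHom.ker (pt k A m) = m.asIdeal := by
  ext x; simp [pt, RingHom.mem_ker, Ideal.Quotient.eq_zero_iff_mem]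

theorem exists_pt (f : A →ₐ[k] k) : ∃ m, f = pt k A m := by
  have hf : Function.Surjective f := fun c => ⟨algebraMap k A c, f.commutes c⟩
  refine ⟨⟨RingHom.ker f, RingHom.ker_isMaximal_of_surjective f hf⟩, ?_⟩
  set m : MaximalSpectrum A := ⟨RingHom.ker f, RingHom.ker_isMaximal_of_surjective f hf⟩
  ext x
  have h2 : x - algebraMap k A (pt k A m x) ∈ m.asIdeal := by
    rw [← ker_pt k A m, RingHom.mem_ker, map_sub, AlgHom.commutes]; simp
  have h3 : f (x - algebraMap k A (pt k A m x)) = 0 := RingHom.mem_ker.mp h2
  rw [map_sub, AlgHom.commutes, sub_eq_zero] at h3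
  simpa using h3

theorem isArtinianRing' (k : Type u) [Field k] (A : Type v) [CommRing A] [Algebra k A] [Module.Finite k A] : IsArtinianRing A := IsArtinianRing.of_finite k A

theorem nilradical_isNilpotent (k : Type u) [Field k] (A : Type v) [CommRing A] [Algebra k A] [Module.Finite k A] : IsNilpotent (nilradical A) := by
  have := isArtinianRing' k A
  exact IsArtinianRing.isNilpotent_nilradical

/-- the quotient by the nilradical as functions -/
noncomputable def quotEquiv : (A ⧸ nilradical A) ≃ₐ[k] (MaximalSpectrum A → k) :=
  haveI := isArtinianRing' k A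
  ((IsArtinianRing.quotNilradicalEquivPi A).restrictScalars k).trans
    (AlgEquiv.piCongrRight fun m => (resEquiv k A m).symm)

theorem quotEquiv_mk (x : A) (m : MaximalSpectrum A) :
    quotEquiv k A (Ideal.Quotient.mk _ x) m = pt k A m x := rfl

theorem finite_maximalSpectrum (k : Type u) [Field k] (A : Type v) [CommRing A] [Algebra k A] [Module.Finite k A] :
    Finite (MaximalSpectrum A) := by
  have : IsArtinianRing A := isArtinianRing' k A
  infer_instance

theorem formallyEtale_quot : Algebra.FormallyEtale k (A ⧸ nilradical A) := by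
  have := finite_maximalSpectrum k A
  rw [Algebra.FormallyEtale.iff_of_equiv (quotEquiv k A)]
  infer_instance

theorem formallyEtale_of_isReduced [IsReduced A] : Algebra.FormallyEtale k A := by
  have h := formallyEtale_quot k A
  exact (Algebra.FormallyEtale.iff_of_equiv
    ((Ideal.quotientEquivAlgOfEq k (nilradical_eq_zero A)).trans (AlgEquiv.quotientBot k A))).mp h

theorem exists_section : ∃ s : (A ⧸ nilradical A) →ₐ[k] A,
    (Ideal.Quotient.mkₐ k (nilradical A)).comp s = AlgHom.id k _ := by
  have := formallyEtale_quot k A
  exact Algebra.FormallySmooth.exists_lift _ (nilradical_isNilpotent k A) _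

/-- homomorphisms from a reduced finite algebra are determined modulo the nilradical -/
theorem ext_of_reduced (B : Type v) [CommRing B] [Algebra k B] [Module.Finite k B] [IsReduced B]
    {f g : B →ₐ[k] A} (h : ∀ x, Ideal.Quotient.mk (nilradical A) (f x) = Ideal.Quotient.mk (nilradical A) (g x)) :
    f = g := by
  have := formallyEtale_of_isReduced k B
  exact Algebra.FormallyUnramified.ext _ (nilradical_isNilpotent k A) h

end Groth.Agent.CAlgH
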