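import Mathlib

/-!
# Linear equations in the completion of a free module over a Noetherian ring
-/

set_option autoImplicit false
universe u

namespace Groth.Agent.CAlgH.FreeCompletion

open Submodule

variable {R : Type u} [CommRing R] {α : Type u} (I : Ideal R)

/-- Membership in `I • F` for a free module is coordinatewise. -/
theorem mem_smul_top_finsupp (x : α →₀ R) :
    x ∈ (I • ⊤ : Submodule R (α →₀ R)) ↔ ∀ s, x s ∈ I := by
  classical
  constructor
  · intro hx s
    have := Submodule.mem_map_of_mem (f := Finsupp.lapply (R := R) s) hx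
    rw [Submodule.map_smul''] at this
    exact Submodule.smul_le.mpr (fun r hr n _ => I.mul_mem_right n hr) this
  · intro h
    rw [← x.sum_single]
    refine Submodule.sum_mem _ fun s _ => ?_
    change Finsupp.single s (x s) ∈ I • (⊤ : Submodule R (α →₀ R))
    rw [← Finsupp.smul_single_one]
    exact Submodule.smul_mem_smul (h s) trivial

theorem mem_smul_top_pi {ι : Type*} [Finite ι] (x : ι → R) :
    x ∈ (I • ⊤ : Submodule R (ι → R)) ↔ ∀ i, x i ∈ I := by
  classical
  have := Fintype.ofFinite ι
  constructor
  · intro hx i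
    have := Submodule.mem_map_of_mem (f := LinearMap.proj (R := R) i) hx
    rw [Submodule.map_smul''] at this
    exact Submodule.smul_le.mpr (fun r hr n _ => I.mul_mem_right n hr) this
  · intro h
    rw [pi_eq_sum_univ x]
    exact Submodule.sum_mem _ fun i _ => Submodule.smul_mem_smul (h i) trivial

/-- Uniform Artin–Rees for a matrix acting on finitely supported families. -/
theorem exists_lift [IsNoetherianRing R] {a b : ℕ} (A : Fin b → Fin a → R) :
    ∃ c, ∀ (m : ℕ) (v : Fin b → α →₀ R),
      (∀ s, ∃ w : Fin a → R, ∀ i, v i s = ∑ j, A i j * w j) →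
      (∀ i s, v i s ∈ I ^ m) →
      ∃ w : Fin a → α →₀ R, (∀ j s, w j s ∈ I ^ (m - c)) ∧ ∀ i, v i = ∑ j, A i j • w j := by
  classical
  let φ : (Fin a → R) →ₗ[R] (Fin b → R) := (Matrix.of A).mulVecLin
  have hφ : ∀ w i, φ w i = ∑ j, A i j * w j := fun w i => rfl
  obtain ⟨c, hc⟩ := Ideal.exists_pow_inf_eq_pow_smul I (LinearMap.range φ)
  refine ⟨c, fun m v hv hvI => ?_⟩
  have key : ∀ s, ∃ w : Fin a → R, (∀ j, w j ∈ I ^ (m - c)) ∧ ∀ i, v i s = ∑ j, A i j * w j := by
    intro s
    obtain ⟨w₀, hw₀⟩ := hv s
    by_cases hm : c ≤ m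
    · have h1 : (fun i => v i s) ∈ I ^ m • ⊤ ⊓ LinearMap.range φ :=
        ⟨(mem_smul_top_pi _ _).mpr fun i => hvI i s, w₀, funext fun i => by rw [hφ, hw₀]⟩
      rw [hc m hm] at h1
      have h2 : (fun i => v i s) ∈ Submodule.map φ (I ^ (m - c) • ⊤) := by
        rw [Submodule.map_smul'', Submodule.map_top]
        exact (smul_mono_right _ inf_le_right : I ^ (m - c) • (I ^ c • ⊤ ⊓ LinearMap.range φ) ≤ I ^ (m - c) • LinearMap.range φ) h1
      obtain ⟨w, hw, hwv⟩ := h2
      exact ⟨w, (mem_smul_top_pi _ _).mp hw, fun i => by rw [← hφ, hwv]⟩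
    · exact ⟨w₀, fun j => by simp [Nat.sub_eq_zero_of_le (le_of_not_ge hm)], hw₀⟩
  choose w hw1 hw2 using key
  let S : Finset α := Finset.univ.biUnion fun i => (v i).support
  let W : Fin a → α →₀ R := fun j =>
    Finsupp.onFinset S (fun s => if s ∈ S then w s j else 0) (fun s hs => by
      by_contra h; exact hs (if_neg h))
  refine ⟨W, fun j s => ?_, fun i => ?_⟩
  · simp only [W, Finsupp.onFinset_apply]
    split_ifs
    · exact hw1 s j
    · exact zero_mem _
  · ext s
    simp only [Finsupp.finsetSum_apply, Finsupp.smul_apply, smul_eq_mul, W, Finsupp.onFinset_apply]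
    split_ifs with h
    · exact hw2 s i
    · have : v i s = 0 := by
        by_contra h'
        exact h (Finset.mem_biUnion.mpr ⟨i, Finset.mem_univ _, Finsupp.mem_support_iff.mpr h'⟩)
      simp [this]

/-- Solving `x = A y` in the completion of a free module, given approximate coordinatewise
solvability with an Artin–Rees type loss. -/
theorem exists_solution [IsNoetherianRing R] {a b : ℕ} (A : Fin b → Fin a → R)
    (x : Fin b → AdicCompletion.AdicCauchySequence I (α →₀ R)) (c₀ : ℕ)
    (h : ∀ m s, ∃ w : Fin a → R, ∀ i, x i (m + c₀) s - ∑ j, A i j * w j ∈ I ^ m) :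
    ∃ y : Fin a → AdicCompletion I (α →₀ R),
      ∀ i, AdicCompletion.mk I _ (x i) = ∑ j, A i j • y j := by
  classical
  obtain ⟨d, hd⟩ := exists_lift (α := α) I A
  let N : ℕ → ℕ := fun m => m + d + c₀
  -- approximate solutions at each level
  have happ : ∀ m, ∃ z : Fin a → α →₀ R,
      ∀ i s, x i (N m) s - (∑ j, A i j • z j) s ∈ I ^ (m + d) := by
    intro m
    choose w hw using h (m + d)
    let S : Finset α := Finset.univ.biUnion fun i => (x i (N m)).support
    refine ⟨fun j => Finsupp.onFinset S (fun s => if s ∈ S then w s j else 0) (fun s hs => by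
      by_contra h; exact hs (if_neg h)), fun i s => ?_⟩
    simp only [Finsupp.finsetSum_apply, Finsupp.smul_apply, smul_eq_mul, Finsupp.onFinset_apply]
    split_ifs with hs
    · exact hw s i
    · have : x i (N m) s = 0 := by
        by_contra h'
        exact hs (Finset.mem_biUnion.mpr ⟨i, Finset.mem_univ _, Finsupp.mem_support_iff.mpr h'⟩)
      simp [this]
  choose z hz using happ
  -- successive differences of their images are small
  have hdiff : ∀ m, ∃ w : Fin a → α →₀ R, (∀ j s, w j s ∈ I ^ m) ∧
      ∀ i, ∑ j, A i j • (z (m + 1) j - z m j) = ∑ j, A i j • w j := by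
    intro m
    obtain ⟨w, hw1, hw2⟩ := hd (m + d) (fun i => ∑ j, A i j • (z (m + 1) j - z m j))
      (fun s => ⟨fun j => z (m + 1) j s - z m j s, fun i => by
        simp [Finsupp.finsetSum_apply, smul_eq_mul]⟩)
      (fun i s => by
        have h1 : x i (N (m + 1)) s - x i (N m) s ∈ I ^ (m + d) := by
          have := AdicCompletion.AdicCauchySequence.mk_eq_mk (show N m ≤ N (m + 1) by simp [N]) (x i)
          rw [Submodule.Quotient.eq, mem_smul_top_finsupp] at this
          exact Ideal.pow_le_pow_right (show m + d ≤ N m by simp only [N]; omega) (by simpa using this s)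
        have h2 := hz m i s
        have h3 : x i (N (m + 1)) s - (∑ j, A i j • z (m + 1) j) s ∈ I ^ (m + d) :=
          Ideal.pow_le_pow_right (by omega) (hz (m + 1) i s)
        have h4 := Ideal.add_mem _ (Ideal.sub_mem _ h1 h3) h2
        simp only [smul_sub, Finset.sum_sub_distrib, Finsupp.sub_apply]
        convert h4 using 1
        ring)
    rw [Nat.add_sub_cancel] at hw1
    exact ⟨w, hw1, hw2⟩
  choose w hw1 hw2 using hdiff
  let u : Fin a → ℕ → α →₀ R := fun j m => z 0 j + ∑ l ∈ Finset.range m, w l j
  have hu : ∀ i m, ∑ j, A i j • u j m = ∑ j, A i j • z m j := by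
    intro i m
    induction m with
    | zero => simp [u]
    | succ m ih =>
      have e : ∀ j, u j (m + 1) = u j m + w m j := fun j => by
        simp only [u, Finset.sum_range_succ]; abel
      simp only [e, smul_add, Finset.sum_add_distrib, ih, ← hw2 m i, smul_sub, Finset.sum_sub_distrib]
      abel
  let y : Fin a → AdicCompletion.AdicCauchySequence I (α →₀ R) := fun j =>
    AdicCompletion.AdicCauchySequence.mk I _ (u j) fun m => by
      rw [SModEq.sub_mem, mem_smul_top_finsupp]
      intro s
      have : u j m s - u j (m + 1) s = -(w m j s) := by simp [u, Finset.sum_range_succ]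
      rw [Finsupp.sub_apply, this]
      exact neg_mem (hw1 m j s)
  refine ⟨fun j => AdicCompletion.mk I _ (y j), fun i => AdicCompletion.ext fun m => ?_⟩
  rw [AdicCompletion.val_sum_apply]
  simp only [AdicCompletion.val_smul_apply, AdicCompletion.mk_apply_coe, Submodule.mkQ_apply,
    ← Submodule.Quotient.mk_smul]
  refine (AdicCompletion.AdicCauchySequence.mk_eq_mk (show m ≤ N m by simp [N, Nat.add_assoc]) (x i)).symm.trans ?_
  simp only [← Submodule.mkQ_apply, ← map_sum]
  rw [Submodule.mkQ_apply, Submodule.mkQ_apply, Submodule.Quotient.eq, mem_smul_top_finsupp]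
  intro s
  have hval : (fun j => A i j • (y j) m) = fun j => A i j • u j m := rfl
  rw [Finsupp.sub_apply, show (∑ j, A i j • (y j) m) = ∑ j, A i j • z m j from hu i m]
  exact Ideal.pow_le_pow_right (by omega) (hz m i s)

end Groth.Agent.CAlgH.FreeCompletion
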