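import Mathlib
import Groth.Prelude.Def_W4c1liftfrobW2

/-! Witt vectors of length two of perfect rings, flatness over them, liftings. -/

open WittVector

namespace Groth.Agent.CAlgH.FrobW2

universe u v

variable {p : ℕ} [hp : Fact p.Prime]

section basic

variable {R : Type u} [CommRing R]

theorem ext2 {x y : FrobAlg.W2 p R} (h0 : x.coeff 0 = y.coeff 0) (h1 : x.coeff 1 = y.coeff 1) : x = y :=
  TruncatedWittVector.ext fun i => by fin_cases i <;> assumption

theorem res_eq (x : FrobAlg.W2 p R) : FrobAlg.res p R x = x.coeff 0 := FrobAlg.res_apply p R x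

/-- `(0, a)`. -/
def Vv (a : R) : FrobAlg.W2 p R := TruncatedWittVector.mk p ![0, a]

@[simp] theorem Vv_coeff0 (a : R) : (Vv (p := p) a).coeff 0 = 0 := TruncatedWittVector.coeff_mk _ _
@[simp] theorem Vv_coeff1 (a : R) : (Vv (p := p) a).coeff 1 = a := TruncatedWittVector.coeff_mk _ _

theorem eq_Vv {x : FrobAlg.W2 p R} (h : x.coeff 0 = 0) : x = Vv (x.coeff 1) :=
  ext2 (by rw [h, Vv_coeff0]) (by rw [Vv_coeff1])

theorem trunc_verschiebung (X : WittVector p R) : truncate 2 (verschiebung X) = Vv (X.coeff 0) :=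
  ext2 (by rw [coeff_truncate, Vv_coeff0]; exact verschiebung_coeff_zero X)
    (by rw [coeff_truncate, Vv_coeff1]; exact verschiebung_coeff_succ X 0)

theorem Vv_zero : Vv (p := p) (0 : R) = 0 :=
  ext2 (by rw [Vv_coeff0, TruncatedWittVector.coeff_zero]) (by rw [Vv_coeff1, TruncatedWittVector.coeff_zero])

theorem Vv_add (a b : R) : Vv (p := p) (a + b) = Vv a + Vv b := by
  rw [← teichmuller_coeff_zero p a, ← teichmuller_coeff_zero p b, ← trunc_verschiebung, ← trunc_verschiebung,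
    ← map_add, ← map_add, trunc_verschiebung]
  congr 1
  exact (map_add WittVector.constantCoeff (teichmuller p a) (teichmuller p b)).symm

theorem Vv_sub (a b : R) : Vv (p := p) (a - b) = Vv a - Vv b :=
  eq_sub_of_add_eq (by rw [← Vv_add, sub_add_cancel])

theorem mul_Vv [CharP R p] (x : FrobAlg.W2 p R) (a : R) : x * Vv a = Vv (x.coeff 0 ^ p * a) := by
  obtain ⟨X, rfl⟩ := truncate_surjective p 2 R x
  rw [← teichmuller_coeff_zero p a, ← trunc_verschiebung, ← map_mul, mul_comm,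
    ← verschiebung_mul_frobenius, trunc_verschiebung, coeff_truncate, mul_comm]
  congr 1
  rw [mul_coeff_zero, coeff_frobenius_charP]
  rfl

theorem p_eq [CharP R p] : (p : FrobAlg.W2 p R) = Vv 1 := by
  rw [← map_natCast (truncate (p := p) (R := R) 2) p]
  exact ext2 (by rw [coeff_truncate, Vv_coeff0]; exact coeff_p_zero p R)
    (by rw [coeff_truncate, Vv_coeff1]; exact coeff_p_one p R)

theorem p_mul [CharP R p] (x : FrobAlg.W2 p R) : (p : FrobAlg.W2 p R) * x = Vv (x.coeff 0 ^ p) := by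
  rw [mul_comm, p_eq, mul_Vv, mul_one]

theorem p_mul_p [CharP R p] : (p : FrobAlg.W2 p R) * p = 0 := by
  rw [p_mul, p_eq, Vv_coeff0, zero_pow hp.out.ne_zero, Vv_zero]

theorem coeff0_add (x y : FrobAlg.W2 p R) : (x + y).coeff 0 = x.coeff 0 + y.coeff 0 := by
  simp only [← res_eq, map_add]

theorem coeff0_mul (x y : FrobAlg.W2 p R) : (x * y).coeff 0 = x.coeff 0 * y.coeff 0 := by
  simp only [← res_eq, map_mul]

end basic

section perfect

variable {k : Type u} [CommRing k] [CharP k p] [PerfectRing k p]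

theorem exists_p_mul {x : FrobAlg.W2 p k} (h : x.coeff 0 = 0) :
    ∃ y : FrobAlg.W2 p k, x = p * y ∧ y.coeff 0 ^ p = x.coeff 1 := by
  refine ⟨TruncatedWittVector.mk p ![(frobeniusEquiv k p).symm (x.coeff 1), 0], ?_, ?_⟩
  · rw [p_mul, TruncatedWittVector.coeff_mk]
    simpa using eq_Vv h
  · rw [TruncatedWittVector.coeff_mk]
    simp

theorem ker_res : RingHom.ker (FrobAlg.res p k) = Ideal.span {(p : FrobAlg.W2 p k)} := by
  refine le_antisymm (fun x hx => ?_) (Ideal.span_le.mpr (Set.singleton_subset_iff.mpr ?_))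
  · rw [RingHom.mem_ker, res_eq] at hx
    obtain ⟨y, rfl, -⟩ := exists_p_mul hx
    exact Ideal.mem_span_singleton.mpr ⟨y, rfl⟩
  · rw [SetLike.mem_coe, RingHom.mem_ker, res_eq, p_eq, Vv_coeff0]

theorem eq_p_mul_of_p_mul_eq_zero {x : FrobAlg.W2 p k} (h : (p : FrobAlg.W2 p k) * x = 0) :
    ∃ y, x = p * y := by
  rw [p_mul] at h
  have h1 := congrArg (fun z => z.coeff 1) h
  simp only [Vv_coeff1, TruncatedWittVector.coeff_zero] at h1
  obtain ⟨y, hy, -⟩ := exists_p_mul (x := x) (by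
    have := congrArg (frobeniusEquiv k p).symm h1
    simpa using this)
  exact ⟨y, hy⟩

end perfect

section field

variable {k : Type u} [Field k] [CharP k p] [PerfectRing k p]

theorem isUnit_of_coeff0 {x : FrobAlg.W2 p k} (h : x.coeff 0 ≠ 0) : IsUnit x := by
  let y : FrobAlg.W2 p k := TruncatedWittVector.mk p ![(x.coeff 0)⁻¹, 0]
  have h1 : (x * y - 1).coeff 0 = 0 := by
    rw [← res_eq, map_sub, map_mul, map_one, res_eq, res_eq, TruncatedWittVector.coeff_mk]
    simp [h]
  obtain ⟨z, hz, -⟩ := exists_p_mul h1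
  have hnil : IsNilpotent (x * y - 1) := ⟨2, by
    rw [hz, pow_two, show (p : FrobAlg.W2 p k) * z * (p * z) = p * p * (z * z) by ring, p_mul_p, zero_mul]⟩
  exact isUnit_of_mul_isUnit_left (by simpa using hnil.isUnit_add_one)

theorem flat_iff (M : Type v) [AddCommGroup M] [Module (FrobAlg.W2 p k) M] :
    Module.Flat (FrobAlg.W2 p k) M ↔
      ∀ m : M, (p : FrobAlg.W2 p k) • m = 0 → ∃ m' : M, m = (p : FrobAlg.W2 p k) • m' := by
  constructor
  · intro hM m hm
    obtain ⟨κ, a, y, hay, ha⟩ := Module.Flat.isTrivialRelation_of_sum_smul_eq_zero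
      (f := fun _ : Fin 1 => (p : FrobAlg.W2 p k)) (x := fun _ => m) (by simpa using hm)
    have : ∀ j, ∃ c, a 0 j = (p : FrobAlg.W2 p k) * c := fun j => eq_p_mul_of_p_mul_eq_zero (by simpa using ha j)
    choose c hc using this
    refine ⟨∑ j, c j • y j, ?_⟩
    rw [Finset.smul_sum]
    refine (hay 0).trans (Finset.sum_congr rfl fun j _ => ?_)
    rw [hc, smul_smul]
  · intro h
    rw [Module.Flat.iff_rTensor_injective']
    intro I
    by_cases hI : ∃ x ∈ I, x.coeff 0 ≠ 0
    · obtain ⟨x, hx, hx0⟩ := hI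
      obtain rfl := Ideal.eq_top_of_isUnit_mem I hx (isUnit_of_coeff0 hx0)
      have : LinearMap.rTensor M (Submodule.subtype (⊤ : Ideal (FrobAlg.W2 p k))) =
          (TensorProduct.congr Submodule.topEquiv (LinearEquiv.refl (FrobAlg.W2 p k) M)).toLinearMap :=
        TensorProduct.ext' fun a b => rfl
      rw [this]
      exact LinearEquiv.injective _
    push_neg at hI
    by_cases hbot : I = ⊥
    · subst hbot
      exact Function.injective_of_subsingleton _
    obtain ⟨x, hx, hx0⟩ := (Submodule.ne_bot_iff I).mp hbot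
    have hpI : (p : FrobAlg.W2 p k) ∈ I := by
      obtain ⟨z, rfl, hz1⟩ := exists_p_mul (hI x hx)
      have hz : z.coeff 0 ≠ 0 := fun h0 => hx0 (by rw [p_mul, h0, zero_pow hp.out.ne_zero, Vv_zero])
      exact (Ideal.mul_unit_mem_iff_mem I (isUnit_of_coeff0 hz)).mp hx
    let pI : I := ⟨p, hpI⟩
    have hall : ∀ t : TensorProduct (FrobAlg.W2 p k) I M, ∃ m, t = pI ⊗ₜ m := by
      intro t
      induction t using TensorProduct.induction_on with
      | zero => exact ⟨0, by simp⟩
      | tmul a m =>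
        obtain ⟨z, hz, -⟩ := exists_p_mul (hI a.1 a.2)
        refine ⟨z • m, ?_⟩
        rw [TensorProduct.tmul_smul, TensorProduct.smul_tmul']
        congr 1
        exact Subtype.ext (by simp [pI, hz, mul_comm])
      | add a b ha hb =>
        obtain ⟨m, rfl⟩ := ha
        obtain ⟨m', rfl⟩ := hb
        exact ⟨m + m', (TensorProduct.tmul_add _ _ _).symm⟩
    rw [injective_iff_map_eq_zero]
    intro t ht
    obtain ⟨m, rfl⟩ := hall t
    have hm : (p : FrobAlg.W2 p k) • m = 0 := by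
      simpa [pI] using congrArg (TensorProduct.lid (FrobAlg.W2 p k) M) ht
    obtain ⟨m', rfl⟩ := h m hm
    rw [TensorProduct.tmul_smul, TensorProduct.smul_tmul',
      show (p : FrobAlg.W2 p k) • pI = 0 from Subtype.ext (by simpa [pI] using p_mul_p), TensorProduct.zero_tmul]

theorem flat_iff_alg (B : Type v) [CommRing B] [Algebra (FrobAlg.W2 p k) B] :
    Module.Flat (FrobAlg.W2 p k) B ↔ ∀ b : B, (p : B) * b = 0 → ∃ b', b = (p : B) * b' := by
  rw [flat_iff]
  simp only [Algebra.smul_def, map_natCast]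

variable {A : Type v} [CommRing A] [Algebra k A] {B : Type v} [CommRing B] {ι : FrobAlg.W2 p k →+* B} {π : B →+* A}

theorem isLift_iff : FrobAlg.IsLift p k A B ι π ↔
    (∀ b : B, (p : B) * b = 0 → ∃ b', b = (p : B) * b') ∧ Function.Surjective π ∧
      RingHom.ker π = Ideal.span {(p : B)} ∧ π.comp ι = (algebraMap k A).comp (FrobAlg.res p k) := by
  have hk : Ideal.map ι (RingHom.ker (FrobAlg.res p k)) = Ideal.span {(p : B)} := by
    rw [ker_res, Ideal.map_span, Set.image_singleton, map_natCast]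
  letI := ι.toAlgebra
  have hf : ι.Flat ↔ ∀ b : B, (p : B) * b = 0 → ∃ b', b = (p : B) * b' := flat_iff_alg B
  exact ⟨fun h => ⟨hf.mp h.flat, h.surj, h.ker_eq.trans hk, h.comm⟩,
    fun ⟨h1, h2, h3, h4⟩ => ⟨hf.mpr h1, h2, h3.trans hk.symm, h4⟩⟩

variable (hL : FrobAlg.IsLift p k A B ι π)
include hL

theorem natCast_mul_natCast : (p : B) * p = 0 := by
  rw [← map_natCast ι p, ← map_mul, p_mul_p, map_zero]

theorem π_natCast : π (p : B) = 0 := by
  rw [← RingHom.mem_ker, (isLift_iff.mp hL).2.2.1]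
  exact Ideal.mem_span_singleton_self _

theorem π_eq_zero_iff (b : B) : π b = 0 ↔ ∃ c, b = (p : B) * c := by
  rw [← RingHom.mem_ker, (isLift_iff.mp hL).2.2.1, Ideal.mem_span_singleton]
  rfl

theorem p_mul_eq_zero_iff (b : B) : (p : B) * b = 0 ↔ π b = 0 := by
  rw [π_eq_zero_iff hL]
  refine ⟨(isLift_iff.mp hL).1 b, ?_⟩
  rintro ⟨c, rfl⟩
  rw [← mul_assoc, natCast_mul_natCast hL, zero_mul]

theorem p_mul_congr {b c : B} (h : π b = π c) : (p : B) * b = p * c := by
  rw [← sub_eq_zero, ← mul_sub, p_mul_eq_zero_iff hL, map_sub, h, sub_self]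

/-- A morphism of liftings is bijective. -/
theorem bijective_of_hom {B₂ : Type v} [CommRing B₂] {ι₂ : FrobAlg.W2 p k →+* B₂} {π₂ : B₂ →+* A}
    (hL₂ : FrobAlg.IsLift p k A B₂ ι₂ π₂) (f : B →+* B₂) (hf : π₂.comp f = π) : Function.Bijective f := by
  have hπ : ∀ b, π₂ (f b) = π b := fun b => RingHom.congr_fun hf b
  constructor
  · rw [injective_iff_map_eq_zero]
    intro b hb
    obtain ⟨c, rfl⟩ := (π_eq_zero_iff hL b).mp (by rw [← hπ, hb, map_zero])
    rw [map_mul, map_natCast, p_mul_eq_zero_iff hL₂, hπ] at hb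
    exact (p_mul_eq_zero_iff hL c).mpr hb
  · intro b
    obtain ⟨c, hc⟩ := hL.surj (π₂ b)
    obtain ⟨d, hd⟩ := (π_eq_zero_iff hL₂ (b - f c)).mp (by rw [map_sub, hπ, hc, sub_self])
    obtain ⟨e, he⟩ := hL.surj (π₂ d)
    refine ⟨c + p * e, ?_⟩
    rw [map_add, map_mul, map_natCast, p_mul_congr hL₂ (show π₂ (f e) = π₂ d by rw [hπ, he]), ← hd, add_sub_cancel]

end field

end Groth.Agent.CAlgH.FrobW2
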