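import Mathlib
import Groth.Agent.FieldIndex.General
import Groth.Agent.CAlgH.CotOmega

/-! The cotangent space of `A[T]/(T^p - f)` for a local ring `A` of characteristic `p`. -/

open IsLocalRing TensorProduct KaehlerDifferential
open Groth.Agent.FieldIndex Groth.Agent.CAlgH.CotOmega

namespace Groth.Agent.CAlgH.InsepRoot

universe u

section LinAlg

variable {L : Type u} [Field L] {V W X : Type u} [AddCommGroup V] [Module L V] [AddCommGroup W]
  [Module L W] [AddCommGroup X] [Module L X]

theorem idx_eq_sub [Module.Finite L V] [Module.Finite L W] (f : V →ₗ[L] W) :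
    IsFred f ∧ idx f = (Module.finrank L W : ℤ) - Module.finrank L V := by
  refine ⟨⟨inferInstance, inferInstance⟩, ?_⟩
  have h1 := Submodule.finrank_quotient_add_finrank (LinearMap.range f)
  have h2 := LinearMap.finrank_range_add_finrank_ker f
  simp only [idx]
  omega

theorem idx_prodMap_id {f : V →ₗ[L] W} (hf : IsFred f) :
    IsFred (f.prodMap (LinearMap.id (R := L) (M := X))) ∧
      idx (f.prodMap (LinearMap.id (R := L) (M := X))) = idx f := by
  let g : V × X →ₗ[L] W × X := f.prodMap LinearMap.id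
  let ek : LinearMap.ker g ≃ₗ[L] LinearMap.ker f :=
    { toFun := fun z => ⟨z.1.1, congrArg Prod.fst z.2⟩
      invFun := fun z => ⟨(z.1, 0), Prod.ext z.2 rfl⟩
      map_add' := fun _ _ => rfl
      map_smul' := fun _ _ => rfl
      left_inv := fun z => Subtype.ext (Prod.ext rfl (congrArg Prod.snd z.2).symm)
      right_inv := fun _ => rfl }
  let θ : W × X →ₗ[L] W ⧸ LinearMap.range f := (LinearMap.range f).mkQ ∘ₗ LinearMap.fst L W X
  have hθ : Function.Surjective θ := fun w => by
    obtain ⟨w, rfl⟩ := Submodule.Quotient.mk_surjective _ w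
    exact ⟨(w, 0), rfl⟩
  have hker : LinearMap.range g = LinearMap.ker θ := by
    ext ⟨w, x⟩
    constructor
    · rintro ⟨⟨v, x⟩, h⟩
      exact (Submodule.Quotient.mk_eq_zero _).mpr ⟨v, congrArg Prod.fst h⟩
    · intro h
      obtain ⟨v, hv⟩ := (Submodule.Quotient.mk_eq_zero _).mp h
      exact ⟨(v, x), Prod.ext hv rfl⟩
  let ec := (Submodule.quotEquivOfEq _ _ hker).trans (θ.quotKerEquivOfSurjective hθ)
  have := hf.1; have := hf.2
  exact ⟨⟨Module.Finite.equiv ek.symm, Module.Finite.equiv ec.symm⟩, by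
    simp only [idx]; rw [ek.finrank_eq, ec.finrank_eq]⟩

theorem idx_id_prodMap {f : V →ₗ[L] W} (hf : IsFred f) :
    IsFred ((LinearMap.id (R := L) (M := X)).prodMap f) ∧
      idx ((LinearMap.id (R := L) (M := X)).prodMap f) = idx f := by
  have h0 := idx_prodMap_id (X := X) hf
  have h1 := isFred_of_bijective (K := L) (f := (LinearEquiv.prodComm L W X).toLinearMap) (LinearEquiv.bijective _)
  have h2 := isFred_of_bijective (K := L) (f := (LinearEquiv.prodComm L X V).toLinearMap) (LinearEquiv.bijective _)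
  have h3 := isFred_comp h1.1 h0.1
  have h4 := isFred_comp h3.1 h2.1
  have he : ((LinearEquiv.prodComm L W X).toLinearMap ∘ₗ f.prodMap LinearMap.id) ∘ₗ
      (LinearEquiv.prodComm L X V).toLinearMap = (LinearMap.id (R := L) (M := X)).prodMap f := rfl
  rw [he] at h4
  exact ⟨h4.1, by rw [h4.2, h3.2, h1.2, h2.2, h0.2]; ring⟩

end LinAlg

variable (A : Type u) [CommRing A] (p : ℕ) {r : ℕ} (f : Fin r → A)

/-- The ring `A[T]/(T^p - f)`. -/
abbrev Root : Type u :=
  MvPolynomial (Fin r) A ⧸ Ideal.span (Set.range fun i => MvPolynomial.X i ^ p - MvPolynomial.C (f i))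

/-- The class of `T i`. -/
noncomputable abbrev root (i : Fin r) : Root A p f := Ideal.Quotient.mk _ (MvPolynomial.X i)

variable {A p f}

theorem root_pow (i : Fin r) : root A p f i ^ p = algebraMap A (Root A p f) (f i) := by
  rw [← map_pow, IsScalarTower.algebraMap_apply A (MvPolynomial (Fin r) A) (Root A p f), MvPolynomial.algebraMap_eq]
  exact Ideal.Quotient.eq.mpr (Ideal.subset_span ⟨i, rfl⟩)

theorem induction_root {P : Root A p f → Prop} (hC : ∀ a, P (algebraMap A _ a))
    (hadd : ∀ x y, P x → P y → P (x + y)) (hX : ∀ x i, P x → P (x * root A p f i)) (b : Root A p f) : P b := by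
  obtain ⟨b, rfl⟩ := Ideal.Quotient.mk_surjective b
  induction b using MvPolynomial.induction_on with
  | C a => exact hC a
  | add x y hx hy => rw [map_add]; exact hadd _ _ hx hy
  | mul_X x i hx => rw [map_mul]; exact hX _ i hx

theorem finite_root (hp : p ≠ 0) : Module.Finite A (Root A p f) := by
  have hgen : Algebra.adjoin A (Set.range (root A p f)) = ⊤ := by
    refine eq_top_iff.mpr fun b _ => induction_root (fun a => Subalgebra.algebraMap_mem _ a)
      (fun _ _ => add_mem) (fun x i hx => mul_mem hx (Algebra.subset_adjoin (Set.mem_range_self i))) b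
  refine ⟨?_⟩
  rw [← Algebra.top_toSubmodule, ← hgen]
  refine fg_adjoin_of_finite (Set.finite_range _) ?_
  rintro _ ⟨i, rfl⟩
  exact IsIntegral.of_pow (Nat.pos_of_ne_zero hp) (by rw [root_pow]; exact isIntegral_algebraMap)

theorem exists_pow_eq [Fact p.Prime] [ExpChar (Root A p f) p] (b : Root A p f) :
    ∃ a, b ^ p = algebraMap A _ a := by
  induction b using induction_root with
  | hC a => exact ⟨a ^ p, (map_pow _ _ _).symm⟩
  | hadd x y hx hy =>
    obtain ⟨a, ha⟩ := hx
    obtain ⟨a', ha'⟩ := hy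
    exact ⟨a + a', by rw [add_pow_expChar, ha, ha', map_add]⟩
  | hX x i hx =>
    obtain ⟨a, ha⟩ := hx
    exact ⟨a * f i, by rw [mul_pow, ha, root_pow, map_mul]⟩

section Local

variable [IsLocalRing A] [Fact p.Prime]

theorem exists_eval (hp : (p : A) = 0) :
    ∃ ε : Root A p f →+* AlgebraicClosure (ResidueField A),
      ∀ a, ε (algebraMap A _ a) = algebraMap (ResidueField A) _ (residue A a) := by
  let Ω := AlgebraicClosure (ResidueField A)
  let g : A →+* Ω := (algebraMap (ResidueField A) Ω).comp (residue A)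
  choose z hz using fun i => IsAlgClosed.exists_pow_nat_eq (g (f i)) (Nat.pos_of_ne_zero (Fact.out : p.Prime).ne_zero)
  refine ⟨Ideal.Quotient.lift _ (MvPolynomial.eval₂Hom g z) ?_, fun a => ?_⟩
  · intro x hx
    refine (Ideal.span_le.mpr ?_ hx : x ∈ RingHom.ker (MvPolynomial.eval₂Hom g z))
    rintro _ ⟨i, rfl⟩
    simp [hz i]
  · show MvPolynomial.eval₂Hom g z (MvPolynomial.C a) = _
    simp [g, Ω]

theorem isLocalRing (hp : (p : A) = 0) : IsLocalRing (Root A p f) ∧ IsLocalHom (algebraMap A (Root A p f)) := by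
  obtain ⟨ε, hε⟩ := exists_eval (f := f) hp
  have := ε.domain_nontrivial
  have : CharP (Root A p f) p := (CharP.charP_iff_prime_eq_zero Fact.out).mpr
    (by rw [← map_natCast (algebraMap A (Root A p f)), hp, map_zero])
  have : ExpChar (Root A p f) p := .prime Fact.out
  have key : ∀ b, IsUnit b ↔ ε b ≠ 0 := by
    intro b
    refine ⟨fun h => (h.map ε).ne_zero, fun h => ?_⟩
    obtain ⟨a, ha⟩ := exists_pow_eq b
    have : residue A a ≠ 0 := fun h0 => h (by
      have := congrArg ε ha
      rw [map_pow, hε, h0, map_zero] at this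
      exact pow_eq_zero_iff (Fact.out : p.Prime).ne_zero |>.mp this)
    have hu : IsUnit a := by rwa [residue_ne_zero_iff_isUnit] at this
    exact (isUnit_pow_iff (Fact.out : p.Prime).ne_zero).mp (ha ▸ hu.map _)
  refine ⟨.of_nonunits_add fun a b ha hb => ?_, ⟨fun a ha => ?_⟩⟩
  · rw [mem_nonunits_iff, key, not_not] at ha hb ⊢
    rw [map_add, ha, hb, add_zero]
  · rw [key, hε] at ha
    rw [← residue_ne_zero_iff_isUnit]
    exact fun h0 => ha (by rw [h0, map_zero])

theorem exists_lift_root {T : Type u} [CommRing T] (g : A →+* T) (y : Fin r → T) (hy : ∀ i, y i ^ p = g (f i)) :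
    ∃ h : Root A p f →+* T, (∀ a, h (algebraMap A _ a) = g a) ∧ ∀ i, h (root A p f i) = y i := by
  refine ⟨Ideal.Quotient.lift _ (MvPolynomial.eval₂Hom g y) ?_, fun a => ?_, fun i => ?_⟩
  · intro x hx
    refine (Ideal.span_le.mpr ?_ hx : x ∈ RingHom.ker (MvPolynomial.eval₂Hom g y))
    rintro _ ⟨i, rfl⟩
    simp [hy i]
  · exact MvPolynomial.eval₂Hom_C g y a
  · exact MvPolynomial.eval₂Hom_X' g y i

variable [IsNoetherianRing A]

variable (A p f) in
/-- `1 ⊗ d f i`. -/
noncomputable abbrev dvec (i : Fin r) : ResidueField A ⊗[A] Ω[A⁄ℤ] := (1 : ResidueField A) ⊗ₜ[A] D ℤ A (f i)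

theorem finrank_span_tmul {K L V : Type u} [Field K] [Field L] [Algebra K L] [AddCommGroup V] [Module K V]
    {ι : Type*} (v : ι → V) :
    Module.finrank L (Submodule.span L (Set.range fun i => (1 : L) ⊗ₜ[K] v i)) =
      Module.finrank K (Submodule.span K (Set.range v)) := by
  let S := Submodule.span K (Set.range v)
  have hi : Function.Injective (S.subtype.baseChange L) :=
    Module.Flat.lTensor_preserves_injective_linearMap _ Subtype.val_injective
  have hr : LinearMap.range (S.subtype.baseChange L) = Submodule.span L (Set.range fun i => (1 : L) ⊗ₜ[K] v i) := by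
    rw [show LinearMap.range (S.subtype.baseChange L) = S.baseChange L from rfl, Submodule.baseChange_span, ← Set.range_comp]
    rfl
  rw [← hr, LinearMap.finrank_range_of_inj hi, Module.finrank_baseChange]

set_option maxHeartbeats 1000000 in
/-- The main dimension count. -/
theorem finrank_cotangent_of (hp : (p : A) = 0) (B : Type u) [CommRing B] [Algebra A B] [IsLocalRing B]
    [IsLocalHom (algebraMap A B)] [Module.Finite A B] (t : Fin r → B) (ht : ∀ i, t i ^ p = algebraMap A B (f i))
    (hind : ∀ {P : B → Prop} (_hC : ∀ a, P (algebraMap A B a)) (_hadd : ∀ x y, P x → P y → P (x + y))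
      (_hX : ∀ x i, P x → P (x * t i)) (b : B), P b)
    (hlift : ∀ (T : Type u) [CommRing T] (g : A →+* T) (y : Fin r → T), (∀ i, y i ^ p = g (f i)) →
      ∃ h : B →+* T, (∀ a, h (algebraMap A B a) = g a) ∧ ∀ i, h (t i) = y i) :
    Module.finrank (ResidueField B) (CotangentSpace B) +
        Module.finrank (ResidueField A) (Submodule.span (ResidueField A) (Set.range (dvec A f))) =
      Module.finrank (ResidueField A) (CotangentSpace A) + r := by
  let K := ResidueField A
  let L := ResidueField B
  have : IsNoetherianRing B := Algebra.FiniteType.isNoetherianRing A B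
  have hpB : (p : B) = 0 := by rw [← map_natCast (algebraMap A B), hp, map_zero]
  have : IsScalarTower A K L := inferInstance
  have : Module.Finite A L := Module.Finite.of_surjective (IsScalarTower.toAlgHom A B L).toLinearMap residue_surjective
  have : Module.Finite K L := Module.Finite.of_restrictScalars_finite A K L
  let V := K ⊗[A] Ω[A⁄ℤ]
  let W := L ⊗[B] Ω[B⁄ℤ]
  have : IsScalarTower A B W := inferInstanceAs (IsScalarTower A B (L ⊗[B] Ω[B⁄ℤ]))
  let w0 : Ω[A⁄ℤ] →ₗ[A] W := (TensorProduct.mk B L Ω[B⁄ℤ] 1).restrictScalars A ∘ₗ KaehlerDifferential.map ℤ ℤ A B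
  let u : L ⊗[K] V →ₗ[L] W := (w0.liftBaseChange K).liftBaseChange L
  have hu : ∀ a, u ((1 : L) ⊗ₜ[K] ((1 : K) ⊗ₜ[A] D ℤ A a)) = (1 : L) ⊗ₜ[B] D ℤ B (algebraMap A B a) := fun a => by
    simp only [u, w0, LinearMap.liftBaseChange_tmul, one_smul, LinearMap.comp_apply, LinearMap.restrictScalars_apply,
      TensorProduct.mk_apply, map_D]
  -- generators of `W`
  have hW : ∀ z : W, ∃ (x : L ⊗[K] V) (c : Fin r → L), z = u x + ∑ i, c i • ((1 : L) ⊗ₜ[B] D ℤ B (t i)) := by
    intro z
    let N : Submodule L W := LinearMap.range u ⊔ Submodule.span L (Set.range fun i => (1 : L) ⊗ₜ[B] D ℤ B (t i))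
    have hd : ∀ b : B, (1 : L) ⊗ₜ[B] D ℤ B b ∈ N := by
      intro b
      induction b using hind with
      | _hC a => exact Submodule.mem_sup_left ⟨_, hu a⟩
      | _hadd x y hx hy => rw [map_add, TensorProduct.tmul_add]; exact add_mem hx hy
      | _hX x i hx =>
        rw [Derivation.leibniz, TensorProduct.tmul_add, TensorProduct.tmul_smul, TensorProduct.tmul_smul,
          ← algebraMap_smul L x, ← algebraMap_smul L (t i)]
        exact add_mem (Submodule.smul_mem _ _ (Submodule.mem_sup_right (Submodule.subset_span ⟨i, rfl⟩)))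
          (Submodule.smul_mem _ _ hx)
    have hz : z ∈ N := by
      induction z using TensorProduct.induction_on with
      | zero => exact zero_mem _
      | add x y hx hy => exact add_mem hx hy
      | tmul c w =>
        have hc : c ⊗ₜ[B] w = c • ((1 : L) ⊗ₜ[B] w) := by rw [TensorProduct.smul_tmul', smul_eq_mul, mul_one]
        rw [hc]
        clear hc
        refine Submodule.smul_mem _ _ ?_
        have hw : w ∈ Submodule.span B (Set.range (D ℤ B)) := by rw [span_range_derivation]; trivial
        induction hw using Submodule.span_induction with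
        | mem _ h => obtain ⟨b, rfl⟩ := h; exact hd b
        | zero => rw [TensorProduct.tmul_zero]; exact zero_mem _
        | add _ _ _ _ h1 h2 => rw [TensorProduct.tmul_add]; exact add_mem h1 h2
        | smul b z _ h => rw [TensorProduct.tmul_smul, ← algebraMap_smul L b]; exact Submodule.smul_mem _ _ h
    obtain ⟨_, ⟨x, rfl⟩, y, hy, rfl⟩ := Submodule.mem_sup.mp hz
    obtain ⟨c, rfl⟩ := (Submodule.mem_span_range_iff_exists_fun L).mp hy
    exact ⟨x, c, rfl⟩
  -- the retraction
  let S : Submodule L (L ⊗[K] V) := Submodule.span L (Set.range fun i => (1 : L) ⊗ₜ[K] dvec A f i)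
  let dA : A → (((L ⊗[K] V) ⧸ S) × (Fin r → L)) := fun a => (S.mkQ ((1 : L) ⊗ₜ[K] ((1 : K) ⊗ₜ[A] D ℤ A a)), 0)
  have hdA : ∀ a b, dA (a * b) = algebraMap A L a • dA b + algebraMap A L b • dA a := fun a b => by
    have key : ∀ (c : A) (v : Ω[A⁄ℤ]), (1 : L) ⊗ₜ[K] ((1 : K) ⊗ₜ[A] (c • v)) =
        algebraMap A L c • ((1 : L) ⊗ₜ[K] ((1 : K) ⊗ₜ[A] v)) := fun c v => by
      rw [TensorProduct.tmul_smul, ← algebraMap_smul K c, TensorProduct.tmul_smul,
        IsScalarTower.algebraMap_apply A K L c, algebraMap_smul L (algebraMap A K c)]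
    refine Prod.ext ?_ (by simp [dA])
    simp only [dA, Derivation.leibniz, TensorProduct.tmul_add, key, map_add, map_smul, Prod.fst_add, Prod.smul_fst]
  let g : A →+* TrivSqZeroExt L (((L ⊗[K] V) ⧸ S) × (Fin r → L)) :=
    { toFun := fun a => TrivSqZeroExt.inl (algebraMap A L a) + TrivSqZeroExt.inr (dA a)
      map_one' := by
        refine TrivSqZeroExt.ext (by simp) ?_
        simp [dA]
      map_mul' := fun a b => by
        refine TrivSqZeroExt.ext (by simp) ?_
        simp [hdA, op_smul_eq_smul]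
      map_zero' := by
        refine TrivSqZeroExt.ext (by simp) ?_
        simp [dA]
      map_add' := fun a b => by
        refine TrivSqZeroExt.ext (by simp) ?_
        refine Prod.ext ?_ ?_ <;> simp [dA, TensorProduct.tmul_add] }
  let gX : Fin r → TrivSqZeroExt L (((L ⊗[K] V) ⧸ S) × (Fin r → L)) := fun i =>
    TrivSqZeroExt.inl (algebraMap B L (t i)) + TrivSqZeroExt.inr ((0, Pi.single i 1) : (((L ⊗[K] V) ⧸ S) × (Fin r → L)))
  have hpL : (p : L) = 0 := by rw [← map_natCast (algebraMap A L), hp, map_zero]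
  obtain ⟨Θ, hΘC, hΘX⟩ := hlift (TrivSqZeroExt L (((L ⊗[K] V) ⧸ S) × (Fin r → L))) g gX (fun i => by
    have h0 : dA (f i) = 0 := Prod.ext ((Submodule.Quotient.mk_eq_zero S).mpr (Submodule.subset_span ⟨i, rfl⟩)) rfl
    refine TrivSqZeroExt.ext ?_ ?_
    · simp [g, gX, ← map_pow, ht, ← IsScalarTower.algebraMap_apply]
    · simp [g, gX, TrivSqZeroExt.snd_pow, h0, ← Nat.cast_smul_eq_nsmul L, hpL])
  have hfst : ∀ b, (Θ b).fst = algebraMap B L b := by
    intro b
    induction b using hind with
    | _hC a => rw [hΘC, ← IsScalarTower.algebraMap_apply]; simp [g]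
    | _hadd x y hx hy => rw [map_add, map_add, TrivSqZeroExt.fst_add, hx, hy]
    | _hX x i hx => rw [map_mul, map_mul, TrivSqZeroExt.fst_mul, hx, hΘX]; simp [gX]
  let δ : Derivation ℤ B (((L ⊗[K] V) ⧸ S) × (Fin r → L)) := Derivation.mk'
    (AddMonoidHom.toIntLinearMap
      { toFun := fun b => (Θ b).snd
        map_zero' := by simp
        map_add' := fun a b => by simp })
    fun a b => by
      show (Θ (a * b)).snd = a • (Θ b).snd + b • (Θ a).snd
      rw [← algebraMap_smul L a, ← algebraMap_smul L b]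
      rw [map_mul, TrivSqZeroExt.snd_mul, hfst, hfst, op_smul_eq_smul]
  let ψ : W →ₗ[L] (((L ⊗[K] V) ⧸ S) × (Fin r → L)) := δ.liftKaehlerDifferential.liftBaseChange L
  have hψ : ∀ b, ψ ((1 : L) ⊗ₜ[B] D ℤ B b) = (Θ b).snd := fun b =>
    (LinearMap.liftBaseChange_tmul _ _ _ _).trans ((one_smul L _).trans (δ.liftKaehlerDifferential_comp_D b))
  have hψu : ∀ x, ψ (u x) = (S.mkQ x, 0) := by
    suffices h : ψ ∘ₗ u = (LinearMap.inl L _ (Fin r → L)) ∘ₗ S.mkQ from fun x => LinearMap.congr_fun h x
    refine LinearMap.ext fun x => ?_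
    induction x using TensorProduct.induction_on with
    | zero => simp <;> rfl
    | add x y hx hy => rw [map_add, map_add, hx, hy]
    | tmul c v =>
      have hc : c ⊗ₜ[K] v = c • ((1 : L) ⊗ₜ[K] v) := by rw [TensorProduct.smul_tmul', smul_eq_mul, mul_one]
      rw [hc, map_smul, map_smul]
      clear hc
      congr 1
      induction v using TensorProduct.induction_on with
      | zero => simp <;> rfl
      | add x y hx hy => rw [TensorProduct.tmul_add, map_add, map_add, hx, hy]
      | tmul k w =>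
        have hk : k ⊗ₜ[A] w = k • ((1 : K) ⊗ₜ[A] w) := by rw [TensorProduct.smul_tmul', smul_eq_mul, mul_one]
        rw [hk, TensorProduct.tmul_smul, ← algebraMap_smul L k, map_smul, map_smul]
        clear hk
        congr 1
        have hw : w ∈ Submodule.span A (Set.range (D ℤ A)) := by rw [span_range_derivation]; trivial
        induction hw using Submodule.span_induction with
        | mem _ h =>
          obtain ⟨a, rfl⟩ := h
          rw [LinearMap.comp_apply, hu, hψ, hΘC]
          simp [g, dA]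
        | zero => simp <;> rfl
        | add _ _ _ _ h1 h2 => simp only [TensorProduct.tmul_add, map_add, h1, h2]
        | smul a z _ h =>
          rw [TensorProduct.tmul_smul, ← algebraMap_smul K a, TensorProduct.tmul_smul, ← algebraMap_smul L (algebraMap A K a),
            map_smul, map_smul, h]
  have hψX : ∀ c : Fin r → L, ψ (∑ i, c i • ((1 : L) ⊗ₜ[B] D ℤ B (t i))) = (0, c) := fun c => by
    rw [map_sum]
    simp only [map_smul, hψ, hΘX]
    refine Prod.ext (by simp [gX, Prod.fst_sum]) (funext fun j => ?_)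
    simp [gX, Prod.snd_sum, Pi.single_apply]
  have hS : ∀ x ∈ S, u x = 0 := fun x hx => by
    refine (Submodule.span_le.mpr ?_ hx : x ∈ LinearMap.ker u)
    rintro _ ⟨i, rfl⟩
    show u ((1 : L) ⊗ₜ[K] dvec A f i) = 0
    rw [hu, ← ht i, Derivation.leibniz_pow, ← Nat.cast_smul_eq_nsmul B, hpB, zero_smul, TensorProduct.tmul_zero]
  have hψbij : Function.Bijective ψ := by
    refine ⟨(injective_iff_map_eq_zero ψ).mpr fun z hz => ?_, fun q => ?_⟩
    · obtain ⟨x, c, rfl⟩ := hW z
      rw [map_add, hψu, hψX, Prod.mk_add_mk, add_zero, zero_add] at hz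
      obtain ⟨h1, rfl⟩ := Prod.ext_iff.mp hz
      simp [hS x ((Submodule.Quotient.mk_eq_zero S).mp h1)]
    · obtain ⟨x, hx⟩ := S.mkQ_surjective q.1
      exact ⟨u x + ∑ i, q.2 i • ((1 : L) ⊗ₜ[B] D ℤ B (t i)), by
        rw [map_add, hψu, hψX, hx, Prod.mk_add_mk, add_zero, zero_add]⟩
  -- the index of `u`
  let i₀ : L ⊗[K] V →ₗ[L] (((L ⊗[K] V) ⧸ S) × (Fin r → L)) := LinearMap.inl L _ (Fin r → L) ∘ₗ S.mkQ
  have hi₀k : LinearMap.ker i₀ = S := by
    rw [LinearMap.ker_comp_of_ker_eq_bot _ (LinearMap.ker_eq_bot.mpr LinearMap.inl_injective), Submodule.ker_mkQ]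
  have hi₀r : LinearMap.range i₀ = LinearMap.ker (LinearMap.snd L ((L ⊗[K] V) ⧸ S) (Fin r → L)) := by
    rw [LinearMap.range_comp_of_range_eq_top _ (Submodule.range_mkQ _)]
    exact LinearMap.range_inl L _ _
  let eC := (Submodule.quotEquivOfEq _ _ hi₀r).trans
    (LinearMap.quotKerEquivOfSurjective _ (Prod.snd_surjective : Function.Surjective (LinearMap.snd L ((L ⊗[K] V) ⧸ S) (Fin r → L))))
  have hfS : Module.Finite L S := Module.Finite.span_of_finite L (Set.finite_range _)
  have hI : IsFred i₀ ∧ idx i₀ = (r : ℤ) - Module.finrank L S := by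
    refine ⟨⟨by rw [hi₀k]; exact hfS, Module.Finite.equiv eC.symm⟩, ?_⟩
    simp only [idx]
    rw [eC.finrank_eq, Module.finrank_pi, Fintype.card_fin, hi₀k]
  let eψ := LinearEquiv.ofBijective ψ hψbij
  have hu_idx : IsFred u ∧ idx u = (r : ℤ) - Module.finrank L S := by
    have heq : u = eψ.symm.toLinearMap ∘ₗ i₀ := LinearMap.ext fun x => eψ.injective (by
      rw [LinearMap.comp_apply, LinearEquiv.coe_coe, LinearEquiv.apply_symm_apply]
      exact hψu x)
    have h1 := isFred_of_bijective (K := L) (f := eψ.symm.toLinearMap) eψ.symm.bijective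
    have h2 := isFred_comp h1.1 hI.1
    rw [heq]
    exact ⟨h2.1, by rw [h2.2, h1.2, hI.2, zero_add]⟩
  -- decomposition
  obtain ⟨πA, hπA⟩ := exists_retraction A p hp
  obtain ⟨πB, hπB⟩ := exists_retraction B p hpB
  have mkE : ∀ (R : Type u) [CommRing R] [IsLocalRing R] (π : ResidueField R ⊗[R] Ω[R⁄ℤ] →ₗ[ResidueField R] CotangentSpace R),
      π ∘ₗ ι R = LinearMap.id → Function.Bijective (π.prod (jmap R)) := by
    intro R _ _ π hπ
    refine ⟨(injective_iff_map_eq_zero _).mpr fun x hx => ?_, fun ⟨c, w⟩ => ?_⟩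
    · obtain ⟨h1, h2⟩ := Prod.ext_iff.mp hx
      obtain ⟨d, rfl⟩ := exists_ι_of_jmap_eq_zero R h2
      have : d = 0 := by simpa [LinearMap.congr_fun hπ d] using (show (π ∘ₗ ι R) d = 0 from h1)
      rw [this, map_zero]
    · obtain ⟨x, hx⟩ := jmap_surjective R w
      refine ⟨x + ι R (c - π x), Prod.ext ?_ ?_⟩
      · show π (x + ι R (c - π x)) = c
        rw [map_add, show π (ι R (c - π x)) = c - π x from LinearMap.congr_fun hπ _]; abel
      · show jmap R (x + ι R (c - π x)) = w
        rw [map_add, show jmap R (ι R (c - π x)) = 0 from LinearMap.congr_fun (jmap_ι R) _, hx, add_zero]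
  let eA := LinearEquiv.ofBijective _ (mkE A πA hπA)
  let eB := LinearEquiv.ofBijective _ (mkE B πB hπB)
  let eA' : L ⊗[K] V ≃ₗ[L] (L ⊗[K] CotangentSpace A) × (L ⊗[K] Ω[K⁄ℤ]) :=
    (LinearEquiv.baseChange K L _ _ eA).trans (TensorProduct.prodRight K L L (CotangentSpace A) Ω[K⁄ℤ])
  have heA' : ∀ x, eA' x = (πA.baseChange L x, (jmap A).baseChange L x) := by
    intro x
    induction x using TensorProduct.induction_on with
    | zero => simp <;> rfl
    | tmul c v => rfl
    | add x y hx hy => rw [map_add, hx, hy, map_add, map_add, Prod.mk_add_mk]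
  have hj : ∀ x, jmap B (u x) = (fmap K L) ((jmap A).baseChange L x) := by
    intro x
    set_option backward.isDefEq.respectTransparency false in
    induction x using TensorProduct.induction_on with
    | zero => simp <;> rfl
    | add x y hx hy => simp only [map_add, hx, hy]
    | tmul c v =>
      have hc : c ⊗ₜ[K] v = c • ((1 : L) ⊗ₜ[K] v) := by rw [TensorProduct.smul_tmul', smul_eq_mul, mul_one]
      rw [hc]; clear hc; simp only [map_smul]; congr 1
      induction v using TensorProduct.induction_on with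
      | zero => simp <;> rfl
      | add x y hx hy => simp only [TensorProduct.tmul_add, map_add, hx, hy]
      | tmul k w =>
        have hk : k ⊗ₜ[A] w = k • ((1 : K) ⊗ₜ[A] w) := by rw [TensorProduct.smul_tmul', smul_eq_mul, mul_one]
        rw [hk, TensorProduct.tmul_smul, ← algebraMap_smul L k]; clear hk; simp only [map_smul]; congr 1
        have hw : w ∈ Submodule.span A (Set.range (D ℤ A)) := by rw [span_range_derivation]; trivial
        induction hw using Submodule.span_induction with
        | mem _ h =>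
          obtain ⟨a, rfl⟩ := h
          rw [hu]
          show _ = mapBaseChange ℤ K L ((1 : L) ⊗ₜ[K] (jmap A ((1 : K) ⊗ₜ[A] D ℤ A a)))
          simp only [jmap, mapBaseChange_tmul, one_smul, map_D, ← IsScalarTower.algebraMap_apply]
          exact ((KaehlerDifferential.map_D ℤ ℤ K L _).trans (congrArg _ (IsScalarTower.algebraMap_apply A K L a).symm)).symm
        | zero => simp <;> rfl
        | add _ _ _ _ h1 h2 => simp only [TensorProduct.tmul_add, map_add, h1, h2]
        | smul a z _ h =>
          rw [TensorProduct.tmul_smul, ← algebraMap_smul K a, TensorProduct.tmul_smul, ← algebraMap_smul L (algebraMap A K a)]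
          simp only [map_smul, h]
  let u1 : L ⊗[K] CotangentSpace A →ₗ[L] CotangentSpace B := πB ∘ₗ u ∘ₗ (ι A).baseChange L
  let h' : L ⊗[K] Ω[K⁄ℤ] →ₗ[L] CotangentSpace B :=
    πB ∘ₗ u ∘ₗ eA'.symm.toLinearMap ∘ₗ LinearMap.inr L _ _
  let d1 : (L ⊗[K] CotangentSpace A) × (L ⊗[K] Ω[K⁄ℤ]) →ₗ[L] CotangentSpace B × (L ⊗[K] Ω[K⁄ℤ]) :=
    u1.prodMap LinearMap.id
  let sh : CotangentSpace B × (L ⊗[K] Ω[K⁄ℤ]) →ₗ[L] CotangentSpace B × (L ⊗[K] Ω[K⁄ℤ]) :=
    (LinearMap.fst L _ _ + h' ∘ₗ LinearMap.snd L _ _).prod (LinearMap.snd L _ _)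
  let d2 : CotangentSpace B × (L ⊗[K] Ω[K⁄ℤ]) →ₗ[L] CotangentSpace B × Ω[L⁄ℤ] := LinearMap.id.prodMap (fmap K L)
  have hsh : Function.Bijective sh := Function.bijective_iff_has_inverse.mpr
    ⟨fun z => (z.1 - h' z.2, z.2), fun z => by simp [sh], fun z => by simp [sh]⟩
  have : Module.Finite K (CotangentSpace A) := inferInstance
  have : Module.Finite L (CotangentSpace B) := inferInstance
  obtain ⟨hu1f, hu1⟩ := idx_eq_sub u1
  obtain ⟨hu3f, n, hn, hu3⟩ := good_of_finite (K := K) (L := L)
  have hn0 : n = 0 := by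
    have : Algebra.trdeg K L = 0 := trdeg_eq_zero
    rw [this] at hn
    exact_mod_cast hn.symm
  have h1 := idx_prodMap_id (X := L ⊗[K] Ω[K⁄ℤ]) hu1f
  have h2 := isFred_of_bijective (K := L) hsh
  have h3 := idx_id_prodMap (X := CotangentSpace B) hu3f
  have h12 := isFred_comp h2.1 h1.1
  have h123 := isFred_comp h3.1 h12.1
  have hTeq : eB.toLinearMap ∘ₗ u = (d2 ∘ₗ (sh ∘ₗ d1)) ∘ₗ eA'.toLinearMap := by
    refine LinearMap.ext fun x => ?_
    obtain ⟨⟨c, w⟩, rfl⟩ := eA'.symm.surjective x
    have hdec : eA'.symm (c, w) = (ι A).baseChange L c + eA'.symm (0, w) := by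
      refine eA'.injective ?_
      rw [map_add, LinearEquiv.apply_symm_apply, LinearEquiv.apply_symm_apply, heA']
      have e1 : πA.baseChange L ((ι A).baseChange L c) = c := by
        rw [← LinearMap.comp_apply, ← LinearMap.baseChange_comp, hπA, LinearMap.baseChange_id, LinearMap.id_apply]
      have e2 : (jmap A).baseChange L ((ι A).baseChange L c) = 0 := by
        rw [← LinearMap.comp_apply, ← LinearMap.baseChange_comp, jmap_ι, LinearMap.baseChange_zero, LinearMap.zero_apply]
      rw [e1, e2, Prod.mk_add_mk, add_zero, zero_add]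
    simp only [LinearMap.comp_apply, LinearEquiv.coe_coe, LinearEquiv.apply_symm_apply]
    refine Prod.ext ?_ ?_
    · show πB (u (eA'.symm (c, w))) = u1 c + h' w
      rw [hdec, map_add, map_add]
      rfl
    · show jmap B (u (eA'.symm (c, w))) = (fmap K L) w
      rw [hj]
      exact congrArg (fmap K L) (congrArg Prod.snd ((heA' _).symm.trans (eA'.apply_symm_apply (c, w))))
  have hb1 := isFred_of_bijective (K := L) (f := eB.toLinearMap) eB.bijective
  have hb2 := isFred_of_bijective (K := L) (f := eA'.toLinearMap) eA'.bijective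
  have e1 := (isFred_comp hb1.1 hu_idx.1).2
  have e2 := (isFred_comp h123.1 hb2.1).2
  rw [hTeq] at e1
  rw [hb1.2, hu_idx.2] at e1
  have f1 := h123.2
  have f2 := h12.2
  have f3 := h3.2
  have f4 := h2.2
  have f5 := h1.2
  have f6 := hb2.2
  have f7 : Module.finrank L (L ⊗[K] CotangentSpace A) = Module.finrank K (CotangentSpace A) := Module.finrank_baseChange
  have v2 := f3.trans hu3
  have v1 := f5.trans hu1
  have v12 := f2.trans (congrArg₂ (· + ·) f4 v1)
  have v123 := f1.trans (congrArg₂ (· + ·) v2 v12)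
  have vT := e2.trans (congrArg₂ (· + ·) v123 f6)
  have e := e1.symm.trans vT
  subst hn0
  have hρ : Module.finrank L S = Module.finrank K (Submodule.span K (Set.range (dvec A f))) := finrank_span_tmul _
  simp only [K, L] at *
  omega

/-- The criterion. -/
theorem finrank_eq_iff (hp : (p : A) = 0) [IsLocalRing (Root A p f)] [IsLocalHom (algebraMap A (Root A p f))] :
    Module.finrank (ResidueField A) (CotangentSpace A) =
        Module.finrank (ResidueField (Root A p f)) (CotangentSpace (Root A p f)) ↔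
      LinearIndependent (ResidueField A) (dvec A f) := by
  have := finite_root (A := A) (f := f) (Fact.out : p.Prime).ne_zero
  have h := finrank_cotangent_of (f := f) hp (Root A p f) (root A p f) root_pow induction_root
    (fun T _ g y hy => exists_lift_root g y hy)
  rw [linearIndependent_iff_card_eq_finrank_span, Fintype.card_fin]
  show _ ↔ r = Module.finrank _ (Submodule.span _ _)
  omega

end Local

end Groth.Agent.CAlgH.InsepRoot
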