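import Mathlib

/-! Logarithmic connections on the affine line with non-integral residues. -/

universe u

namespace Groth.Agent.CAlgH.LogConn

open Polynomial

variable {R : Type u} [CommRing R] {d r : ℕ} {θ : Fin r → R}

theorem bijective_res [Algebra ℂ R] [Nontrivial R] (f : (Fin d → R) →ₗ[R] (Fin d → R))
    (χ : ℂ[X]) (hf : f.charpoly = χ.map (algebraMap ℂ R)) (hχ : ∀ n : ℤ, n ≠ 0 → χ.eval (n : ℂ) ≠ 0)
    (N : ℕ) (hN : 0 < N) : Function.Bijective (f - (N : R) • (LinearMap.id : (Fin d → R) →ₗ[R] (Fin d → R))) := by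
  have h : IsUnit (LinearMap.det (algebraMap R (Module.End R (Fin d → R)) (N : R) - f)) := by
    rw [← LinearMap.eval_charpoly, hf, eval_natCast_map]
    exact (isUnit_iff_ne_zero.mpr (by simpa using hχ N (by omega))).map _
  have hb := (LinearMap.equivOfIsUnitDet h).bijective
  have he : ⇑(f - (N : R) • (LinearMap.id : (Fin d → R) →ₗ[R] (Fin d → R))) = fun x => -(LinearMap.equivOfIsUnitDet h x) := by
    funext x; funext j; simp [Algebra.smul_def]
  rw [he]
  exact ((Equiv.neg _).bijective).comp hb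

theorem dvd_of_eval_eq_zero (hθ : ∀ i k, i ≠ k → IsUnit (θ i - θ k)) (u : R[X]) (h : ∀ i, u.eval (θ i) = 0) :
    (∏ i, (X - C (θ i))) ∣ u :=
  Finset.prod_dvd_of_coprime (fun _ _ _ _ hik => isCoprime_X_sub_C_of_isUnit_sub (hθ _ _ hik))
    fun i _ => dvd_iff_isRoot.mpr (h i)

theorem exists_eval (hθ : ∀ i k, i ≠ k → IsUnit (θ i - θ k)) (y : Fin r → R) :
    ∃ u : R[X], ∀ i, u.eval (θ i) = y i := by
  classical
  have hc : ∀ i, IsUnit (∏ k ∈ Finset.univ.erase i, (θ i - θ k)) := fun i =>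
    IsUnit.prod_iff.mpr fun k hk => hθ _ _ (Ne.symm (Finset.ne_of_mem_erase hk))
  refine ⟨∑ i, C (y i * ((hc i).unit⁻¹ : Rˣ)) * ∏ k ∈ Finset.univ.erase i, (X - C (θ k)), fun j => ?_⟩
  rw [eval_finset_sum, Finset.sum_eq_single j]
  · simp only [eval_mul, eval_C, eval_prod, eval_sub, eval_X]
    rw [mul_assoc, IsUnit.val_inv_mul, mul_one]
  · intro i _ hij
    simp only [eval_mul, eval_C, eval_prod, eval_sub, eval_X]
    exact mul_eq_zero_of_right _ (Finset.prod_eq_zero (Finset.mem_erase.mpr ⟨hij.symm, Finset.mem_univ _⟩) (sub_self _))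
  · simp

variable (D₀ : (Fin d → R[X]) →+ (Fin d → R[X]))
  (Res : Fin r → ((Fin d → R) →ₗ[R] (Fin d → R)))

theorem eval_key
    (hD₀ : ∀ (p : R[X]) (v : Fin d → R[X]),
      D₀ (p • v) = ((∏ i, (X - C (θ i))) * derivative p) • v + p • D₀ v)
    (hRes : ∀ (i : Fin r) (m : Fin d → R) (j : Fin d),
      (D₀ (fun j => C (m j)) j).eval (θ i) = (∏ k ∈ Finset.univ.erase i, (θ i - θ k)) * Res i m j)
    (v : Fin d → R[X]) (N : ℕ) (i : Fin r) (j : Fin d) :
    (D₀ v j - (N : R[X]) * derivative (∏ i, (X - C (θ i))) * v j).eval (θ i) =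
      (∏ k ∈ Finset.univ.erase i, (θ i - θ k)) * (Res i - (N : R) • (LinearMap.id : (Fin d → R) →ₗ[R] (Fin d → R))) (fun k => (v k).eval (θ i)) j := by
  choose q hq using fun k => X_sub_C_dvd_sub_C_eval (a := θ i) (p := v k)
  have hv : v = (fun k => C ((v k).eval (θ i))) + (X - C (θ i)) • q := funext fun k => by
    simp [← hq k]
  have h1 : (D₀ v j).eval (θ i) = (∏ k ∈ Finset.univ.erase i, (θ i - θ k)) * Res i (fun k => (v k).eval (θ i)) j := by
    conv_lhs => rw [hv, map_add, hD₀]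
    simp [eval_prod, hRes, Finset.prod_eq_zero (f := fun k => θ i - θ k) (Finset.mem_univ i) (sub_self (θ i))]
  have h2 : (derivative (∏ i, (X - C (θ i)))).eval (θ i) = ∏ k ∈ Finset.univ.erase i, (θ i - θ k) := by
    rw [← Finset.mul_prod_erase _ _ (Finset.mem_univ i), derivative_mul]
    simp [eval_prod]
  simp only [eval_sub, eval_mul, eval_natCast, h1, h2, LinearMap.sub_apply, LinearMap.smul_apply, Pi.sub_apply,
    Pi.smul_apply, LinearMap.id_coe, id_eq, smul_eq_mul]
  ring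

variable {L : Type*} [CommRing L] [Algebra R[X] L] (Θ : R[X]) [IsLocalization.Away Θ L]
  (D : (Fin d → L) →+ (Fin d → L))

theorem D_frac
    (hD : ∀ (p : R[X]) (w : Fin d → L), D (p • w) = (Θ * derivative p) • w + p • D w)
    (hDD₀ : ∀ v : Fin d → R[X], D (fun j => algebraMap R[X] L (v j)) = fun j => algebraMap R[X] L (D₀ v j))
    (v : Fin d → R[X]) (N : ℕ) :
    D (fun j => algebraMap R[X] L (v j) * IsLocalization.Away.invSelf Θ ^ N) =
      fun j => algebraMap R[X] L (D₀ v j - (N : R[X]) * derivative Θ * v j) * IsLocalization.Away.invSelf Θ ^ N := by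
  set s : L := IsLocalization.Away.invSelf Θ
  have hs : ∀ x : L, algebraMap R[X] L (Θ ^ N) * (x * s ^ N) = x := fun x => by
    rw [map_pow, mul_left_comm, ← mul_pow, IsLocalization.Away.mul_invSelf, one_pow, mul_one]
  have h1 : (Θ ^ N) • (fun j => algebraMap R[X] L (v j) * s ^ N) = fun j => algebraMap R[X] L (v j) :=
    funext fun j => by rw [Pi.smul_apply, Algebra.smul_def, hs]
  have h2 : Θ * derivative (Θ ^ N) = (N : R[X]) * derivative Θ * Θ ^ N := by
    cases N with
    | zero => simp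
    | succ N => rw [derivative_pow, Nat.add_sub_cancel, pow_succ, map_natCast]; ring
  have h3 := hD (Θ ^ N) (fun j => algebraMap R[X] L (v j) * s ^ N)
  rw [h1, hDD₀, h2] at h3
  funext j
  have h4 := congrFun h3 j
  simp only [Pi.add_apply, Pi.smul_apply] at h4
  rw [Algebra.smul_def, Algebra.smul_def, map_mul (algebraMap R[X] L) _ (Θ ^ N)] at h4
  rw [mul_assoc _ (algebraMap R[X] L (Θ ^ N)), hs] at h4
  set y := D (fun j => algebraMap R[X] L (v j) * s ^ N) j
  have h5 : algebraMap R[X] L (Θ ^ N) * y = algebraMap R[X] L (D₀ v j - (N : R[X]) * derivative Θ * v j) := by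
    simp only [map_sub, map_mul] at h4 ⊢
    rw [h4]; ring
  rw [← h5, mul_assoc, hs]

end Groth.Agent.CAlgH.LogConn
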