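import Mathlib

/-!
Noether normalisation by substitutions with integer coefficients.

The section `equivT` below is adapted from the private lemmas of
`Mathlib.RingTheory.NoetherNormalization` (Sihan Su, Riccardo Brasca, Wan Lin, Xiaoyang Su; Apache 2.0).
-/

open Polynomial MvPolynomial Ideal Nat RingHom List

namespace Groth.Agent.CAlgH.NoetherInt

variable {k : Type*} [Field k] {n : ℕ} (f : MvPolynomial (Fin (n + 1)) k)
variable (v w : Fin (n + 1) →₀ ℕ)

section equivT

/-- `up` is defined as `2 + f.totalDegree`. Any big enough number would work. -/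
local notation3 "up" => 2 + f.totalDegree

variable {f v} in
lemma lt_up (vlt : ∀ i, v i < up) : ∀ l ∈ ofFn v, l < up := by
  grind

/-- `r` maps `(i : Fin (n + 1))` to `up ^ i`. -/
local notation3 "r" => fun (i : Fin (n + 1)) ↦ up ^ i.1

/-- We construct an algebra map `T1 f c` which maps `X_i` into `X_i + c • X_0 ^ r_i` when `i ≠ 0`
and `X_0` to `X_0`. -/
noncomputable abbrev T1 (c : k) :
    MvPolynomial (Fin (n + 1)) k →ₐ[k] MvPolynomial (Fin (n + 1)) k :=
  aeval fun i ↦ if i = 0 then X 0 else X i + c • X 0 ^ r i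

lemma t1_comp_t1_neg (c : k) : (T1 f c).comp (T1 f (-c)) = AlgHom.id _ _ := by
  rw [comp_aeval, ← MvPolynomial.aeval_X_left]
  ext i v
  cases i using Fin.cases <;> simp

/-- `T1 f 1` leads to an algebra equiv `T f`. -/
noncomputable abbrev T := AlgEquiv.ofAlgHom (T1 f 1) (T1 f (-1))
  (t1_comp_t1_neg f 1) (by simpa using t1_comp_t1_neg f (-1))

lemma sum_r_mul_ne (vlt : ∀ i, v i < up) (wlt : ∀ i, w i < up) (ne : v ≠ w) :
    ∑ x : Fin (n + 1), r x * v x ≠ ∑ x : Fin (n + 1), r x * w x := by
  intro h
  refine ne <| Finsupp.ext <| congrFun <| ofFn_inj.mp ?_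
  apply ofDigits_inj_of_len_eq (Nat.lt_add_right f.totalDegree one_lt_two)
    (by simp) (lt_up vlt) (lt_up wlt)
  simpa only [ofDigits_eq_sum_mapIdx, mapIdx_eq_ofFn, get_ofFn, length_ofFn,
    Fin.val_cast, mul_comm, sum_ofFn] using! h

lemma degreeOf_zero_t {a : k} (ha : a ≠ 0) : ((T f) (monomial v a)).degreeOf 0 =
    ∑ i : Fin (n + 1), (r i) * v i := by
  rw [← natDegree_finSuccEquiv, monomial_eq, Finsupp.prod_pow v fun a ↦ X a]
  simp only [Fin.prod_univ_succ, Fin.sum_univ_succ, map_mul, map_prod, map_pow,
    AlgEquiv.ofAlgHom_apply, MvPolynomial.aeval_C, MvPolynomial.aeval_X, if_pos, Fin.succ_ne_zero,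
    ite_false, one_smul, map_add, finSuccEquiv_X_zero, finSuccEquiv_X_succ, algebraMap_eq]
  have h (i : Fin n) :
      (Polynomial.C (X (R := k) i) + Polynomial.X ^ r i.succ) ^ v i.succ ≠ 0 :=
    pow_ne_zero (v i.succ) (leadingCoeff_ne_zero.mp <| by simp [add_comm, leadingCoeff_X_pow_add_C])
  rw [natDegree_mul (by simp [ha]) (mul_ne_zero (by simp) (Finset.prod_ne_zero_iff.mpr
    (fun i _ ↦ h i))), natDegree_mul (by simp) (Finset.prod_ne_zero_iff.mpr (fun i _ ↦ h i)),
    natDegree_prod _ _ (fun i _ ↦ h i), natDegree_finSuccEquiv, degreeOf_C]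
  simpa only [natDegree_pow, zero_add, natDegree_X, mul_one, Fin.val_zero, pow_zero, one_mul,
    add_right_inj] using Finset.sum_congr rfl (fun i _ ↦ by
    rw [add_comm (Polynomial.C _), natDegree_X_pow_add_C, mul_comm])

/-- `T` maps different monomials of `f` to polynomials with different degrees in `X_0`. -/
lemma degreeOf_t_ne_of_ne (hv : v ∈ f.support) (hw : w ∈ f.support) (ne : v ≠ w) :
    (T f <| monomial v <| coeff v f).degreeOf 0 ≠
    (T f <| monomial w <| coeff w f).degreeOf 0 := by
  rw [degreeOf_zero_t _ _ <| mem_support_iff.mp hv, degreeOf_zero_t _ _ <| mem_support_iff.mp hw]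
  refine sum_r_mul_ne f v w (fun i ↦ ?_) (fun i ↦ ?_) ne <;>
  exact lt_of_le_of_lt ((monomial_le_degreeOf i ‹_›).trans (degreeOf_le_totalDegree f i))
    (by lia)

lemma leadingCoeff_finSuccEquiv_t :
    (finSuccEquiv k n ((T f) ((monomial v) (coeff v f)))).leadingCoeff =
    algebraMap k _ (coeff v f) := by
  rw [monomial_eq, Finsupp.prod_fintype]
  · simp only [map_mul, map_prod, leadingCoeff_mul, leadingCoeff_prod]
    rw [AlgEquiv.ofAlgHom_apply, algHom_C, algebraMap_eq, finSuccEquiv_apply,
      eval₂Hom_C, coe_comp]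
    simp only [AlgEquiv.ofAlgHom_apply, Function.comp_apply, leadingCoeff_C, map_pow,
      leadingCoeff_pow, algebraMap_eq]
    have : ∀ j, ((finSuccEquiv k n) ((T1 f) 1 (X j))).leadingCoeff = 1 := fun j ↦ by
      by_cases h : j = 0
      · simp [h, finSuccEquiv_apply]
      · simp only [aeval_eq_bind₁, bind₁_X_right, if_neg h, one_smul, map_add, map_pow]
        obtain ⟨i, rfl⟩ := Fin.exists_succ_eq.mpr h
        simp [finSuccEquiv_X_succ, finSuccEquiv_X_zero, add_comm]
    simp only [this, one_pow, Finset.prod_const_one, mul_one]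
  exact fun i ↦ pow_zero _

/-- `T` maps `f` into some polynomial in `X_0` such that the leading coefficient is invertible. -/
lemma T_leadingcoeff_isUnit (fne : f ≠ 0) :
    IsUnit (finSuccEquiv k n (T f f)).leadingCoeff := by
  obtain ⟨v, vin, vs⟩ := Finset.exists_max_image f.support
    (fun v ↦ (T f ((monomial v) (coeff v f))).degreeOf 0) (support_nonempty.mpr fne)
  set h := fun w ↦ (MvPolynomial.monomial w) (coeff w f)
  simp only [← natDegree_finSuccEquiv] at vs
  replace vs : ∀ x ∈ f.support \ {v}, (finSuccEquiv k n ((T f) (h x))).degree <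
      (finSuccEquiv k n ((T f) (h v))).degree := by
    intro x hx
    obtain ⟨h1, h2⟩ := Finset.mem_sdiff.mp hx
    apply degree_lt_degree <| lt_of_le_of_ne (vs x h1) ?_
    simpa only [natDegree_finSuccEquiv]
      using degreeOf_t_ne_of_ne f _ _ h1 vin <| ne_of_not_mem_cons h2
  have coeff : (finSuccEquiv k n ((T f) (h v + ∑ x ∈ f.support \ {v}, h x))).leadingCoeff =
      (finSuccEquiv k n ((T f) (h v))).leadingCoeff := by
    simp only [map_add, map_sum]
    rw [add_comm]
    apply leadingCoeff_add_of_degree_lt <| (lt_of_le_of_lt <| degree_sum_le _ _) ?_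
    have h2 : h v ≠ 0 := by simpa [h] using mem_support_iff.mp vin
    replace h2 : (finSuccEquiv k n ((T f) (h v))) ≠ 0 := fun eq ↦ h2 <|
      by simpa only [map_eq_zero_iff _ (AlgEquiv.injective _)] using eq
    exact (Finset.sup_lt_iff <| Ne.bot_lt (fun x ↦ h2 <| degree_eq_bot.mp x)).mpr vs
  nth_rw 2 [← f.support_sum_monomial_coeff]
  rw [Finset.sum_eq_add_sum_sdiff_singleton_of_mem vin h]
  rw [leadingCoeff_finSuccEquiv_t] at coeff
  simpa only [coeff, algebraMap_eq] using (mem_support_iff.mp vin).isUnit.map MvPolynomial.C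

end equivT

theorem exists_integer_normalization :
    ∀ (n : ℕ) (A : Type*) [CommRing A] [Nontrivial A] [Algebra k A] (x : Fin n → A),
      Function.Surjective (MvPolynomial.aeval x : MvPolynomial (Fin n) k →ₐ[k] A) →
      ∃ (r : ℕ) (y : Fin r → MvPolynomial (Fin n) ℤ),
        Function.Injective (MvPolynomial.aeval (fun i => MvPolynomial.aeval x (MvPolynomial.map (Int.castRingHom k) (y i))) :
          MvPolynomial (Fin r) k →ₐ[k] A) ∧
        (MvPolynomial.aeval (fun i => MvPolynomial.aeval x (MvPolynomial.map (Int.castRingHom k) (y i))) :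
          MvPolynomial (Fin r) k →ₐ[k] A).toRingHom.IsIntegral := by
  intro n
  induction n with
  | zero =>
    intro A _ _ _ x hx
    refine ⟨0, Fin.elim0, ?_, RingHom.isIntegral_of_surjective _ fun a => ?_⟩
    · have heq : ∀ p : MvPolynomial (Fin 0) k, p = MvPolynomial.C (MvPolynomial.coeff 0 p) :=
        fun p => MvPolynomial.eq_C_of_isEmpty p
      intro p q h
      rw [heq p, heq q] at h ⊢
      rw [MvPolynomial.aeval_C, MvPolynomial.aeval_C] at h
      rw [(algebraMap k A).injective h]
    · obtain ⟨p, rfl⟩ := hx a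
      exact ⟨p, congrFun (congrArg DFunLike.coe (MvPolynomial.algHom_ext (fun i => i.elim0))) p⟩
  | succ d hd =>
    intro A _ _ _ x hx
    classical
    by_cases hinj : Function.Injective (MvPolynomial.aeval x : MvPolynomial (Fin (d + 1)) k →ₐ[k] A)
    · refine ⟨d + 1, fun i => MvPolynomial.X i, ?_⟩
      simp only [MvPolynomial.map_X, MvPolynomial.aeval_X]
      exact ⟨hinj, RingHom.isIntegral_of_surjective _ hx⟩
    obtain ⟨f, hf0, hfne⟩ : ∃ f, MvPolynomial.aeval x f = 0 ∧ f ≠ 0 := by
      rw [injective_iff_map_eq_zero] at hinj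
      push Not at hinj
      exact hinj
    let N : Fin (d + 1) → ℕ := fun i => (2 + f.totalDegree) ^ i.1
    let z : Fin d → A := fun i => x i.succ - x 0 ^ N i.succ
    let x' : Fin (d + 1) → A := Fin.cons (x 0) z
    have hT : ∀ p : MvPolynomial (Fin (d + 1)) k, MvPolynomial.aeval x' (T f p) = MvPolynomial.aeval x p := by
      intro p
      rw [AlgEquiv.ofAlgHom_apply, ← AlgHom.comp_apply]
      congr 1
      refine MvPolynomial.algHom_ext fun i => ?_
      rw [AlgHom.comp_apply, MvPolynomial.aeval_X, MvPolynomial.aeval_X]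
      cases i using Fin.cases with
      | zero => simp [x']
      | succ i => simp [x', z, N, Fin.succ_ne_zero]
    let A' := (MvPolynomial.aeval z : MvPolynomial (Fin d) k →ₐ[k] A).range
    let ρ : MvPolynomial (Fin d) k →ₐ[k] A' := (MvPolynomial.aeval z).rangeRestrict
    have hx0 : _root_.IsIntegral A' (x 0) := by
      obtain u := T_leadingcoeff_isUnit f hfne
      refine ⟨(u.unit⁻¹.val • finSuccEquiv k d (T f f)).map ρ.toRingHom,
        (monic_of_isUnit_leadingCoeff_inv_smul u).map _, ?_⟩
      have key : ∀ q : MvPolynomial (Fin (d + 1)) k,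
          Polynomial.eval₂ ((algebraMap A' A).comp ρ.toRingHom) (x 0) (finSuccEquiv k d q) =
            MvPolynomial.aeval x' q := by
        intro q
        induction q using MvPolynomial.induction_on with
        | C c =>
          rw [MvPolynomial.aeval_C, finSuccEquiv_apply, MvPolynomial.eval₂Hom_C]
          simp only [RingHom.coe_comp, Function.comp_apply, Polynomial.eval₂_C]
          exact (MvPolynomial.aeval z).commutes c
        | add p q hp hq => simp only [map_add, Polynomial.eval₂_add, hp, hq]
        | mul_X p i hp =>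
          simp only [map_mul, Polynomial.eval₂_mul, hp, MvPolynomial.aeval_X]
          congr 1
          cases i using Fin.cases with
          | zero => simp [finSuccEquiv_X_zero, x']
          | succ i =>
            rw [finSuccEquiv_X_succ, Polynomial.eval₂_C]
            simp [x', ρ, RingHom.comp_apply]
      rw [Polynomial.eval₂_map, Polynomial.smul_eq_C_mul, Polynomial.eval₂_mul, key, hT, hf0, mul_zero]
    haveI hint : Algebra.IsIntegral A' A := by
      refine ⟨fun a => ?_⟩
      obtain ⟨p, rfl⟩ := hx a
      induction p using MvPolynomial.induction_on with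
      | C c =>
        rw [MvPolynomial.aeval_C, IsScalarTower.algebraMap_apply k A' A]
        exact isIntegral_algebraMap
      | add p q hp hq => rw [map_add]; exact hp.add hq
      | mul_X p i hp =>
        rw [map_mul, MvPolynomial.aeval_X]
        refine hp.mul ?_
        cases i using Fin.cases with
        | zero => exact hx0
        | succ i =>
          have hz : _root_.IsIntegral A' (z i) := by
            have : z i = algebraMap A' A (ρ (MvPolynomial.X i)) := by
              show z i = MvPolynomial.aeval z (MvPolynomial.X i)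
              rw [MvPolynomial.aeval_X]
            rw [this]
            exact isIntegral_algebraMap
          have := hz.add (hx0.pow (N i.succ))
          simpa [z] using this
    let z' : Fin d → A' := fun i => ρ (MvPolynomial.X i)
    have hz' : (MvPolynomial.aeval z' : MvPolynomial (Fin d) k →ₐ[k] A') = ρ :=
      MvPolynomial.algHom_ext fun i => by simp [z']
    obtain ⟨r, y, hyinj, hyint⟩ := hd A' z' (by rw [hz']; exact AlgHom.rangeRestrict_surjective _)
    let sub : MvPolynomial (Fin d) ℤ →ₐ[ℤ] MvPolynomial (Fin (d + 1)) ℤ :=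
      MvPolynomial.aeval fun i => MvPolynomial.X i.succ - MvPolynomial.X 0 ^ N i.succ
    refine ⟨r, fun i => sub (y i), ?_⟩
    have hev : ∀ q : MvPolynomial (Fin d) ℤ,
        MvPolynomial.aeval x (MvPolynomial.map (Int.castRingHom k) (sub q)) =
          algebraMap A' A (MvPolynomial.aeval z' (MvPolynomial.map (Int.castRingHom k) q)) := by
      intro q
      induction q using MvPolynomial.induction_on with
      | C c => simp [sub]
      | add p q hp hq => simp only [map_add, hp, hq]
      | mul_X p i hp =>
        simp only [map_mul, hp, MvPolynomial.map_X, MvPolynomial.aeval_X]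
        congr 1
        simp [sub, z', ρ, z]
    have heq : (MvPolynomial.aeval (fun i => MvPolynomial.aeval x (MvPolynomial.map (Int.castRingHom k) (sub (y i)))) :
        MvPolynomial (Fin r) k →ₐ[k] A) = A'.val.comp (MvPolynomial.aeval fun i =>
          MvPolynomial.aeval z' (MvPolynomial.map (Int.castRingHom k) (y i))) :=
      MvPolynomial.algHom_ext fun i => by
        rw [MvPolynomial.aeval_X, hev, AlgHom.comp_apply, MvPolynomial.aeval_X]
        rfl
    rw [heq]
    refine ⟨Subtype.val_injective.comp hyinj, ?_⟩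
    exact RingHom.IsIntegral.trans _ _ hyint
      (show (algebraMap A' A).IsIntegral from fun a => hint.isIntegral a)

end Groth.Agent.CAlgH.NoetherInt
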