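import Mathlib
import Groth.Agent.AWN.Criteria
import Groth.Agent.S14256
import Groth.Agent.S14257

/-! Perfect closures and universal homeomorphisms; flatness of the perfection. -/

open TensorProduct CategoryTheory AlgebraicGeometry

namespace Groth.Agent.CAlgH.PerfUH

universe u

variable (p : ℕ) [hp : Fact p.Prime]

theorem isReduced_perfect (A : Type u) [CommRing A] [CharP A p] [PerfectRing A p] : _root_.IsReduced A :=
  ⟨fun x ⟨n, hn⟩ => (bijective_iterateFrobenius A p (n := n)).injective (by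
    simp only [iterateFrobenius_def, zero_pow (pow_ne_zero n hp.out.ne_zero)]
    exact pow_eq_zero_of_le (Nat.lt_pow_self hp.out.one_lt).le hn)⟩

theorem comap_bijective {A A' : Type u} [CommRing A] [CommRing A'] [CharP A p] [CharP A' p] [PerfectRing A' p]
    (i : A →+* A') [IsPerfectClosure i p] : Function.Bijective (PrimeSpectrum.comap i) := by
  refine (PrimeSpectrum.isHomeomorph_comap i (fun x => ?_) ?_).bijective
  · obtain ⟨n, y, hy⟩ := IsPRadical.pow_mem i p x
    exact ⟨p ^ n, pow_pos hp.out.pos n, ⟨y, hy⟩⟩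
  · intro x hx
    obtain ⟨n, hn⟩ := mem_pNilradical.mp (IsPRadical.ker_le i p hx)
    exact mem_nilradical.mpr ⟨_, hn⟩

theorem field_hom_ext {A A' : Type u} [CommRing A] [CommRing A'] [CharP A p] [CharP A' p] [PerfectRing A' p]
    (i : A →+* A') [IsPerfectClosure i p] (K : Type u) [Field K] (g g' : A' →+* K) (h : g.comp i = g'.comp i) :
    g = g' := by
  haveI : CharP K p := (CharP.charP_iff_prime_eq_zero hp.out).mpr (by
    rw [← map_natCast g, CharP.cast_eq_zero, map_zero])
  refine RingHom.ext fun x => ?_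
  obtain ⟨n, y, hy⟩ := IsPRadical.pow_mem i p x
  refine iterateFrobenius_inj K p n ?_
  simp only [iterateFrobenius_def, ← map_pow, ← hy]
  exact RingHom.congr_fun h y

theorem isUnivHomeo_perfectClosure {A A' : Type u} [CommRing A] [CommRing A'] [CharP A p] [CharP A' p]
    [PerfectRing A' p] (i : A →+* A') [IsPerfectClosure i p] :
    FlatMor.IsUnivHomeo (Spec.map (CommRingCat.ofHom i)) := by
  refine (EtaLib.isUnivHomeo_Spec_iff i).mpr ⟨fun x => ?_, (comap_bijective p i).2,
    fun K _ g g' h => field_hom_ext p i K g g' h⟩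
  obtain ⟨n, y, hy⟩ := IsPRadical.pow_mem i p x
  exact ⟨Polynomial.X ^ (p ^ n) - Polynomial.C y, Polynomial.monic_X_pow_sub_C _ (pow_ne_zero _ hp.out.ne_zero),
    by rw [Polynomial.eval₂_sub, Polynomial.eval₂_X_pow, Polynomial.eval₂_C, hy, sub_self]⟩

theorem isAWN_perfect (A : Type u) [CommRing A] [CharP A p] [PerfectRing A p] : HTop.IsAWNRing A := by
  haveI := isReduced_perfect p A
  have hroot : ∀ (n : ℕ) (c : A), ∃ a, a ^ p ^ n = c := fun n c => (bijective_iterateFrobenius A p (n := n)).surjective c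
  have hinj : ∀ (n : ℕ) (a b : A), a ^ p ^ n = b ^ p ^ n → a = b := fun n a b h =>
    (bijective_iterateFrobenius A p (n := n)).injective h
  refine ⟨fun x y hxy => ?_, fun l hl x y hxy => ?_⟩
  · obtain ⟨α, β, hαβ⟩ : ∃ α β : ℕ, 2 * α + 3 * β = p ^ 1 := by
      rcases hp.out.eq_two_or_odd with h | h
      · exact ⟨1, 0, by rw [h]; rfl⟩
      · have := hp.out.two_le
        exact ⟨(p - 3) / 2, 1, by rw [pow_one]; omega⟩
    obtain ⟨a, ha⟩ := hroot 1 (x ^ α * y ^ β)
    have h2 : a ^ 2 = x := hinj 1 _ _ (by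
      rw [← pow_mul, mul_comm, pow_mul, ha, ← hαβ, mul_pow, ← pow_mul, ← pow_mul, mul_comm β 2, pow_mul y 2 β, ← hxy,
        ← pow_mul, ← pow_add, mul_comm α 2])
    have h3 : a ^ 3 = y := hinj 1 _ _ (by
      rw [← pow_mul, mul_comm, pow_mul, ha, ← hαβ, mul_pow, ← pow_mul, ← pow_mul, mul_comm α 3, pow_mul x 3 α, hxy,
        ← pow_mul, ← pow_add, mul_comm β 3])
    refine ⟨a, ⟨h2.symm, h3.symm⟩, fun b hb => ?_⟩
    exact AWN.eq_of_sq_cube (hb.1.symm.trans h2.symm) (hb.2.symm.trans h3.symm)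
  · by_cases hlp : l = p
    · rw [hlp] at hxy ⊢
      rw [CharP.cast_eq_zero, zero_pow hp.out.ne_zero, zero_mul] at hxy
      have hy : y = 0 := eq_zero_of_pow_eq_zero hxy.symm
      obtain ⟨a, ha⟩ := hroot 1 x
      rw [pow_one] at ha
      refine ⟨a, ⟨ha.symm, by rw [hy, CharP.cast_eq_zero, zero_mul]⟩, fun b hb => hinj 1 _ _ ?_⟩
      rw [pow_one, ← hb.1, ha]
    · obtain ⟨u, hu⟩ : IsUnit (l : A) := by
        have hc : Nat.Coprime l p := (Nat.coprime_primes hl hp.out).mpr hlp
        obtain ⟨a, b, hab⟩ := Nat.isCoprime_iff_coprime.mpr hc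
        refine IsUnit.of_mul_eq_one (a : A) ?_
        have h := congrArg (Int.cast : ℤ → A) hab
        push_cast at h
        rwa [CharP.cast_eq_zero A p, mul_zero, add_zero, mul_comm] at h
      refine ⟨↑u⁻¹ * y, ⟨?_, by rw [← hu, Units.mul_inv_cancel_left]⟩, fun b hb => ?_⟩
      · rw [mul_pow, ← hxy, ← hu, ← mul_assoc, ← mul_pow, Units.inv_mul, one_pow, one_mul]
      · rw [hb.2, ← hu, Units.inv_mul_cancel_left]

theorem univHomeo_iff {A B A' B' : Type u} [CommRing A] [CommRing B] [CommRing A'] [CommRing B']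
    [CharP A p] [CharP B p] [CharP A' p] [CharP B' p] [PerfectRing A' p] [PerfectRing B' p]
    (φ : A →+* B) (i : A →+* A') (j : B →+* B') [IsPerfectClosure i p] [IsPerfectClosure j p]
    (φ' : A' →+* B') (hφ : φ'.comp i = j.comp φ) :
    FlatMor.IsUnivHomeo (Spec.map (CommRingCat.ofHom φ)) ↔ Function.Bijective φ' := by
  have hcomm : ∀ Q, PrimeSpectrum.comap i (PrimeSpectrum.comap φ' Q) = PrimeSpectrum.comap φ (PrimeSpectrum.comap j Q) :=
    fun Q => by rw [← PrimeSpectrum.comap_comp_apply, ← PrimeSpectrum.comap_comp_apply, hφ]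
  constructor
  · intro h
    obtain ⟨hi, hs, hu⟩ := (EtaLib.isUnivHomeo_Spec_iff φ).mp h
    haveI := isReduced_perfect p B'
    refine AWN.bijective_of_awn (isAWN_perfect p A') φ' ((EtaLib.isUnivHomeo_Spec_iff φ').mpr
      ⟨(S14256.integral_iff p φ i j φ' hφ).mp hi, fun P => ?_, fun K _ g g' e => ?_⟩)
    · obtain ⟨Q, hQ⟩ := hs (PrimeSpectrum.comap i P)
      obtain ⟨Q', rfl⟩ := (comap_bijective p j).2 Q
      exact ⟨Q', (comap_bijective p i).1 (by rw [hcomm, hQ])⟩
    · exact field_hom_ext p j K g g' (hu K _ _ (by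
        rw [RingHom.comp_assoc, RingHom.comp_assoc, ← hφ, ← RingHom.comp_assoc, ← RingHom.comp_assoc, e]))
  · intro h
    refine (EtaLib.isUnivHomeo_Spec_iff φ).mpr
      ⟨(S14256.integral_iff p φ i j φ' hφ).mpr (RingHom.IsIntegral.of_finite (RingHom.Finite.of_surjective _ h.2)), ?_, ?_⟩
    · intro P
      obtain ⟨P', rfl⟩ := (comap_bijective p i).2 P
      obtain ⟨Q, rfl⟩ : ∃ Q, PrimeSpectrum.comap φ' Q = P' :=
        ⟨PrimeSpectrum.comap (RingEquiv.ofBijective φ' h).symm.toRingHom P', by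
          rw [← PrimeSpectrum.comap_comp_apply,
            show (RingEquiv.ofBijective φ' h).symm.toRingHom.comp φ' = RingHom.id A' from
              RingHom.ext fun x => (RingEquiv.ofBijective φ' h).symm_apply_apply x]
          rfl⟩
      exact ⟨PrimeSpectrum.comap j Q, (hcomm Q).symm⟩
    · intro K _ g g' e
      let c := algebraMap K (AlgebraicClosure K)
      have hj := (EtaLib.isUnivHomeo_Spec_iff j).mp (isUnivHomeo_perfectClosure p j)
      obtain ⟨f, hf⟩ := EtaLib.exists_field_extend j hj.1 hj.2.1 (c.comp g)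
      obtain ⟨f', hf'⟩ := EtaLib.exists_field_extend j hj.1 hj.2.1 (c.comp g')
      have h1 : f.comp φ' = f'.comp φ' := field_hom_ext p i _ _ _ (by
        rw [RingHom.comp_assoc, RingHom.comp_assoc, hφ, ← RingHom.comp_assoc, ← RingHom.comp_assoc, hf, hf',
          RingHom.comp_assoc, RingHom.comp_assoc, e])
      have h2 : f = f' := RingHom.ext fun x => by
        obtain ⟨y, rfl⟩ := h.2 x
        exact RingHom.congr_fun h1 y
      refine RingHom.ext fun x => c.injective ?_
      rw [← RingHom.comp_apply, ← RingHom.comp_apply, ← hf, ← hf', h2]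

theorem flat_perfect {A B A' B' : Type u} [CommRing A] [CommRing B] [CommRing A'] [CommRing B']
    [CharP A p] [CharP B p] [CharP A' p] [CharP B' p] [PerfectRing A' p] [PerfectRing B' p]
    (φ : A →+* B) (hflat : φ.Flat) (i : A →+* A') (j : B →+* B') [hi : IsPerfectClosure i p] [hj : IsPerfectClosure j p]
    (φ' : A' →+* B') (hφ : φ'.comp i = j.comp φ) : φ'.Flat := by
  classical
  letI := φ.toAlgebra
  letI := i.toAlgebra
  letI := φ'.toAlgebra
  letI := j.toAlgebra
  letI : Algebra A B' := (j.comp φ).toAlgebra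
  haveI : IsScalarTower A B B' := IsScalarTower.of_algebraMap_eq fun _ => rfl
  haveI : IsScalarTower A A' B' := IsScalarTower.of_algebraMap_eq fun a => (RingHom.congr_fun hφ a).symm
  haveI : Module.Flat A B := hflat
  haveI : Module.Flat A' (A' ⊗[A] B) := inferInstance
  let f : A' ⊗[A] B →ₐ[A'] B' :=
    Algebra.TensorProduct.lift (Algebra.ofId A' B') (IsScalarTower.toAlgHom A B B') (fun _ _ => Commute.all _ _)
  have hfB : ∀ b : B, f ((1 : A') ⊗ₜ[A] b) = j b := fun b => by
    show f ((1 : A') ⊗ₜ[A] b) = _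
    rw [Algebra.TensorProduct.lift_tmul, map_one, one_mul]; rfl
  have hpT : (p : A' ⊗[A] B) = 0 := by
    rw [← map_natCast (algebraMap A' (A' ⊗[A] B)), CharP.cast_eq_zero, map_zero]
  have hpow : ∀ z : A' ⊗[A] B, ∃ n b, z ^ p ^ n = (1 : A') ⊗ₜ[A] b := by
    intro z
    induction z using TensorProduct.induction_on with
    | zero => exact ⟨0, 0, by simp⟩
    | tmul a b =>
      obtain ⟨n, x, hx⟩ := IsPRadical.pow_mem i p a
      refine ⟨n, x • b ^ p ^ n, ?_⟩
      rw [Algebra.TensorProduct.tmul_pow, ← hx, TensorProduct.tmul_smul, TensorProduct.smul_tmul',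
        ← Algebra.algebraMap_eq_smul_one]
      rfl
    | add u v hu hv =>
      obtain ⟨n, b, hb⟩ := hu
      obtain ⟨m, c, hc⟩ := hv
      refine ⟨n + m, b ^ p ^ m + c ^ p ^ n, ?_⟩
      rw [S14257.pow_add_char p hpT, pow_add, pow_mul, hb, mul_comm (p ^ n), pow_mul, hc,
        Algebra.TensorProduct.tmul_pow, Algebra.TensorProduct.tmul_pow, one_pow, one_pow, TensorProduct.tmul_add]
  have hker : ∀ z, f z = 0 → ∃ m, z ^ p ^ m = 0 := by
    intro z hz
    obtain ⟨n, b, hb⟩ := hpow z
    have h0 : j b = 0 := by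
      rw [← hfB, ← hb, map_pow, hz, zero_pow (pow_ne_zero _ hp.out.ne_zero)]
    obtain ⟨m, hm⟩ := mem_pNilradical.mp (IsPRadical.ker_le j p h0)
    exact ⟨n + m, by rw [pow_add, pow_mul, hb, Algebra.TensorProduct.tmul_pow, hm, TensorProduct.tmul_zero]⟩
  show Module.Flat A' B'
  rw [Module.Flat.iff_forall_isTrivialRelation]
  intro l a x hax
  choose n y hy using fun s => IsPRadical.pow_mem j p (x s)
  let N := Finset.univ.sup n
  have hy' : ∀ s, x s ^ p ^ N = f ((1 : A') ⊗ₜ[A] (y s ^ p ^ (N - n s))) := fun s => by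
    rw [hfB, map_pow, hy, ← pow_mul, ← pow_add, Nat.add_sub_cancel' (Finset.le_sup (Finset.mem_univ s))]
  have hpB : (p : B') = 0 := CharP.cast_eq_zero B' p
  have hsum : ∀ {T : Type u} [CommRing T] (_ : (p : T) = 0) (M : ℕ) (g : Fin l → T),
      (∑ s, g s) ^ p ^ M = ∑ s, g s ^ p ^ M := by
    intro T _ hT M g
    induction (Finset.univ : Finset (Fin l)) using Finset.induction_on with
    | empty => simp [hp.out.ne_zero]
    | insert c t hc ih => rw [Finset.sum_insert hc, Finset.sum_insert hc, S14257.pow_add_char p hT, ih]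
  let z : A' ⊗[A] B := ∑ s, (a s ^ p ^ N) • ((1 : A') ⊗ₜ[A] (y s ^ p ^ (N - n s)))
  have hz : f z = 0 := by
    rw [map_sum, Finset.sum_congr rfl fun s _ => show f ((a s ^ p ^ N) • ((1 : A') ⊗ₜ[A] (y s ^ p ^ (N - n s)))) =
        (algebraMap A' B' (a s) * x s) ^ p ^ N by rw [map_smul, Algebra.smul_def, map_pow, ← hy', mul_pow]]
    rw [← hsum hpB N, show ∑ s, algebraMap A' B' (a s) * x s = 0 by simpa only [Algebra.smul_def] using hax,
      zero_pow (pow_ne_zero _ hp.out.ne_zero)]
  obtain ⟨M, hM⟩ := hker z hz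
  have hrel : ∑ s, a s ^ p ^ (N + M) • ((1 : A') ⊗ₜ[A] (y s ^ p ^ (N - n s))) ^ p ^ M = 0 := by
    rw [← hM, hsum hpT M]
    exact Finset.sum_congr rfl fun s _ => by rw [smul_pow, ← pow_mul, ← pow_add]
  obtain ⟨κ, c, w, hcw, hc0⟩ := Module.Flat.isTrivialRelation_of_sum_smul_eq_zero hrel
  choose c' hc' using fun s t => (bijective_iterateFrobenius A' p (n := N + M)).surjective (c s t)
  choose w' hw' using fun t => (bijective_iterateFrobenius B' p (n := N + M)).surjective (f (w t))
  simp only [iterateFrobenius_def] at hc' hw'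
  refine ⟨κ, c', w', fun s => (bijective_iterateFrobenius B' p (n := N + M)).injective ?_, fun t => ?_⟩
  · simp only [map_sum, iterateFrobenius_def, smul_pow, hc', hw']
    have h := hcw s
    simp only [] at h
    rw [pow_add, pow_mul, hy', ← map_pow, h, map_sum]
    simp only [map_smul]
  · refine (bijective_iterateFrobenius A' p (n := N + M)).injective ?_
    simp only [map_sum, map_zero, iterateFrobenius_def, mul_pow, hc']
    exact hc0 t

end Groth.Agent.CAlgH.PerfUH
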