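import Mathlib
import Groth.Agent.DimTheory.Algebra
import Groth.Agent.MultHopf.Dense

/-! Uniform bounds on the number of points of finitely generated rings over finite fields. -/

open scoped TensorProduct

namespace Groth.Agent.CAlgH.PointCount

universe u v

variable {A : Type u} [CommRing A]

theorem count {ι σ : Type*} [Fintype ι] [Fintype σ] (x : σ → A) (a : ι → A)
    (hgen : Algebra.adjoin ℤ (Set.range a) = ⊤) (M : ι → ℤ) (P : ι → Polynomial (MvPolynomial σ ℤ))
    (hlead : ∀ i, (P i).leadingCoeff = MvPolynomial.C (M i))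
    (hP : ∀ i, Polynomial.eval₂ (MvPolynomial.aeval x).toRingHom (a i) (P i) = 0)
    (F : Type v) [Field F] [Finite F] (hM : ∀ i, (M i : F) ≠ 0) :
    Finite (A →+* F) ∧ Nat.card (A →+* F) ≤ (∏ i, (P i).natDegree) * Nat.card F ^ Fintype.card σ := by
  classical
  haveI := Fintype.ofFinite F
  let Q : (σ → F) → ι → Polynomial F := fun v i => (P i).map (MvPolynomial.eval₂Hom (Int.castRingHom F) v)
  let S : Finset (ι → F) := Finset.univ.biUnion fun v => Fintype.piFinset fun i => (Q v i).roots.toFinset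
  have hmem : ∀ φ : A →+* F, φ ∘ a ∈ S := by
    intro φ
    refine Finset.mem_biUnion.mpr ⟨φ ∘ x, Finset.mem_univ _, Fintype.mem_piFinset.mpr fun i => ?_⟩
    have hne : Q (φ ∘ x) i ≠ 0 := fun h => hM i (by
      have h1 := congrArg (fun q => q.coeff (P i).natDegree) h
      simpa [Q, Polynomial.coeff_natDegree, hlead] using h1)
    rw [Multiset.mem_toFinset, Polynomial.mem_roots hne]
    have hcomp : φ.comp (MvPolynomial.aeval x).toRingHom = MvPolynomial.eval₂Hom (Int.castRingHom F) (φ ∘ x) :=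
      MvPolynomial.ringHom_ext (fun r => by simp) (fun j => by simp)
    show Polynomial.eval (φ (a i)) (Q (φ ∘ x) i) = 0
    rw [Polynomial.eval_map, ← hcomp, ← Polynomial.hom_eval₂, hP, map_zero]
  have hinj : Function.Injective (fun φ : A →+* F => (⟨φ ∘ a, hmem φ⟩ : S)) := by
    intro φ ψ h
    have h' := congrArg Subtype.val h
    refine RingHom.ext fun z => ?_
    have hle : Algebra.adjoin ℤ (Set.range a) ≤ AlgHom.equalizer φ.toIntAlgHom ψ.toIntAlgHom :=
      Algebra.adjoin_le (by rintro _ ⟨i, rfl⟩; exact congrFun h' i)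
    exact hle (by rw [hgen]; trivial)
  have hfin : Finite (A →+* F) := Finite.of_injective _ hinj
  refine ⟨hfin, (Nat.card_le_card_of_injective _ hinj).trans ?_⟩
  rw [Nat.card_eq_fintype_card (α := S), Fintype.card_coe]
  refine Finset.card_biUnion_le.trans ?_
  refine (Finset.sum_le_sum (g := fun _ => ∏ i, (P i).natDegree) fun v _ => ?_).trans (le_of_eq ?_)
  · rw [Fintype.card_piFinset]
    exact Finset.prod_le_prod' fun i _ => (Multiset.toFinset_card_le _).trans
      ((Polynomial.card_roots' _).trans Polynomial.natDegree_map_le)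
  · rw [Finset.sum_const, Finset.card_univ, Fintype.card_fun, smul_eq_mul, mul_comm, Nat.card_eq_fintype_card]

theorem exists_gens [Algebra.FiniteType ℤ A] :
    ∃ (n : ℕ) (a : Fin n → A), Algebra.adjoin ℤ (Set.range a) = ⊤ := by
  obtain ⟨s, hs⟩ := ‹Algebra.FiniteType ℤ A›.out
  refine ⟨s.card, fun i => (s.equivFin.symm i : A), ?_⟩
  rw [show Set.range (fun i => (s.equivFin.symm i : A)) = (s : Set A) by
    rw [← Function.comp_def, Set.range_comp, Equiv.range_eq_univ, Set.image_univ, Subtype.range_coe]]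
  exact hs

theorem clear_denom_mv {σ : Type*} (q : MvPolynomial σ ℚ) :
    ∃ (m : ℤ) (P : MvPolynomial σ ℤ), m ≠ 0 ∧ MvPolynomial.map (Int.castRingHom ℚ) P = MvPolynomial.C (m : ℚ) * q := by
  induction q using MvPolynomial.induction_on with
  | C r => exact ⟨r.den, MvPolynomial.C r.num, by exact_mod_cast r.den_ne_zero, by
      rw [MvPolynomial.map_C, ← MvPolynomial.C_mul, Int.cast_natCast, mul_comm, Rat.mul_den_eq_num]; rfl⟩
  | add p q hp hq =>
    obtain ⟨m, P, hm, hP⟩ := hp
    obtain ⟨m', P', hm', hP'⟩ := hq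
    refine ⟨m * m', MvPolynomial.C m' * P + MvPolynomial.C m * P', mul_ne_zero hm hm', ?_⟩
    rw [map_add, map_mul, map_mul, hP, hP', MvPolynomial.map_C, MvPolynomial.map_C, Int.cast_mul, MvPolynomial.C_mul]
    simp only [eq_intCast]; ring
  | mul_X p i hp =>
    obtain ⟨m, P, hm, hP⟩ := hp
    exact ⟨m, P * MvPolynomial.X i, hm, by rw [map_mul, hP, MvPolynomial.map_X, mul_assoc]⟩

theorem clear_denom {σ : Type*} (q : Polynomial (MvPolynomial σ ℚ)) :
    ∃ (m : ℤ) (P : Polynomial (MvPolynomial σ ℤ)), m ≠ 0 ∧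
      P.map (MvPolynomial.map (Int.castRingHom ℚ)) = Polynomial.C (MvPolynomial.C (m : ℚ)) * q := by
  induction q using Polynomial.induction_on' with
  | add p q hp hq =>
    obtain ⟨m, P, hm, hP⟩ := hp
    obtain ⟨m', P', hm', hP'⟩ := hq
    refine ⟨m * m', Polynomial.C (MvPolynomial.C m') * P + Polynomial.C (MvPolynomial.C m) * P', mul_ne_zero hm hm', ?_⟩
    simp only [Polynomial.map_add, Polynomial.map_mul, hP, hP', Polynomial.map_C, MvPolynomial.map_C,
      Int.cast_mul, MvPolynomial.C_mul, Int.coe_castRingHom, map_mul]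
    ring
  | monomial n c =>
    obtain ⟨m, P, hm, hP⟩ := clear_denom_mv c
    exact ⟨m, Polynomial.monomial n P, hm, by rw [Polynomial.map_monomial, hP, Polynomial.C_mul_monomial]⟩

/-- Characteristic zero part: for almost all primes one saves a factor `q`. -/
theorem count_generic [Algebra.FiniteType ℤ A] (r : ℕ) (hr : ringKrullDim A ≤ r) :
    ∃ (M : ℤ) (c : ℕ), M ≠ 0 ∧ ∀ (F : Type v) [Field F] [Finite F], (M : F) ≠ 0 →
      Finite (A →+* F) ∧ Nat.card (A →+* F) * Nat.card F ≤ c * Nat.card F ^ r := by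
  classical
  let j : A →ₐ[ℤ] ℚ ⊗[ℤ] A := Algebra.TensorProduct.includeRight
  haveI hloc : IsLocalizedModule (nonZeroDivisors ℤ) (TensorProduct.mk ℤ ℚ A 1) :=
    (isLocalizedModule_iff_isBaseChange (nonZeroDivisors ℤ) ℚ _).mpr (TensorProduct.isBaseChange ℤ A ℚ)
  have hker : ∀ a : A, j a = 0 → ∃ m : ℤ, m ≠ 0 ∧ (m : A) * a = 0 := fun a ha => by
    obtain ⟨m, hm⟩ := (IsLocalizedModule.eq_zero_iff (nonZeroDivisors ℤ) (TensorProduct.mk ℤ ℚ A 1)).mp ha
    exact ⟨m, nonZeroDivisors.coe_ne_zero m, by rw [← zsmul_eq_mul]; exact hm⟩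
  have hsurj : ∀ z : ℚ ⊗[ℤ] A, ∃ (m : ℤ) (a : A), m ≠ 0 ∧ (m : ℚ ⊗[ℤ] A) * z = j a := fun z => by
    obtain ⟨⟨a, m⟩, hz⟩ := IsLocalizedModule.surj (nonZeroDivisors ℤ) (TensorProduct.mk ℤ ℚ A 1) z
    exact ⟨m, a, nonZeroDivisors.coe_ne_zero m, by rw [← zsmul_eq_mul]; exact hz⟩
  have hunit : ∀ m : ℤ, m ≠ 0 → IsUnit (m : ℚ ⊗[ℤ] A) := fun m hm => by
    have := (isUnit_iff_ne_zero.mpr (show ((m : ℚ)) ≠ 0 by exact_mod_cast hm)).map (algebraMap ℚ (ℚ ⊗[ℤ] A))
    simpa using this
  rcases subsingleton_or_nontrivial (ℚ ⊗[ℤ] A) with h | h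
  · obtain ⟨m, hm, hm1⟩ := hker 1 (Subsingleton.elim _ _)
    refine ⟨m, 0, hm, fun F _ _ hF => ?_⟩
    have hE : IsEmpty (A →+* F) := ⟨fun φ => hF (by
      have := congrArg φ hm1
      simpa using this)⟩
    exact ⟨inferInstance, by simp⟩
  obtain ⟨s, g, -, hgfin, hdim⟩ := DimTheory.exists_normalization ℚ (ℚ ⊗[ℤ] A)
  have hsr : s + 1 ≤ r := by
    obtain ⟨l, hl⟩ := Order.le_krullDim_iff.mp (le_of_eq hdim.symm : ((s : ℕ) : WithBot ℕ∞) ≤ Order.krullDim (PrimeSpectrum (ℚ ⊗[ℤ] A)))
    have hmono : StrictMono (PrimeSpectrum.comap j.toRingHom) := by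
      intro P Q hPQ
      refine lt_of_le_of_ne (Ideal.comap_mono hPQ.le) fun he => hPQ.ne (PrimeSpectrum.ext (le_antisymm hPQ.le ?_))
      intro z hz
      obtain ⟨m, a, hm, ha⟩ := hsurj z
      have h2 : a ∈ (PrimeSpectrum.comap j.toRingHom Q).asIdeal := by
        show j a ∈ Q.asIdeal
        rw [← ha]; exact Q.asIdeal.mul_mem_left _ hz
      rw [← he] at h2
      have h3 : j a ∈ P.asIdeal := h2
      rw [← ha] at h3
      exact (P.2.mem_or_mem h3).resolve_left fun h4 => P.2.ne_top (Ideal.eq_top_of_isUnit_mem _ h4 (hunit m hm))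
    let l' := l.map _ hmono
    obtain ⟨Mx, hMx, hle⟩ := Ideal.exists_le_maximal _ l'.last.2.ne_top
    have hlt : l'.last < ⟨Mx, hMx.isPrime⟩ := by
      refine lt_of_le_of_ne hle fun he => ?_
      have hMint : ∀ m : ℤ, m ≠ 0 → (m : A) ∉ Mx := fun m hm hmem => by
        rw [← show l'.last.asIdeal = Mx from congrArg PrimeSpectrum.asIdeal he] at hmem
        simp only [l', LTSeries.last_map] at hmem
        have : (m : ℚ ⊗[ℤ] A) ∈ l.last.asIdeal := by
          have h5 : j (m : A) ∈ l.last.asIdeal := hmem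
          simpa using h5
        exact l.last.2.ne_top (Ideal.eq_top_of_isUnit_mem _ this (hunit m hm))
      letI := Ideal.Quotient.field Mx
      haveI : Algebra.FiniteType ℤ (A ⧸ Mx) :=
        (inferInstance : Algebra.FiniteType ℤ A).trans inferInstance
      haveI := MultHopf.isJacobsonRing_int
      haveI := finite_of_finite_type_of_isJacobsonRing ℤ (A ⧸ Mx)
      have hinj : Function.Injective (algebraMap ℤ (A ⧸ Mx)) := by
        rw [injective_iff_map_eq_zero]
        intro m hm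
        by_contra hm0
        refine hMint m hm0 (Ideal.Quotient.eq_zero_iff_mem.mp ?_)
        simpa using hm
      exact Int.not_isField (isField_of_isIntegral_of_isField (S := A ⧸ Mx) hinj (Field.toIsField _))
    have h6 := Order.LTSeries.length_le_krullDim (l'.snoc ⟨Mx, hMx.isPrime⟩ hlt)
    have h7 : (((l'.snoc ⟨Mx, hMx.isPrime⟩ hlt).length : ℕ) : WithBot ℕ∞) ≤ r := h6.trans hr
    simp only [RelSeries.snoc_length, l', LTSeries.map_length, hl] at h7
    exact_mod_cast h7
  choose mX xX hmX hxX using fun i => hsurj (g (MvPolynomial.X i))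
  let g' : MvPolynomial (Fin s) ℚ →ₐ[ℚ] ℚ ⊗[ℤ] A := MvPolynomial.aeval fun i => j (xX i)
  let σ : MvPolynomial (Fin s) ℚ →ₐ[ℚ] MvPolynomial (Fin s) ℚ :=
    MvPolynomial.aeval fun i => MvPolynomial.C ((mX i : ℚ)⁻¹) * MvPolynomial.X i
  have hgσ : g = g'.comp σ := MvPolynomial.algHom_ext fun i => by
    simp only [AlgHom.comp_apply, σ, MvPolynomial.aeval_X, map_mul, g', MvPolynomial.aeval_C]
    rw [← hxX, ← mul_assoc, ← map_intCast (algebraMap ℚ (ℚ ⊗[ℤ] A)) (mX i), ← map_mul,
      inv_mul_cancel₀ (by exact_mod_cast hmX i), map_one, one_mul]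
  have hint : g'.toRingHom.IsIntegral := by
    have h1 : g.toRingHom.IsIntegral := RingHom.Finite.to_isIntegral hgfin
    rw [hgσ] at h1
    exact RingHom.IsIntegral.tower_top _ _ h1
  obtain ⟨n, a, ha⟩ := exists_gens (A := A)
  choose Pq hPqm hPq using fun i => hint (j (a i))
  choose m P hm hP using fun i => clear_denom (Pq i)
  have hcomp : g'.toRingHom.comp (MvPolynomial.map (Int.castRingHom ℚ)) =
      j.toRingHom.comp (MvPolynomial.aeval xX).toRingHom :=
    MvPolynomial.ringHom_ext (fun r => by simp) (fun i => by simp [g'])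
  have h0 : ∀ i, j (Polynomial.eval₂ (MvPolynomial.aeval xX).toRingHom (a i) (P i)) = 0 := fun i => by
    show j.toRingHom _ = 0
    rw [Polynomial.hom_eval₂, ← hcomp, ← Polynomial.eval₂_map, hP, Polynomial.eval₂_mul]
    exact mul_eq_zero_of_right _ (hPq i)
  choose m' hm' hkill using fun i => hker _ (h0 i)
  refine ⟨∏ i, m' i * m i, ∏ i, (P i).natDegree, Finset.prod_ne_zero_iff.mpr fun i _ => mul_ne_zero (hm' i) (hm i),
    fun F _ _ hF => ?_⟩
  have hlead : ∀ i, (Polynomial.C (MvPolynomial.C (m' i) : MvPolynomial (Fin s) ℤ) * P i).leadingCoeff =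
      MvPolynomial.C (m' i * m i) := fun i => by
    rw [Polynomial.leadingCoeff_mul, Polynomial.leadingCoeff_C, MvPolynomial.C_mul]
    congr 1
    apply MvPolynomial.map_injective (Int.castRingHom ℚ) Int.cast_injective
    rw [← Polynomial.leadingCoeff_map_of_injective (MvPolynomial.map_injective _ Int.cast_injective), hP,
      Polynomial.leadingCoeff_mul, Polynomial.leadingCoeff_C, (hPqm i).leadingCoeff, mul_one, MvPolynomial.map_C]
    rfl
  obtain ⟨h1, h2⟩ := count xX a ha (fun i => m' i * m i) (fun i => Polynomial.C (MvPolynomial.C (m' i)) * P i) hlead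
    (fun i => by
      rw [Polynomial.eval₂_mul, Polynomial.eval₂_C]
      simpa using hkill i) F
    (fun i h => hF (by rw [Int.cast_prod]; exact Finset.prod_eq_zero (Finset.mem_univ i) h))
  refine ⟨h1, (Nat.mul_le_mul_right _ h2).trans ?_⟩
  rw [Fintype.card_fin, mul_assoc, ← pow_succ]
  refine Nat.mul_le_mul (Finset.prod_le_prod' fun i _ => ?_) (Nat.pow_le_pow_right Nat.card_pos hsr)
  exact Polynomial.natDegree_C_mul_le _ _

/-- A fixed characteristic. -/
theorem count_char [Algebra.FiniteType ℤ A] (r : ℕ) (hr : ringKrullDim A ≤ r) (p : ℕ) [Fact p.Prime] :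
    ∃ c : ℕ, ∀ (F : Type v) [Field F] [Finite F], (p : F) = 0 →
      Finite (A →+* F) ∧ Nat.card (A →+* F) ≤ c * Nat.card F ^ r := by
  classical
  let B := A ⧸ Ideal.span {(p : A)}
  have hfac : ∀ (F : Type v) [Field F], (p : F) = 0 →
      Function.Bijective (fun φ : B →+* F => φ.comp (Ideal.Quotient.mk _)) := fun F _ hF =>
    ⟨fun φ ψ h => Ideal.Quotient.ringHom_ext h,
      fun φ => ⟨Ideal.Quotient.lift _ φ (fun z hz => by
        obtain ⟨w, rfl⟩ := Ideal.mem_span_singleton.mp hz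
        rw [map_mul, map_natCast, hF, zero_mul]), RingHom.ext fun z => rfl⟩⟩
  rcases subsingleton_or_nontrivial B with h | h
  · refine ⟨0, fun F _ _ hF => ?_⟩
    have hE : IsEmpty (A →+* F) := ⟨fun φ => by
      obtain ⟨ψ, -⟩ := (hfac F hF).2 φ
      exact one_ne_zero (by rw [← map_one ψ, Subsingleton.elim (1 : B) 0, map_zero])⟩
    exact ⟨inferInstance, by simp⟩
  haveI : CharP B p := by
    refine CharP.quotient A p fun hu => ?_
    exact not_subsingleton B (Ideal.Quotient.subsingleton_iff.mpr (Ideal.span_singleton_eq_top.mpr hu))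
  letI : Algebra (ZMod p) B := ZMod.algebra B p
  haveI : Algebra.FiniteType ℤ B := (inferInstance : Algebra.FiniteType ℤ A).trans inferInstance
  haveI : Algebra.FiniteType (ZMod p) B := Algebra.FiniteType.of_restrictScalars_finiteType ℤ (ZMod p) B
  obtain ⟨s, g, -, hgfin, hdim⟩ := DimTheory.exists_normalization (ZMod p) B
  have hsr : s ≤ r := by
    have := (ringKrullDim_quotient_le (Ideal.span {(p : A)})).trans hr
    rw [hdim] at this; exact_mod_cast this
  obtain ⟨n, a, ha⟩ := @exists_gens B _ ‹_›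
  choose Pq hPqm hPq using fun i => RingHom.Finite.to_isIntegral hgfin (a i)
  let π : MvPolynomial (Fin s) ℤ →+* MvPolynomial (Fin s) (ZMod p) := MvPolynomial.map (Int.castRingHom _)
  have hπ : Function.Surjective π := MvPolynomial.map_surjective _ (ZMod.ringHom_surjective _)
  have hlift : ∀ i, ∃ P : Polynomial (MvPolynomial (Fin s) ℤ), P.map π = Pq i ∧ P.Monic := fun i => by
    obtain ⟨P, h1, -, h3⟩ := Polynomial.lifts_and_natDegree_eq_and_monic
      (f := π) ((Polynomial.mem_lifts (f := π) (Pq i)).mpr (Polynomial.map_surjective π hπ (Pq i))) (hPqm i)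
    exact ⟨P, h1, h3⟩
  choose P hP hPm using hlift
  refine ⟨∏ i, (P i).natDegree, fun F _ _ hF => ?_⟩
  have hcomp : (MvPolynomial.aeval fun i => g (MvPolynomial.X i)).toRingHom = g.toRingHom.comp π :=
    MvPolynomial.ringHom_ext (fun r => by simp [π]) (fun i => by simp [π])
  obtain ⟨h1, h2⟩ := count (fun i => g (MvPolynomial.X i)) a ha (fun _ => 1) P
    (fun i => by rw [(hPm i).leadingCoeff, MvPolynomial.C_1])
    (fun i => (congrArg (fun f => Polynomial.eval₂ f (a i) (P i)) hcomp).trans (by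
      rw [← Polynomial.eval₂_map, hP]; exact hPq i)) F (fun i => by simp)
  have e := Equiv.ofBijective _ (hfac F hF)
  refine ⟨Finite.of_equiv _ e, ?_⟩
  rw [← Nat.card_congr e]
  rw [Fintype.card_fin] at h2
  exact h2.trans (Nat.mul_le_mul_left _ (Nat.pow_le_pow_right Nat.card_pos hsr))

end Groth.Agent.CAlgH.PointCount
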