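import Mathlib

/-! Tensor products with projective modules are detected by functionals. -/

open TensorProduct

namespace Groth.Agent.CAlgH.ProjTensor

universe u v w

variable {R : Type u} [CommRing R] {M : Type v} [AddCommGroup M] [Module R M]
  {N : Type w} [AddCommGroup N] [Module R N]

/-- Evaluate a functional on the left factor. -/
noncomputable def ev (φ : M →ₗ[R] R) : M ⊗[R] N →ₗ[R] N :=
  (TensorProduct.lid R N).toLinearMap ∘ₗ φ.rTensor N

@[simp] theorem ev_tmul (φ : M →ₗ[R] R) (m : M) (x : N) : ev φ (m ⊗ₜ[R] x) = φ m • x := by simp [ev]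

theorem ev_natural {N' : Type*} [AddCommGroup N'] [Module R N'] (φ : M →ₗ[R] R) (f : N →ₗ[R] N') (t : M ⊗[R] N) :
    ev φ (f.lTensor M t) = f (ev φ t) := by
  induction t using TensorProduct.induction_on with
  | zero => simp
  | tmul m x => simp
  | add a b ha hb => simp [ha, hb]

theorem eq_zero_of_ev [Module.Projective R M] (t : M ⊗[R] N) (h : ∀ φ : M →ₗ[R] R, ev φ t = 0) : t = 0 := by
  classical
  obtain ⟨s, hs⟩ := Module.projective_def'.mp (inferInstance : Module.Projective R M)
  have hcoord : ∀ a (z : M ⊗[R] N),
      TensorProduct.finsuppScalarLeft R N M (s.rTensor N z) a = ev (Finsupp.lapply a ∘ₗ s) z := by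
    intro a z
    induction z using TensorProduct.induction_on with
    | zero => simp
    | tmul m x => simp
    | add u v hu hv => simp [hu, hv]
  have h0 : s.rTensor N t = 0 := (TensorProduct.finsuppScalarLeft R N M).injective (by
    refine Finsupp.ext fun a => ?_
    rw [hcoord a, h, map_zero, Finsupp.zero_apply])
  have := congrArg ((Finsupp.linearCombination R _root_.id).rTensor N) h0
  rwa [map_zero, ← LinearMap.comp_apply, ← LinearMap.rTensor_comp, hs, LinearMap.rTensor_id, LinearMap.id_apply] at this

end Groth.Agent.CAlgH.ProjTensor
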