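import Mathlib

/-! Tame and wild inertia at a maximal ideal of a Dedekind domain with a finite group action. -/

open scoped Pointwise

namespace Groth.Agent.CAlgH.RamGroups

universe u v w

section Dedekind

variable {B : Type v} [CommRing B] [IsDomain B] [IsDedekindDomain B] {m : Ideal B} [hm : m.IsMaximal]

theorem exists_uniformizer (hm0 : m ≠ ⊥) : ∃ π ∈ m, π ∉ m ^ 2 := by
  have h : m ^ 2 < m := Ideal.pow_lt_self m hm0 hm.ne_top 2 le_rfl
  exact SetLike.exists_of_lt h

variable {π : B} (hπ : π ∈ m) (hπ2 : π ∉ m ^ 2)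
include hπ hπ2

theorem eq_sup : m = Ideal.span {π} ⊔ m ^ 2 := by
  have hm0 : m ≠ ⊥ := fun h => hπ2 (by
    have h0 : π = 0 := by simpa [h] using hπ
    rw [h0]; exact Ideal.zero_mem _)
  have h := Ideal.eq_prime_pow_of_succ_lt_of_le hm0 (i := 1) (I := Ideal.span {π} ⊔ m ^ 2)
    (lt_of_le_of_ne le_sup_right fun h => hπ2 (h ▸ Ideal.mem_sup_left (Ideal.mem_span_singleton_self π)))
    (sup_le (by rwa [pow_one, Ideal.span_singleton_le_iff_mem]) (Ideal.pow_le_pow_right (by omega)))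
  rw [pow_one] at h
  exact h.symm

theorem pow_le_sup (n : ℕ) : m ^ n ≤ Ideal.span {π ^ n} ⊔ m ^ (n + 1) := by
  induction n with
  | zero => simp
  | succ n ih =>
    calc m ^ (n + 1) = m ^ n * m := pow_succ _ _
      _ ≤ (Ideal.span {π ^ n} ⊔ m ^ (n + 1)) * m := Ideal.mul_mono_left ih
      _ ≤ _ := by
        rw [Ideal.sup_mul]
        refine sup_le ?_ (le_sup_right.trans' (by rw [← pow_succ]))
        calc Ideal.span {π ^ n} * m = Ideal.span {π ^ n} * (Ideal.span {π} ⊔ m ^ 2) := by rw [← eq_sup hπ hπ2]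
          _ ≤ _ := by
            rw [Ideal.mul_sup, Ideal.span_singleton_mul_span_singleton, ← pow_succ]
            refine sup_le_sup_left ?_ _
            rw [show n + 1 + 1 = n + 2 from rfl, pow_add]
            exact Ideal.mul_mono_left (by
              rw [Ideal.span_singleton_le_iff_mem]; exact Ideal.pow_mem_pow hπ n)

theorem exists_approx {n : ℕ} {x : B} (hx : x ∈ m ^ n) : ∃ b, x - b * π ^ n ∈ m ^ (n + 1) := by
  obtain ⟨_, hy, z, hz, rfl⟩ := Submodule.mem_sup.mp (pow_le_sup hπ hπ2 n hx)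
  obtain ⟨b, rfl⟩ := Ideal.mem_span_singleton'.mp hy
  exact ⟨b, by rwa [add_sub_cancel_left]⟩

theorem pow_not_mem (n : ℕ) : π ^ n ∉ m ^ (n + 1) := by
  intro h
  have hm0 : m ≠ ⊥ := fun h => hπ2 (by
    have h0 : π = 0 := by simpa [h] using hπ
    rw [h0]; exact Ideal.zero_mem _)
  have h1 : m ^ n ≤ m ^ (n + 1) :=
    (pow_le_sup hπ hπ2 n).trans (sup_le ((Ideal.span_singleton_le_iff_mem _).mpr h) le_rfl)
  exact (Ideal.pow_right_strictAnti m hm0 hm.ne_top (Nat.lt_succ_self n)).not_ge h1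

theorem mem_of_mul_pow_mem {n : ℕ} {c : B} (h : c * π ^ n ∈ m ^ (n + 1)) : c ∈ m :=
  (Ideal.IsPrime.mul_mem_pow m h).resolve_right (pow_not_mem hπ hπ2 n)

end Dedekind

section action

variable {B : Type v} [CommRing B] [IsDomain B] [IsDedekindDomain B] {m : Ideal B} [hm : m.IsMaximal]
  {G : Type w} [Group G] [MulSemiringAction G B]
  {π : B} (hπ : π ∈ m) (hπ2 : π ∉ m ^ 2)

theorem smul_mem_pow {σ : G} (hσ : σ ∈ m.inertia G) {n : ℕ} {x : B} (hx : x ∈ m ^ n) : σ • x ∈ m ^ n := by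
  have h := Ideal.inertia_le_stabilizer (M := G) m hσ
  rw [MulAction.mem_stabilizer_iff] at h
  have := Ideal.smul_mem_pointwise_smul σ x (m ^ n) hx
  rwa [smul_pow', h] at this

include hπ hπ2

theorem smul_sub_mem_of_pi {σ : G} (hσ : σ ∈ m.inertia G) (h1 : σ • π - π ∈ m ^ 2) {x : B} (hx : x ∈ m) :
    σ • x - x ∈ m ^ 2 := by
  obtain ⟨b, hb⟩ := exists_approx hπ hπ2 (n := 1) (by rwa [pow_one])
  rw [pow_one] at hb
  have h2 : (σ • b - b) * π ∈ m ^ 2 := by rw [pow_two]; exact Ideal.mul_mem_mul (hσ b) hπ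
  have h3 : σ • x - x = (σ • (x - b * π) - (x - b * π)) + (σ • b - b) * π + σ • b * (σ • π - π) := by
    rw [smul_sub, smul_mul']; ring
  rw [h3]
  exact add_mem (add_mem (sub_mem (smul_mem_pow hσ hb) hb) h2) (Ideal.mul_mem_left _ _ h1)

theorem exists_theta {σ : G} (hσ : σ ∈ m.inertia G) : ∃ c, σ • π - c * π ∈ m ^ 2 := by
  obtain ⟨c, hc⟩ := exists_approx hπ hπ2 (n := 1) (smul_mem_pow hσ (by rwa [pow_one]))
  exact ⟨c, by rwa [pow_one] at hc⟩

omit hπ in
theorem theta_unique (hπ : π ∈ m) {x c c' : B} (h : x - c * π ∈ m ^ 2) (h' : x - c' * π ∈ m ^ 2) :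
    Ideal.Quotient.mk m c = Ideal.Quotient.mk m c' := by
  rw [Ideal.Quotient.eq]
  refine mem_of_mul_pow_mem hπ hπ2 (n := 1) ?_
  have := sub_mem h' h
  rw [pow_one]
  convert this using 1
  ring

theorem exists_thetaHom : ∃ θ : ↥(m.inertia G) →* (B ⧸ m)ˣ,
    (∀ σ, θ σ = 1 ↔ (σ : G) • π - π ∈ m ^ 2) ∧
    ∀ (e : ℕ) (t : B), (∀ σ : G, σ • t = t) → t ∈ m ^ e → t ∉ m ^ (e + 1) → ∀ σ, θ σ ^ e = 1 := by
  choose c hc using fun σ : ↥(m.inertia G) => exists_theta hπ hπ2 σ.2
  have huniq : ∀ (σ : ↥(m.inertia G)) c', (σ : G) • π - c' * π ∈ m ^ 2 →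
      Ideal.Quotient.mk m (c σ) = Ideal.Quotient.mk m c' := fun σ c' h => theta_unique hπ2 hπ (hc σ) h
  let f : ↥(m.inertia G) →* B ⧸ m :=
    { toFun := fun σ => Ideal.Quotient.mk m (c σ)
      map_one' := by rw [huniq 1 1 (by simp), map_one]
      map_mul' := fun σ τ => by
        rw [← map_mul]
        refine huniq _ _ ?_
        have h1 := smul_mem_pow σ.2 (hc τ)
        have h2 : ((σ : G) • c τ - c τ) * π ∈ m ^ 2 := by rw [pow_two]; exact Ideal.mul_mem_mul (σ.2 _) hπ
        have h3 : ((σ * τ : ↥(m.inertia G)) : G) • π - c σ * c τ * π =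
            (σ : G) • ((τ : G) • π - c τ * π) + ((σ : G) • c τ) * ((σ : G) • π - c σ * π) +
              c σ * (((σ : G) • c τ - c τ) * π) := by
          rw [Subgroup.coe_mul, mul_smul, smul_sub, smul_mul']; ring
        rw [h3]
        exact add_mem (add_mem h1 (Ideal.mul_mem_left _ _ (hc σ))) (Ideal.mul_mem_left _ _ h2) }
  refine ⟨f.toHomUnits, fun σ => ?_, fun e t ht hte hte1 σ => ?_⟩
  · rw [Units.ext_iff, MonoidHom.coe_toHomUnits, Units.val_one]
    refine ⟨fun h => ?_, fun h => (huniq σ 1 (by rwa [one_mul])).trans (map_one _)⟩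
    have h1 : c σ - 1 ∈ m := by
      rw [← Ideal.Quotient.eq]; exact h.trans (map_one _).symm
    have h3 : (σ : G) • π - π = ((σ : G) • π - c σ * π) + (c σ - 1) * π := by ring
    rw [h3]
    exact add_mem (hc σ) (by rw [pow_two]; exact Ideal.mul_mem_mul h1 hπ)
  · rw [Units.ext_iff, Units.val_pow_eq_pow_val, MonoidHom.coe_toHomUnits, Units.val_one]
    obtain ⟨u, hu⟩ := exists_approx hπ hπ2 hte
    have hu0 : u ∉ m := fun h => hte1 (by
      have h' : u * π ^ e ∈ m ^ (e + 1) := by rw [pow_succ']; exact Ideal.mul_mem_mul h (Ideal.pow_mem_pow hπ e)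
      simpa using add_mem hu h')
    have hσπ : ∀ j : ℕ, ((σ : G) • π) ^ j - c σ ^ j * π ^ j ∈ m ^ (j + 1) := by
      intro j
      induction j with
      | zero => simp
      | succ j ih =>
        have h3 : ((σ : G) • π) ^ (j + 1) - c σ ^ (j + 1) * π ^ (j + 1) =
            (((σ : G) • π) ^ j - c σ ^ j * π ^ j) * ((σ : G) • π) + c σ ^ j * (π ^ j * ((σ : G) • π - c σ * π)) := by
          ring
        rw [h3]
        refine add_mem ?_ (Ideal.mul_mem_left _ _ ?_)
        · rw [pow_succ m (j + 1)]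
          exact Ideal.mul_mem_mul ih (by simpa using smul_mem_pow σ.2 (n := 1) (by rwa [pow_one]))
        · rw [show j + 1 + 1 = j + 2 from rfl, pow_add]
          exact Ideal.mul_mem_mul (Ideal.pow_mem_pow hπ j) (hc σ)
    have hkey : (u * c σ ^ e - u) * π ^ e ∈ m ^ (e + 1) := by
      have h1 : (σ : G) • (t - u * π ^ e) ∈ m ^ (e + 1) := smul_mem_pow σ.2 hu
      have h2 : ((σ : G) • u - u) * π ^ e ∈ m ^ (e + 1) := by
        rw [pow_succ']; exact Ideal.mul_mem_mul (σ.2 u) (Ideal.pow_mem_pow hπ e)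
      have h3 : (u * c σ ^ e - u) * π ^ e = (t - u * π ^ e) - (σ : G) • (t - u * π ^ e) -
          ((σ : G) • u) * (((σ : G) • π) ^ e - c σ ^ e * π ^ e) - c σ ^ e * (((σ : G) • u - u) * π ^ e) := by
        rw [smul_sub, ht, smul_mul', smul_pow']; ring
      rw [h3]
      exact sub_mem (sub_mem (sub_mem hu h1) (Ideal.mul_mem_left _ _ (hσπ e))) (Ideal.mul_mem_left _ _ h2)
    have h4 := mem_of_mul_pow_mem hπ hπ2 hkey
    rw [← mul_sub_one] at h4
    have h5 := (hm.isPrime.mem_or_mem h4).resolve_left hu0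
    rw [← Ideal.Quotient.eq_zero_iff_mem, map_sub, map_pow, map_one, sub_eq_zero] at h5
    exact h5

theorem mem_inertia_sq {A : Type u} [CommRing A] [Algebra A B] [SMulCommClass G A B]
    [(m.comap (algebraMap A B)).IsMaximal]
    [Algebra.IsSeparable (A ⧸ m.comap (algebraMap A B)) (B ⧸ m)]
    [Module.Finite (A ⧸ m.comap (algebraMap A B)) (B ⧸ m)]
    {σ : G} (hσ : σ ∈ m.inertia G) (h1 : σ • π - π ∈ m ^ 2) : σ ∈ (m ^ 2).inertia G := by
  letI := Ideal.Quotient.field (m.comap (algebraMap A B))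
  letI := Ideal.Quotient.field m
  obtain ⟨α, hα⟩ := Field.exists_primitive_element (A ⧸ m.comap (algebraMap A B)) (B ⧸ m)
  have hαalg : IsIntegral (A ⧸ m.comap (algebraMap A B)) α := IsIntegral.of_finite (A ⧸ m.comap (algebraMap A B)) α
  have hadj : Algebra.adjoin (A ⧸ m.comap (algebraMap A B)) {α} = ⊤ := by
    rw [← IntermediateField.adjoin_simple_toSubalgebra_of_isAlgebraic hαalg.isAlgebraic, hα,
      IntermediateField.top_toSubalgebra]
  obtain ⟨a, ha⟩ := Ideal.Quotient.mk_surjective α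
  obtain ⟨g, hg, -, hgm⟩ := Polynomial.lifts_and_natDegree_eq_and_monic
    (f := Ideal.Quotient.mk (m.comap (algebraMap A B))) (p := minpoly (A ⧸ m.comap (algebraMap A B)) α)
    (Polynomial.map_surjective _ Ideal.Quotient.mk_surjective _) (minpoly.monic hαalg)
  have hmap : ∀ q : Polynomial A, Ideal.Quotient.mk m (Polynomial.aeval a q) =
      Polynomial.aeval α (q.map (Ideal.Quotient.mk (m.comap (algebraMap A B)))) := fun q => by
    rw [Polynomial.aeval_def, Polynomial.hom_eval₂, ha, Polynomial.aeval_def, Polynomial.eval₂_map]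
    rfl
  have hga : Polynomial.aeval a g ∈ m := by
    rw [← Ideal.Quotient.eq_zero_iff_mem, hmap, hg, minpoly.aeval]
  have hgd : Polynomial.aeval a (Polynomial.derivative g) ∉ m := by
    rw [← Ideal.Quotient.eq_zero_iff_mem, hmap, ← Polynomial.derivative_map, hg]
    exact (Algebra.IsSeparable.isSeparable (A ⧸ m.comap (algebraMap A B)) α).aeval_derivative_ne_zero (minpoly.aeval _ _)
  have hsm : ∀ q : Polynomial A, σ • Polynomial.aeval a q = Polynomial.aeval (σ • a) q := fun q => by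
    have := Polynomial.aeval_algHom_apply (MulSemiringAction.toAlgHom A B σ) a q
    exact this.symm
  have hδ : σ • a - a ∈ m ^ 2 := by
    have h2 := smul_sub_mem_of_pi hπ hπ2 hσ h1 hga
    rw [hsm] at h2
    obtain ⟨k0, hk0⟩ := Polynomial.binomExpansion (g.map (algebraMap A B)) a (σ • a - a)
    rw [add_sub_cancel] at hk0
    simp only [Polynomial.eval_map, Polynomial.derivative_map, ← Polynomial.aeval_def] at hk0
    rw [hk0, add_assoc, add_sub_cancel_left] at h2
    have h3 : k0 * (σ • a - a) ^ 2 ∈ m ^ 2 := Ideal.mul_mem_left _ _ (Ideal.pow_mem_pow (hσ a) 2)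
    have h4 := (Ideal.add_mem_iff_left _ h3).mp h2
    exact (Ideal.IsPrime.mul_mem_pow m h4).resolve_left hgd
  intro x
  obtain ⟨q, hq⟩ : ∃ q : Polynomial A, Ideal.Quotient.mk m (Polynomial.aeval a q) = Ideal.Quotient.mk m x := by
    have : Ideal.Quotient.mk m x ∈ Algebra.adjoin (A ⧸ m.comap (algebraMap A B)) {α} := hadj ▸ Algebra.mem_top
    rw [Algebra.adjoin_singleton_eq_range_aeval] at this
    obtain ⟨q, hq⟩ := this
    obtain ⟨q, rfl⟩ := Polynomial.map_surjective _ Ideal.Quotient.mk_surjective q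
    exact ⟨q, (hmap q).trans hq⟩
  rw [Ideal.Quotient.eq] at hq
  have h4 := smul_sub_mem_of_pi hπ hπ2 hσ h1 hq
  obtain ⟨d, hd⟩ := Polynomial.sub_dvd_eval_sub (σ • a) a (q.map (algebraMap A B))
  simp only [Polynomial.eval_map, ← Polynomial.aeval_def] at hd
  have h5 : σ • Polynomial.aeval a q - Polynomial.aeval a q ∈ m ^ 2 := by
    rw [hsm, hd]; exact Ideal.mul_mem_right _ _ hδ
  have h6 : σ • x - x = (σ • Polynomial.aeval a q - Polynomial.aeval a q) -
      (σ • (Polynomial.aeval a q - x) - (Polynomial.aeval a q - x)) := by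
    rw [smul_sub]; ring
  show σ • x - x ∈ m ^ 2
  rw [h6]
  exact sub_mem h5 h4

theorem eq_one_of_pow_eq_one [FaithfulSMul G B] {σ : G} (hσ2 : σ ∈ (m ^ 2).inertia G) {q : ℕ}
    (hq : σ ^ q = 1) (hq0 : (q : B ⧸ m) ≠ 0) : σ = 1 := by
  have hσ : σ ∈ m.inertia G := fun x => Ideal.pow_le_self two_ne_zero (hσ2 x)
  have hm0 : m ≠ ⊥ := fun h => hπ2 (by
    have h0 : π = 0 := by simpa [h] using hπ
    rw [h0]; exact Ideal.zero_mem _)
  have hall : ∀ j, ∀ x, σ • x - x ∈ m ^ (j + 2) := by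
    intro j
    induction j with
    | zero => exact hσ2
    | succ j ih =>
      have hfix : ∀ y ∈ m ^ (j + 2), σ • y - y ∈ m ^ (j + 3) := by
        intro y hy
        obtain ⟨b, hb⟩ := exists_approx hπ hπ2 hy
        have h1 : (σ • b - b) * π ^ (j + 2) ∈ m ^ (j + 3) := by
          rw [pow_succ' m (j + 2)]; exact Ideal.mul_mem_mul (hσ b) (Ideal.pow_mem_pow hπ _)
        have h2 : (σ • π) ^ (j + 2) - π ^ (j + 2) ∈ m ^ (j + 3) := by
          rw [← geom_sum₂_mul, mul_comm, show j + 3 = 2 + (j + 1) by omega, pow_add]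
          refine Ideal.mul_mem_mul (hσ2 π) (Ideal.sum_mem _ fun i hi => ?_)
          have hi' := Finset.mem_range.mp hi
          rw [show j + 1 = i + (j + 2 - 1 - i) by omega, pow_add]
          exact Ideal.mul_mem_mul (Ideal.pow_mem_pow (by simpa using smul_mem_pow hσ (n := 1) (by rwa [pow_one])) _)
            (by rw [show j + 2 - 1 - i = j + 2 - 1 - i from rfl]; exact Ideal.pow_mem_pow hπ _)
        have h3 : σ • y - y = (σ • (y - b * π ^ (j + 2)) - (y - b * π ^ (j + 2))) +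
            (σ • b - b) * π ^ (j + 2) + σ • b * ((σ • π) ^ (j + 2) - π ^ (j + 2)) := by
          rw [smul_sub, smul_mul', smul_pow']; ring
        rw [h3]
        exact add_mem (add_mem (sub_mem (smul_mem_pow hσ hb) hb) h1) (Ideal.mul_mem_left _ _ h2)
      intro x
      have hi : ∀ i : ℕ, σ ^ i • x - x - (i : B) * (σ • x - x) ∈ m ^ (j + 3) := by
        intro i
        induction i with
        | zero => simp
        | succ i hi' =>
          have h3 : σ ^ (i + 1) • x - x - ((i + 1 : ℕ) : B) * (σ • x - x) =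
              σ • (σ ^ i • x - x - (i : B) * (σ • x - x)) + (i : B) * (σ • (σ • x - x) - (σ • x - x)) := by
            rw [pow_succ', mul_smul, smul_sub σ _ ((i : B) * _), smul_sub σ (σ ^ i • x) x, smul_mul']
            rw [show σ • (i : B) = i from map_natCast (MulSemiringAction.toRingHom G B σ) i]
            push_cast
            ring
          rw [h3]
          exact add_mem (smul_mem_pow hσ hi') (Ideal.mul_mem_left _ _ (hfix _ (ih x)))
      have h4 := hi q
      rw [hq, one_smul, sub_self, zero_sub, neg_mem_iff] at h4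
      exact (Ideal.IsPrime.mul_mem_pow m h4).resolve_left fun h =>
        hq0 (by rw [← map_natCast (Ideal.Quotient.mk m)]; exact Ideal.Quotient.eq_zero_iff_mem.mpr h)
  refine FaithfulSMul.eq_of_smul_eq_smul (α := B) fun x => ?_
  have h0 : σ • x - x ∈ ⨅ n : ℕ, m ^ n := by
    rw [Submodule.mem_iInf]
    exact fun n => Ideal.pow_le_pow_right (by omega) (hall n x)
  rw [Ideal.iInf_pow_eq_bot_of_isDomain m hm.ne_top, Ideal.mem_bot, sub_eq_zero] at h0
  rw [h0, one_smul]

end action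

end Groth.Agent.CAlgH.RamGroups
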