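import Mathlib

/-!
Tame actions on local rings.
-/

namespace Groth.Agent.CAlgH.TameAction

open IsLocalRing

variable {A : Type*} [CommRing A] [IsLocalRing A] [IsNoetherianRing A]

omit [IsNoetherianRing A] in
theorem map_mem_maximalIdeal (σ : A →+* A) (hσ : Function.Bijective σ) {a : A}
    (ha : a ∈ maximalIdeal A) : σ a ∈ maximalIdeal A := by
  rw [mem_maximalIdeal, mem_nonunits_iff] at ha ⊢
  intro h
  apply ha
  have := h.map (RingEquiv.ofBijective σ hσ).symm
  rwa [show (RingEquiv.ofBijective σ hσ).symm (σ a) = a from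
    (RingEquiv.ofBijective σ hσ).symm_apply_apply a] at this

/-- An automorphism of order prime to the residue characteristic which is trivial on the residue
field and on the cotangent space is trivial. -/
theorem apply_eq_self (σ : A →+* A) (n : ℕ) (hn : IsUnit (n : A)) (hord : ∀ a, σ^[n] a = a)
    (h0 : ∀ a, σ a - a ∈ maximalIdeal A)
    (h1 : ∀ a ∈ maximalIdeal A, σ a - a ∈ maximalIdeal A ^ 2) (a : A) : σ a = a := by
  have hM : ∀ k, ∀ x ∈ maximalIdeal A ^ k, σ x - x ∈ maximalIdeal A ^ (k + 1) := by
    intro k
    induction k with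
    | zero => intro x _; simpa using h0 x
    | succ k ih =>
      intro x hx
      rw [pow_succ] at hx
      induction hx using Submodule.mul_induction_on' with
      | mem_mul_mem u hu v hv =>
        have h2 : σ (u * v) - u * v = (σ u - u) * σ v + u * (σ v - v) := by rw [map_mul]; ring
        rw [h2]
        refine add_mem ?_ ?_
        · have hσv : σ v ∈ maximalIdeal A := by
            have := add_mem (Ideal.pow_le_self two_ne_zero (h1 v hv)) hv
            simpa using this
          rw [pow_succ]
          exact Ideal.mul_mem_mul (ih u hu) hσv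
        · rw [show k + 1 + 1 = k + 2 from rfl, pow_add]
          exact Ideal.mul_mem_mul hu (h1 v hv)
      | add u _ v _ hu hv =>
        have h2 : σ (u + v) - (u + v) = (σ u - u) + (σ v - v) := by rw [map_add]; ring
        rw [h2]
        exact add_mem hu hv
  have key : ∀ k, ∀ x, σ x - x ∈ maximalIdeal A ^ (k + 1) := by
    intro k
    induction k with
    | zero => intro x; simpa using h0 x
    | succ k ih =>
      intro x
      have hi : ∀ i : ℕ, σ^[i] x - x - (i : A) * (σ x - x) ∈ maximalIdeal A ^ (k + 1 + 1) := by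
        intro i
        induction i with
        | zero => simp
        | succ i ihi =>
          have e : σ^[i + 1] x - x - ((i + 1 : ℕ) : A) * (σ x - x) =
              (σ (σ^[i] x - x - (i : A) * (σ x - x)) - (σ^[i] x - x - (i : A) * (σ x - x))) +
                (σ^[i] x - x - (i : A) * (σ x - x)) + (i : A) * (σ (σ x - x) - (σ x - x)) := by
            rw [Function.iterate_succ_apply']
            simp only [map_sub, map_mul, map_natCast, Nat.cast_add, Nat.cast_one]
            ring
          rw [e]
          refine add_mem (add_mem ?_ ihi) (Ideal.mul_mem_left _ _ (hM (k + 1) _ (ih x)))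
          exact Ideal.pow_le_pow_right (Nat.le_succ _) (hM (k + 1 + 1) _ ihi)
      have h := hi n
      rw [hord, sub_self, zero_sub] at h
      exact (Ideal.unit_mul_mem_iff_mem _ hn).1 (by simpa using neg_mem h)
  have : σ a - a ∈ (⨅ i : ℕ, maximalIdeal A ^ i • ⊤ : Submodule A A) := by
    rw [Submodule.mem_iInf]
    intro i
    rw [smul_eq_mul, Ideal.mul_top]
    exact Ideal.pow_le_pow_right (Nat.le_succ i) (key i a)
  rw [Ideal.iInf_pow_smul_eq_bot_of_isLocalRing _ (maximalIdeal.isMaximal A).ne_top] at this
  exact sub_eq_zero.1 ((Submodule.mem_bot A).1 this)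

/-- The ideal generated by the image of a suitable projector is generated by elements with
independent classes in the cotangent space. -/
theorem exists_generators {k : Type*} [Field k] [Algebra k A]
    (hres : Function.Surjective (algebraMap k (ResidueField A))) (L : A →ₗ[k] A)
    (hLL : ∀ a, L (L a) = L a) (hM : ∀ a, L a ∈ maximalIdeal A)
    (hmul : ∀ a ∈ maximalIdeal A, ∀ b ∈ maximalIdeal A,
      L (a * b) ∈ maximalIdeal A * Ideal.span (Set.range L)) :
    ∃ s : Finset (maximalIdeal A),
      Ideal.span ((↑) '' (s : Set (maximalIdeal A))) = Ideal.span (Set.range L) ∧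
      LinearIndepOn (ResidueField A) (maximalIdeal A).toCotangent (s : Set (maximalIdeal A)) := by
  classical
  set J := Ideal.span (Set.range L) with hJdef
  have hJM : J ≤ maximalIdeal A := Ideal.span_le.2 (by rintro _ ⟨a, rfl⟩; exact hM a)
  have hk : ∀ a : A, ∃ c : k, a - algebraMap k A c ∈ maximalIdeal A := by
    intro a
    obtain ⟨c, hc⟩ := hres (residue A a)
    refine ⟨c, ?_⟩
    rw [← residue_eq_zero_iff, map_sub, sub_eq_zero, ← hc]
    rfl
  have hinf : ∀ x ∈ J, x ∈ maximalIdeal A ^ 2 → x ∈ maximalIdeal A * J := by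
    have hrep : ∀ x ∈ J, ∃ m, x - L m ∈ maximalIdeal A * J := by
      intro x hx
      induction hx using Submodule.span_induction with
      | mem x hx => obtain ⟨a, rfl⟩ := hx; exact ⟨a, by simp⟩
      | zero => exact ⟨0, by simp⟩
      | add x y _ _ hx hy =>
        obtain ⟨m, hm⟩ := hx
        obtain ⟨m', hm'⟩ := hy
        exact ⟨m + m', by rw [map_add, add_sub_add_comm]; exact add_mem hm hm'⟩
      | smul a x hxJ hx =>
        obtain ⟨m, hm⟩ := hx
        obtain ⟨c, hc⟩ := hk a
        refine ⟨c • m, ?_⟩
        have e : a • x - L (c • m) = (a - algebraMap k A c) * x + algebraMap k A c * (x - L m) := by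
          rw [map_smul, smul_eq_mul, Algebra.smul_def]; ring
        rw [e]
        exact add_mem (Ideal.mul_mem_mul hc hxJ) (Ideal.mul_mem_left _ _ hm)
    have hsq : ∀ y ∈ maximalIdeal A ^ 2, L y ∈ maximalIdeal A * J := by
      intro y hy
      rw [pow_two] at hy
      induction hy using Submodule.mul_induction_on' with
      | mem_mul_mem u hu v hv => exact hmul u hu v hv
      | add u _ v _ hu hv => rw [map_add]; exact add_mem hu hv
    intro x hx hx2
    obtain ⟨m, hm⟩ := hrep x hx
    have h2 : L m ∈ maximalIdeal A ^ 2 := by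
      have := sub_mem hx2 ((Ideal.mul_mono_right hJM).trans (pow_two (maximalIdeal A)).ge hm)
      simpa using this
    have h3 := hsq _ h2
    rw [hLL] at h3
    simpa using add_mem hm h3
  obtain ⟨G, hGc, hGs⟩ := Submodule.FG.exists_span_finset_card_eq_spanFinrank (IsNoetherian.noetherian J)
  have hGJ : ∀ y ∈ G, y ∈ J := fun y hy => by rw [← hGs]; exact Submodule.subset_span hy
  let ι : {y // y ∈ G} → maximalIdeal A := fun y => ⟨y.1, hJM (hGJ y.1 y.2)⟩
  have hι : Function.Injective ι := fun a b h =>
    Subtype.ext (congrArg (fun z : maximalIdeal A => (z : A)) h)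
  refine ⟨G.attach.image ι, ?_, ?_⟩
  · have : ((↑) : maximalIdeal A → A) '' (G.attach.image ι : Set (maximalIdeal A)) = (G : Set A) := by
      rw [Finset.coe_image, ← Set.image_comp]
      ext x
      exact ⟨fun ⟨y, _, h⟩ => h ▸ y.2, fun hx => ⟨⟨x, hx⟩, Finset.mem_attach _ _, rfl⟩⟩
    rw [this]
    exact hGs
  · rw [linearIndepOn_finset_iff]
    intro f hf z hz
    obtain ⟨y₀, hy₀, rfl⟩ := Finset.mem_image.1 hz
    rw [Finset.sum_image hι.injOn] at hf
    by_contra hne
    choose c hc using fun y => Ideal.Quotient.mk_surjective (f (ι y))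
    have h2 : ∑ y ∈ G.attach, c y * y.1 ∈ maximalIdeal A ^ 2 := by
      have h3 : (maximalIdeal A).toCotangent
          (∑ y ∈ G.attach, c y • ι y) = 0 := by
        rw [map_sum, ← hf]
        refine Finset.sum_congr rfl fun y _ => ?_
        rw [map_smul, ← hc y]
        exact (IsScalarTower.algebraMap_smul (ResidueField A) (c y) _).symm
      have h4 := (Ideal.toCotangent_eq_zero _ _).1 h3
      simpa [ι] using h4
    have h5 : ∑ y ∈ G.attach, c y * y.1 ∈ maximalIdeal A * J :=
      hinf _ (Ideal.sum_mem _ fun y _ => Ideal.mul_mem_left _ _ (hGJ y.1 y.2)) h2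
    have hu : IsUnit (c y₀) := by
      by_contra hu
      exact hne (by rw [← hc y₀]; exact (residue_eq_zero_iff _).2 ((mem_maximalIdeal _).2 hu))
    let J' : Ideal A := Ideal.span ((G.erase y₀.1 : Finset A) : Set A)
    have hy : y₀.1 ∈ J' ⊔ maximalIdeal A * J := by
      refine (Ideal.unit_mul_mem_iff_mem _ hu).1 ?_
      have h6 := Finset.add_sum_erase G.attach (fun y => c y * y.1) hy₀
      rw [← eq_sub_iff_add_eq] at h6
      rw [h6]
      refine sub_mem (Ideal.mem_sup_right h5) (Ideal.mem_sup_left (Ideal.sum_mem _ fun y hy => ?_))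
      refine Ideal.mul_mem_left _ _ (Ideal.subset_span ?_)
      simp only [Finset.coe_erase, Set.mem_diff, Finset.mem_coe, Set.mem_singleton_iff]
      exact ⟨y.2, fun e => (Finset.mem_erase.1 hy).1 (Subtype.ext e)⟩
    have hJ' : J ≤ J' := by
      refine Submodule.le_of_le_smul_of_le_jacobson_bot (I := maximalIdeal A) (IsNoetherian.noetherian J)
        (jacobson_eq_maximalIdeal (⊥ : Ideal A) bot_ne_top).ge ?_
      conv_lhs => rw [← hGs]
      rw [Submodule.span_le]
      intro y hy'
      by_cases h : y = y₀.1
      · rw [h]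
        exact hy
      · exact Ideal.mem_sup_left (Ideal.subset_span (by simp [h, Finset.mem_coe.1 hy']))
    have hcard := Submodule.spanFinrank_span_le_ncard_of_finite (R := A) (G.erase y₀.1).finite_toSet
    have : J' = J := le_antisymm (Ideal.span_le.2 fun y hy' => hGJ y (Finset.mem_of_mem_erase hy')) hJ'
    rw [show Submodule.span A ((G.erase y₀.1 : Finset A) : Set A) = J from this, Set.ncard_coe_finset,
      Finset.card_erase_of_mem y₀.2] at hcard
    have : 0 < G.card := Finset.card_pos.2 ⟨_, y₀.2⟩
    omega

end Groth.Agent.CAlgH.TameAction
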