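import Mathlib
import Groth.Agent.CAlgH.FrobW2

/-! Descent of liftability to `W₂(k)` along faithfully flat maps, by the obstruction of relations. -/

open WittVector TensorProduct

namespace Groth.Agent.CAlgH.W2Descent

universe u

variable {p : ℕ} [hp : Fact p.Prime] {k : Type u} [Field k] [CharP k p] [PerfectRing k p]

theorem isNoetherianRing_W2 : IsNoetherianRing (FrobAlg.W2 p k) := by
  rw [isNoetherianRing_iff_ideal_fg]
  intro I
  by_cases hI : ∃ x ∈ I, x.coeff 0 ≠ 0
  · obtain ⟨x, hx, hx0⟩ := hI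
    rw [Ideal.eq_top_of_isUnit_mem I hx (FrobW2.isUnit_of_coeff0 hx0)]
    exact ⟨{1}, by simp⟩
  push_neg at hI
  by_cases hbot : I = ⊥
  · exact hbot ▸ Submodule.fg_bot
  obtain ⟨x, hx, hx0⟩ := (Submodule.ne_bot_iff I).mp hbot
  obtain ⟨z, rfl, -⟩ := FrobW2.exists_p_mul (hI x hx)
  have hz : z.coeff 0 ≠ 0 := fun h0 => hx0 (by rw [FrobW2.p_mul, h0, zero_pow hp.out.ne_zero, FrobW2.Vv_zero])
  refine ⟨{(p : FrobAlg.W2 p k)}, ?_⟩
  rw [Finset.coe_singleton]
  refine le_antisymm (Ideal.span_le.mpr (Set.singleton_subset_iff.mpr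
    ((Ideal.mul_unit_mem_iff_mem I (FrobW2.isUnit_of_coeff0 hz)).mp hx))) fun y hy => ?_
  obtain ⟨w, rfl, -⟩ := FrobW2.exists_p_mul (hI y hy)
  exact Ideal.mem_span_singleton.mpr ⟨w, rfl⟩

theorem exists_sol_of_baseChange {A B : Type u} [CommRing A] [CommRing B] [Algebra A B] [Module.FaithfullyFlat A B]
    {m l : ℕ} (M : Fin l → Fin m → A) (c : Fin l → A) (hB : Fin m → B)
    (h : ∀ j, algebraMap A B (c j) + ∑ i, algebraMap A B (M j i) * hB i = 0) :
    ∃ hA : Fin m → A, ∀ j, c j + ∑ i, M j i * hA i = 0 := by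
  classical
  let L : (Fin m → A) →ₗ[A] (Fin l → A) := LinearMap.pi fun j => ∑ i, M j i • LinearMap.proj i
  have hmem : c ∈ LinearMap.range L := by
    rw [← Submodule.Quotient.mk_eq_zero, ← Module.FaithfullyFlat.one_tmul_eq_zero_iff (A := B) (R := A)
      ((Fin l → A) ⧸ LinearMap.range L) (Submodule.Quotient.mk c)]
    have hc : c = ∑ j, c j • Pi.single j (1 : A) := by
      funext j; simp [Finset.sum_apply, Pi.single_apply]
    have hcol : ∀ i, ∑ j, M j i • (Submodule.Quotient.mk (Pi.single j (1 : A)) : (Fin l → A) ⧸ LinearMap.range L) = 0 := by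
      intro i
      have : (∑ j, M j i • Pi.single j (1 : A) : Fin l → A) = L (Pi.single i 1) := by
        funext j; simp [L, Finset.sum_apply, Pi.single_apply]
      have h2 := congrArg (Submodule.mkQ (LinearMap.range L)) this
      simp only [map_sum, map_smul, Submodule.mkQ_apply] at h2
      exact h2.trans ((Submodule.Quotient.mk_eq_zero _).mpr ⟨_, rfl⟩)
    let q : Fin l → (Fin l → A) ⧸ LinearMap.range L := fun j => Submodule.Quotient.mk (Pi.single j 1)
    calc (1 : B) ⊗ₜ[A] (Submodule.Quotient.mk c : (Fin l → A) ⧸ LinearMap.range L)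
        = ∑ j, algebraMap A B (c j) ⊗ₜ[A] q j := by
          conv_lhs => rw [hc, ← Submodule.mkQ_apply, map_sum, TensorProduct.tmul_sum]
          refine Finset.sum_congr rfl fun j _ => ?_
          rw [map_smul, ← TensorProduct.smul_tmul, ← Algebra.algebraMap_eq_smul_one]; rfl
      _ = ∑ j, ∑ i, (-(hB i)) ⊗ₜ[A] (M j i • q j) := by
          refine Finset.sum_congr rfl fun j _ => ?_
          rw [eq_neg_of_add_eq_zero_left (h j), ← Finset.sum_neg_distrib, TensorProduct.sum_tmul]
          refine Finset.sum_congr rfl fun i _ => ?_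
          rw [← TensorProduct.smul_tmul, smul_neg, Algebra.smul_def]
      _ = 0 := by
          rw [Finset.sum_comm]
          refine Finset.sum_eq_zero fun i _ => ?_
          rw [← TensorProduct.tmul_sum, hcol i, TensorProduct.tmul_zero]
  obtain ⟨x, hx⟩ := hmem
  refine ⟨-x, fun j => ?_⟩
  rw [← congrFun hx j]
  simp [L, Finset.sum_apply]

theorem descend (A B : Type u) [CommRing A] [CommRing B] [Algebra k A] [Algebra.EssFiniteType k A]
    [Algebra A B] [Module.FaithfullyFlat A B] [Algebra k B] [IsScalarTower k A B]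
    (hB : FrobAlg.IsW2Liftable p k B) : FrobAlg.IsW2Liftable p k A := by
  classical
  obtain ⟨B', _, ιB, πB, hLB⟩ := hB
  have := isNoetherianRing_W2 (p := p) (k := k)
  have : IsNoetherianRing A := Algebra.EssFiniteType.isNoetherianRing k A
  let s := Algebra.EssFiniteType.finset k A
  let W := MvPolynomial s (FrobAlg.W2 p k)
  let θ₀ : W →+* A := MvPolynomial.eval₂Hom ((algebraMap k A).comp (FrobAlg.res p k)) (fun i => (i.1 : A))
  let N := (IsUnit.submonoid A).comap θ₀
  let P := Localization N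
  let θ : P →+* A := IsLocalization.lift (M := N) (g := θ₀) (fun y => y.2)
  have hθ : ∀ w : W, θ (algebraMap W P w) = θ₀ w := fun w => IsLocalization.lift_eq _ w
  have hflat : Module.Flat (FrobAlg.W2 p k) P := by
    have : Module.Flat W P := IsLocalization.flat P N
    exact Module.Flat.trans (FrobAlg.W2 p k) W P
  have hPp := (FrobW2.flat_iff_alg P).mp hflat
  have hres : Function.Surjective (FrobAlg.res p k) := fun c =>
    ⟨TruncatedWittVector.mk p ![c, 0], by rw [FrobW2.res_eq, TruncatedWittVector.coeff_mk]; rfl⟩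
  have hsub : ∀ a ∈ Algebra.EssFiniteType.subalgebra k A, ∃ w, θ₀ w = a := by
    intro a ha
    induction ha using Algebra.adjoin_induction with
    | mem x hx => exact ⟨MvPolynomial.X ⟨x, hx⟩, MvPolynomial.eval₂Hom_X' _ _ _⟩
    | algebraMap c =>
      obtain ⟨w, rfl⟩ := hres c
      exact ⟨MvPolynomial.C w, MvPolynomial.eval₂Hom_C _ _ _⟩
    | add x y _ _ hx hy =>
      obtain ⟨⟨v, rfl⟩, ⟨w, rfl⟩⟩ := And.intro hx hy
      exact ⟨v + w, map_add _ _ _⟩
    | mul x y _ _ hx hy =>
      obtain ⟨⟨v, rfl⟩, ⟨w, rfl⟩⟩ := And.intro hx hy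
      exact ⟨v * w, map_mul _ _ _⟩
  have hθs : Function.Surjective θ := fun a => by
    obtain ⟨⟨x, y⟩, hxy⟩ := IsLocalization.surj (Algebra.EssFiniteType.submonoid k A) a
    obtain ⟨v, hv⟩ := hsub x.1 x.2
    obtain ⟨w, hw⟩ := hsub y.1.1 y.1.2
    have hwN : w ∈ N := by
      show IsUnit (θ₀ w)
      rw [hw]
      exact y.2
    refine ⟨IsLocalization.mk' P v (⟨w, hwN⟩ : N), ?_⟩
    rw [IsLocalization.lift_mk'_spec, hw, hv, mul_comm]
    exact hxy.symm
  have hθι : ∀ w, θ (algebraMap (FrobAlg.W2 p k) P w) = algebraMap k A (FrobAlg.res p k w) := fun w => by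
    rw [IsScalarTower.algebraMap_apply (FrobAlg.W2 p k) W P, hθ]
    simp [θ₀, W]
  have hθp : θ (p : P) = 0 := by
    rw [map_natCast, ← map_natCast (algebraMap k A), CharP.cast_eq_zero, map_zero]
  obtain ⟨m, f, hf⟩ := Submodule.fg_iff_exists_fin_generating_family.mp (IsNoetherian.noetherian (RingHom.ker θ))
  have hfθ : ∀ i, θ (f i) = 0 := fun i => RingHom.mem_ker.mp (hf ▸ Submodule.subset_span ⟨i, rfl⟩)
  -- relations of the generators modulo `p`
  let NA : Submodule A ((Fin m → A) × A) :=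
    { carrier := {n | ∃ (r : Fin m → P) (w : P), ∑ i, r i * f i = (p : P) * w ∧ n = (fun i => θ (r i), θ w)}
      zero_mem' := ⟨0, 0, by simp, by ext <;> simp⟩
      add_mem' := by
        rintro _ _ ⟨r, w, h, rfl⟩ ⟨r', w', h', rfl⟩
        exact ⟨r + r', w + w', by simp [add_mul, Finset.sum_add_distrib, h, h', mul_add], by ext <;> simp⟩
      smul_mem' := by
        rintro a _ ⟨r, w, h, rfl⟩
        obtain ⟨c, rfl⟩ := hθs a
        exact ⟨fun i => c * r i, c * w, by simp [mul_assoc, ← Finset.mul_sum, h, mul_left_comm], by ext <;> simp⟩ }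
  obtain ⟨l, g, hg⟩ := Submodule.fg_iff_exists_fin_generating_family.mp (IsNoetherian.noetherian NA)
  -- a solution over `B`
  have hN : ∀ y : N, IsUnit ((MvPolynomial.eval₂Hom ιB fun i : s =>
      (hLB.surj (algebraMap A B i.1)).choose) (y : W)) := by
    intro y
    let e : W →+* B' := MvPolynomial.eval₂Hom ιB fun i : s => (hLB.surj (algebraMap A B i.1)).choose
    have he : πB.comp e = (algebraMap A B).comp θ₀ := MvPolynomial.ringHom_ext
      (fun c => by
        have := RingHom.congr_fun hLB.comm c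
        simp only [RingHom.comp_apply] at this
        simp [e, θ₀, this, ← IsScalarTower.algebraMap_apply])
      (fun i => by simp [e, θ₀, (hLB.surj (algebraMap A B i.1)).choose_spec])
    show IsUnit (e y)
    have hu : IsUnit (πB (e y)) := by
      rw [show πB (e y) = algebraMap A B (θ₀ y) from RingHom.congr_fun he y]
      exact IsUnit.map _ y.2
    obtain ⟨v, hv⟩ := hLB.surj ↑hu.unit⁻¹
    obtain ⟨z, hz⟩ := (FrobW2.π_eq_zero_iff hLB (e y * v - 1)).mp (by
      rw [map_sub, map_mul, hv, map_one, IsUnit.mul_val_inv, sub_self])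
    have hnil : IsNilpotent (e y * v - 1) := ⟨2, by
      rw [hz, pow_two, show (p : B') * z * ((p : B') * z) = (p : B') * p * (z * z) by ring,
        FrobW2.natCast_mul_natCast hLB, zero_mul]⟩
    exact isUnit_of_mul_isUnit_left (by simpa using hnil.isUnit_add_one)
  let θB : P →+* B' := IsLocalization.lift hN
  have hθB : πB.comp θB = (algebraMap A B).comp θ := by
    refine IsLocalization.ringHom_ext N (MvPolynomial.ringHom_ext (fun c => ?_) fun i => ?_)
    · have := RingHom.congr_fun hLB.comm c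
      simp only [RingHom.comp_apply] at this ⊢
      simp only [θB, θ, IsLocalization.lift_eq]
      erw [MvPolynomial.eval₂Hom_C, MvPolynomial.eval₂Hom_C]
      rw [this]; exact IsScalarTower.algebraMap_apply k A B _
    · simp only [RingHom.comp_apply, θB, θ, IsLocalization.lift_eq]
      erw [MvPolynomial.eval₂Hom_X', MvPolynomial.eval₂Hom_X']
      exact (hLB.surj (algebraMap A B i.1)).choose_spec
  have hθB' : ∀ x, πB (θB x) = algebraMap A B (θ x) := fun x => RingHom.congr_fun hθB x
  have hfB : ∀ i, ∃ c, θB (f i) = (p : B') * c := fun i =>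
    (FrobW2.π_eq_zero_iff hLB _).mp (by rw [hθB', hfθ, map_zero])
  choose cB hcB using hfB
  have hsolB : ∀ n ∈ NA, algebraMap A B n.2 + ∑ i, algebraMap A B (n.1 i) * (-(πB (cB i))) = 0 := by
    rintro _ ⟨r, w, h, rfl⟩
    have h1 := congrArg θB h
    rw [map_sum, map_mul, map_natCast] at h1
    simp only [map_mul, hcB, mul_left_comm _ (p : B'), ← Finset.mul_sum] at h1
    have h2 := (FrobW2.p_mul_eq_zero_iff hLB _).mp (show (p : B') * (θB w - ∑ i, θB (r i) * cB i) = 0 by
      rw [mul_sub, h1, sub_self])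
    simp only [map_sub, map_sum, map_mul, hθB'] at h2
    simp only [mul_neg, Finset.sum_neg_distrib, ← sub_eq_add_neg]
    exact h2
  obtain ⟨hA, hhA⟩ := exists_sol_of_baseChange (B := B) (fun j i => (g j).1 i) (fun j => (g j).2)
    (fun i => -(πB (cB i))) (fun j => hsolB (g j) (hg ▸ Submodule.subset_span ⟨j, rfl⟩))
  have hsolA : ∀ n ∈ NA, n.2 + ∑ i, n.1 i * hA i = 0 := by
    intro n hn
    rw [← hg] at hn
    induction hn using Submodule.span_induction with
    | mem x hx => obtain ⟨j, rfl⟩ := hx; exact hhA j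
    | zero => simp
    | add x y _ _ hx hy =>
      simp only [Prod.snd_add, Prod.fst_add, Pi.add_apply, add_mul, Finset.sum_add_distrib]
      linear_combination hx + hy
    | smul a x _ hx =>
      simp only [Prod.smul_snd, Prod.smul_fst, Pi.smul_apply, smul_eq_mul, mul_assoc, ← Finset.mul_sum, ← mul_add, hx,
        mul_zero]
  choose h' hh' using fun i => hθs (hA i)
  let F : Fin m → P := fun i => f i + (p : P) * h' i
  let J : Ideal P := Ideal.span (Set.range F)
  have hker : ∀ x, θ x = 0 → ∃ y, x - (p : P) * y ∈ J := by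
    intro x hx
    have hx' : x ∈ Submodule.span P (Set.range f) := hf ▸ RingHom.mem_ker.mpr hx
    obtain ⟨r, rfl⟩ := (Submodule.mem_span_range_iff_exists_fun P).mp hx'
    refine ⟨-∑ i, r i * h' i, ?_⟩
    rw [show ∑ i, r i • f i - (p : P) * -∑ i, r i * h' i = ∑ i, r i * F i by
      have e : ∀ a S : P, a - (p : P) * -S = a + p * S := fun a S =>
        (congrArg (a - ·) (mul_neg _ _)).trans (sub_neg_eq_add _ _)
      refine (e _ _).trans ?_
      simp only [F, smul_eq_mul, mul_add, Finset.sum_add_distrib, Finset.mul_sum]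
      exact congrArg₂ (· + ·) rfl
        ((Finset.mul_sum _ _ (p : P)).trans (Finset.sum_congr rfl fun i _ => mul_left_comm (p : P) (r i) (h' i)))]
    exact Ideal.sum_mem _ fun i _ => Ideal.mul_mem_left _ _ (Ideal.subset_span ⟨i, rfl⟩)
  have hJ : ∀ a ∈ J, θ a = 0 := by
    intro a ha
    have : J ≤ RingHom.ker θ := Ideal.span_le.mpr (by
      rintro _ ⟨i, rfl⟩
      rw [SetLike.mem_coe, RingHom.mem_ker, map_add, map_mul, hfθ, hθp, zero_mul, add_zero])
    exact this ha
  refine ⟨P ⧸ J, inferInstance, (Ideal.Quotient.mk J).comp (algebraMap (FrobAlg.W2 p k) P),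
    Ideal.Quotient.lift J θ hJ, FrobW2.isLift_iff.mpr ⟨?_, ?_, ?_, ?_⟩⟩
  · intro b hb
    obtain ⟨x, rfl⟩ := Ideal.Quotient.mk_surjective b
    rw [← map_natCast (Ideal.Quotient.mk J), ← map_mul, Ideal.Quotient.eq_zero_iff_mem] at hb
    obtain ⟨r, hr⟩ := (Submodule.mem_span_range_iff_exists_fun P).mp hb
    have hrel : ∑ i, r i * f i = (p : P) * (x - ∑ i, r i * h' i) := by
      simp only [F, smul_eq_mul, mul_add, Finset.sum_add_distrib] at hr
      rw [mul_sub, ← hr, Finset.mul_sum]
      simp only [mul_left_comm (p : P)]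
      ring
    have h1 := hsolA (fun i => θ (r i), θ (x - ∑ i, r i * h' i)) ⟨r, _, hrel, rfl⟩
    simp only [map_sub, map_sum, map_mul, hh', sub_add_cancel] at h1
    obtain ⟨y, hy⟩ := hker x h1
    exact ⟨Ideal.Quotient.mk J y, by rw [← map_natCast (Ideal.Quotient.mk J), ← map_mul, Ideal.Quotient.eq]; exact hy⟩
  · intro a
    obtain ⟨x, hx⟩ := hθs a
    exact ⟨Ideal.Quotient.mk J x, hx⟩
  · refine le_antisymm ?_ (Ideal.span_le.mpr (Set.singleton_subset_iff.mpr ?_))
    · intro b hb
      obtain ⟨x, rfl⟩ := Ideal.Quotient.mk_surjective b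
      obtain ⟨y, hy⟩ := hker x hb
      rw [Ideal.mem_span_singleton]
      refine ⟨Ideal.Quotient.mk J y, ?_⟩
      refine (Ideal.Quotient.eq.mpr hy).trans ((map_mul (Ideal.Quotient.mk J) (p : P) y).trans ?_)
      exact congrArg (· * Ideal.Quotient.mk J y) (map_natCast (Ideal.Quotient.mk J) p)
    · rw [SetLike.mem_coe, RingHom.mem_ker, ← map_natCast (Ideal.Quotient.mk J)]
      exact hθp
  · exact RingHom.ext fun w => hθι w

end Groth.Agent.CAlgH.W2Descent
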