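import Mathlib

/-!
Adic completeness of Witt vectors over a `p`-adically complete ring.
-/

universe u

namespace Groth.Agent.CAlgH.WittAdic

open WittVector

variable {p : ℕ} [hp : Fact p.Prime] {R : Type u} [CommRing R]

local notation "𝕎" => WittVector p

theorem iterate_verschiebung_mul_natCast (c : ℕ) (n : ℕ) (x : 𝕎 R) :
    (verschiebung^[n]) ((c : 𝕎 R) * x) = (c : 𝕎 R) * (verschiebung^[n]) x := by
  induction n with
  | zero => rfl
  | succ n ih =>
    rw [Function.iterate_succ_apply', Function.iterate_succ_apply', ih, ← nsmul_eq_mul, map_nsmul, nsmul_eq_mul]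

/-- If `p ^ s = 0` in `R`, then `p ^ (m * s)` kills the first `m` coefficients. -/
theorem coeff_p_pow_mul {s : ℕ} (hs : (p : R) ^ s = 0) :
    ∀ (m : ℕ) (z : 𝕎 R), ∀ i < m, ((p : 𝕎 R) ^ (m * s) * z).coeff i = 0 := by
  intro m
  induction m with
  | zero => intro z i hi; omega
  | succ m ih =>
    intro z i hi
    let w := (p : 𝕎 R) ^ (m * s) * z
    have hw : w = (verschiebung^[m]) (w.shift m) := eq_iterate_verschiebung fun j hj => ih z j hj
    have hmul : (p : 𝕎 R) ^ ((m + 1) * s) * z = (verschiebung^[m]) (((p ^ s : ℕ) : 𝕎 R) * w.shift m) := by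
      rw [iterate_verschiebung_mul_natCast, ← hw, Nat.cast_pow, ← mul_assoc, ← pow_add]
      ring_nf
    rcases Nat.lt_succ_iff_lt_or_eq.mp hi with h | rfl
    · rw [show (m + 1) * s = m * s + s by ring, pow_add, mul_assoc]
      exact ih _ i h
    · rw [hmul]
      have := iterate_verschiebung_coeff (((p ^ s : ℕ) : 𝕎 R) * w.shift i) i 0
      rw [zero_add] at this
      rw [this, ← constantCoeff_apply, map_mul, map_natCast, Nat.cast_pow, hs, zero_mul]

/-- Truncation followed by reduction modulo `p ^ s`. -/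
noncomputable def proj (m s : ℕ) : 𝕎 R →+* TruncatedWittVector p m (R ⧸ Ideal.span {(p : R) ^ s}) :=
  (WittVector.truncate m).comp (WittVector.map (Ideal.Quotient.mk _))

theorem proj_eq_zero_iff {m s : ℕ} {x : 𝕎 R} :
    proj m s x = 0 ↔ ∀ i < m, x.coeff i ∈ Ideal.span {(p : R) ^ s} := by
  rw [proj, RingHom.comp_apply, ← RingHom.mem_ker, mem_ker_truncate]
  simp only [map_coeff, Ideal.Quotient.eq_zero_iff_mem]

theorem proj_eq_iff {m s : ℕ} {x y : 𝕎 R} :
    proj m s x = proj m s y ↔ ∀ i < m, x.coeff i - y.coeff i ∈ Ideal.span {(p : R) ^ s} := by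
  constructor
  · intro h i hi
    have := congrArg (fun t : TruncatedWittVector p m _ => t.coeff ⟨i, hi⟩) h
    simp only [proj, RingHom.comp_apply, WittVector.truncate, RingHom.coe_mk, MonoidHom.coe_mk, OneHom.coe_mk,
      coeff_truncateFun, map_coeff] at this
    exact Ideal.Quotient.eq.mp this
  · intro h
    ext i
    simp only [proj, RingHom.comp_apply, WittVector.truncate, RingHom.coe_mk, MonoidHom.coe_mk, OneHom.coe_mk,
      coeff_truncateFun, map_coeff]
    exact Ideal.Quotient.eq.mpr (h i i.2)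

theorem proj_p_pow {m s N : ℕ} (h : m * s ≤ N) : proj (R := R) (p := p) m s ((p : 𝕎 R) ^ N) = 0 := by
  obtain ⟨l, rfl⟩ := Nat.exists_eq_add_of_le h
  rw [pow_add, map_mul]
  refine mul_eq_zero_of_left ?_ _
  rw [proj, RingHom.comp_apply, map_pow, map_natCast, ← RingHom.mem_ker, mem_ker_truncate]
  intro i hi
  have hs : ((p : R ⧸ Ideal.span {(p : R) ^ s}) : R ⧸ _) ^ s = 0 := by
    rw [← map_natCast (Ideal.Quotient.mk _), ← map_pow, Ideal.Quotient.eq_zero_iff_mem]
    exact Ideal.mem_span_singleton_self _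
  simpa using coeff_p_pow_mul hs m 1 i hi

section Complete

variable [IsAdicComplete (Ideal.span {(p : R)}) R]

theorem eq_of_proj {x y : 𝕎 R} (h : ∀ m s, proj m s x = proj m s y) : x = y := by
  ext i
  rw [← sub_eq_zero]
  refine IsHausdorff.haus (inferInstance : IsHausdorff (Ideal.span {(p : R)}) R) _ fun s => ?_
  rw [SModEq.zero, smul_eq_mul, Ideal.mul_top, Ideal.span_singleton_pow]
  exact proj_eq_iff.mp (h (i + 1) s) i (Nat.lt_succ_self i)

/-- Tails of `p`-adic series of Witt vectors. -/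
theorem exists_tails (c : ℕ → 𝕎 R) : ∃ T : ℕ → 𝕎 R, ∀ n, T n = c n + (p : 𝕎 R) * T (n + 1) := by
  let S : ℕ → ℕ → 𝕎 R := fun n N => ∑ k ∈ Finset.range N, (p : 𝕎 R) ^ k * c (n + k)
  have hS : ∀ m s n N, m * s ≤ N → proj m s (S n N) = proj m s (S n (m * s)) := by
    intro m s n N h
    simp only [S]
    rw [← Finset.sum_range_add_sum_Ico _ h, map_add, map_sum (proj m s) _ (Finset.Ico _ _),
      Finset.sum_eq_zero (s := Finset.Ico _ _), add_zero]
    intro k hk
    rw [map_mul, proj_p_pow (Finset.mem_Ico.mp hk).1, zero_mul]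
  have hcauchy : ∀ n i, ∀ {a b : ℕ}, a ≤ b → (S n ((i + 1) * a)).coeff i ≡ (S n ((i + 1) * b)).coeff i
      [SMOD (Ideal.span {(p : R)} ^ a • ⊤ : Submodule R R)] := by
    intro n i a b hab
    rw [SModEq.sub_mem, smul_eq_mul, Ideal.mul_top, Ideal.span_singleton_pow]
    exact proj_eq_iff.mp (hS (i + 1) a n _ (Nat.mul_le_mul_left _ hab)).symm i (Nat.lt_succ_self i)
  choose L hL using fun n i => IsPrecomplete.prec (inferInstance : IsPrecomplete (Ideal.span {(p : R)}) R) (hcauchy n i)
  let T : ℕ → 𝕎 R := fun n => WittVector.mk p (L n)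
  have hT : ∀ m s n N, m * s ≤ N → proj m s (T n) = proj m s (S n N) := by
    intro m s n N h
    refine proj_eq_iff.mpr fun i hi => ?_
    have hle : (i + 1) * s ≤ N := le_trans (Nat.mul_le_mul_right _ hi) h
    have h1 := hL n i s
    rw [SModEq.sub_mem, smul_eq_mul, Ideal.mul_top, Ideal.span_singleton_pow] at h1
    have h2 := proj_eq_iff.mp (hS (i + 1) s n N hle) i (Nat.lt_succ_self i)
    have := neg_mem (add_mem h1 h2)
    convert this using 1
    simp [T]
  refine ⟨T, fun n => eq_of_proj fun m s => ?_⟩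
  rw [map_add, map_mul, hT m s n (m * s + 1) (Nat.le_succ _), hT m s (n + 1) (m * s) le_rfl]
  simp only [S]
  rw [Finset.sum_range_succ', map_add, pow_zero, one_mul, add_zero, map_sum, map_sum, Finset.mul_sum, add_comm]
  congr 1
  refine Finset.sum_congr rfl fun k _ => ?_
  rw [← map_mul, pow_succ', mul_assoc, show n + (k + 1) = n + 1 + k by ring]

theorem isHausdorff_span_p : IsHausdorff (Ideal.span {(p : 𝕎 R)}) (𝕎 R) := by
  refine ⟨fun x h => eq_of_proj fun m s => ?_⟩
  have := h (m * s)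
  rw [SModEq.zero, smul_eq_mul, Ideal.mul_top, Ideal.span_singleton_pow, Ideal.mem_span_singleton] at this
  obtain ⟨y, rfl⟩ := this
  rw [map_mul, proj_p_pow le_rfl, zero_mul, map_zero]

theorem isPrecomplete_span_p : IsPrecomplete (Ideal.span {(p : 𝕎 R)}) (𝕎 R) := by
  refine ⟨fun f hf => ?_⟩
  have : ∀ k, ∃ c, f (k + 1) = f k + (p : 𝕎 R) ^ k * c := by
    intro k
    have := (hf (Nat.le_succ k)).symm
    rw [SModEq.sub_mem, smul_eq_mul, Ideal.mul_top, Ideal.span_singleton_pow, Ideal.mem_span_singleton] at this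
    obtain ⟨c, hc⟩ := this
    exact ⟨c, by linear_combination hc⟩
  choose c hc using this
  obtain ⟨T, hT⟩ := exists_tails c
  refine ⟨f 0 + T 0, fun n => ?_⟩
  have key : f 0 + T 0 = f n + (p : 𝕎 R) ^ n * T n := by
    induction n with
    | zero => simp
    | succ n ih => rw [ih, hT n, hc n]; ring
  rw [SModEq.sub_mem, smul_eq_mul, Ideal.mul_top, Ideal.span_singleton_pow, Ideal.mem_span_singleton, key]
  exact ⟨-T n, by ring⟩

theorem isAdicComplete_span_p : IsAdicComplete (Ideal.span {(p : 𝕎 R)}) (𝕎 R) :=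
  { isHausdorff_span_p, isPrecomplete_span_p with }

end Complete

theorem mem_ker_constantCoeff_iff {x : 𝕎 R} :
    x ∈ RingHom.ker (constantCoeff : 𝕎 R →+* R) ↔ ∃ y, verschiebung y = x := by
  constructor
  · intro h
    refine ⟨x.shift 1, ?_⟩
    have := eq_iterate_verschiebung (x := x) (n := 1) (fun i hi => by
      obtain rfl : i = 0 := by omega
      exact h)
    exact this.symm
  · rintro ⟨y, rfl⟩
    exact verschiebung_coeff_zero y

theorem verschiebung_mul_verschiebung (a b : 𝕎 R) :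
    verschiebung a * verschiebung b = (p : 𝕎 R) * verschiebung (a * b) := by
  rw [← verschiebung_mul_frobenius, frobenius_verschiebung, ← mul_assoc, mul_comm _ (p : 𝕎 R), ← nsmul_eq_mul, map_nsmul,
    nsmul_eq_mul]

theorem pow_succ_ker (n : ℕ) :
    RingHom.ker (constantCoeff : 𝕎 R →+* R) ^ (n + 1) =
      Ideal.span {(p : 𝕎 R) ^ n} * RingHom.ker (constantCoeff : 𝕎 R →+* R) := by
  set I := RingHom.ker (constantCoeff : 𝕎 R →+* R)
  have h2 : I * I = Ideal.span {(p : 𝕎 R)} * I := by
    refine le_antisymm (Ideal.mul_le.mpr fun x hx y hy => ?_) ?_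
    · obtain ⟨a, rfl⟩ := mem_ker_constantCoeff_iff.mp hx
      obtain ⟨b, rfl⟩ := mem_ker_constantCoeff_iff.mp hy
      rw [verschiebung_mul_verschiebung]
      exact Ideal.mul_mem_mul (Ideal.mem_span_singleton_self _) (mem_ker_constantCoeff_iff.mpr ⟨_, rfl⟩)
    · refine Ideal.mul_le.mpr fun x hx y hy => ?_
      obtain ⟨a, rfl⟩ := Ideal.mem_span_singleton'.mp hx
      obtain ⟨b, rfl⟩ := mem_ker_constantCoeff_iff.mp hy
      rw [mul_assoc]
      refine Ideal.mul_mem_left _ _ ?_
      have := verschiebung_mul_verschiebung (p := p) (1 : 𝕎 R) b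
      rw [one_mul] at this
      rw [← this]
      exact Ideal.mul_mem_mul (mem_ker_constantCoeff_iff.mpr ⟨_, rfl⟩) hy
  induction n with
  | zero => rw [pow_zero, Ideal.span_singleton_one, zero_add, pow_one, Ideal.top_mul]
  | succ n ih => rw [pow_succ, ih, mul_assoc, h2, ← mul_assoc, Ideal.span_singleton_mul_span_singleton, ← pow_succ]

section Ker

variable [IsAdicComplete (Ideal.span {(p : R)}) R]

theorem isHausdorff_ker : IsHausdorff (RingHom.ker (constantCoeff : 𝕎 R →+* R)) (𝕎 R) := by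
  refine ⟨fun x h => ?_⟩
  refine IsHausdorff.haus (isHausdorff_span_p (p := p) (R := R)) x fun n => ?_
  rw [SModEq.sub_mem, smul_eq_mul, Ideal.mul_top, Ideal.span_singleton_pow]
  have h2 : RingHom.ker (constantCoeff : 𝕎 R →+* R) ^ (n + 1) ≤ Ideal.span {(p : 𝕎 R) ^ n} :=
    (pow_succ_ker n).trans_le Ideal.mul_le_left
  have h1 := SModEq.sub_mem.mp (h (n + 1))
  rw [smul_eq_mul, Ideal.mul_top] at h1
  exact h2 h1

theorem isPrecomplete_ker : IsPrecomplete (RingHom.ker (constantCoeff : 𝕎 R →+* R)) (𝕎 R) := by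
  refine ⟨fun f hf => ?_⟩
  have : ∀ k, ∃ d, f (k + 2) = f (k + 1) + (p : 𝕎 R) ^ k * verschiebung d := by
    intro k
    have := (hf (Nat.le_succ (k + 1))).symm
    rw [SModEq.sub_mem, smul_eq_mul, Ideal.mul_top, pow_succ_ker, Ideal.mem_span_singleton_mul] at this
    obtain ⟨z, hz, hz'⟩ := this
    obtain ⟨d, rfl⟩ := mem_ker_constantCoeff_iff.mp hz
    exact ⟨d, by linear_combination -hz'⟩
  choose d hd using this
  obtain ⟨T, hT⟩ := exists_tails d
  have key : ∀ n, f 1 + verschiebung (T 0) = f (n + 1) + (p : 𝕎 R) ^ n * verschiebung (T n) := by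
    intro n
    induction n with
    | zero => simp
    | succ n ih =>
      rw [ih, hT n, map_add, hd n, ← nsmul_eq_mul, map_nsmul, nsmul_eq_mul]
      ring
  refine ⟨f 1 + verschiebung (T 0), fun n => ?_⟩
  cases n with
  | zero => simp [SModEq.sub_mem]
  | succ n =>
    rw [SModEq.sub_mem, smul_eq_mul, Ideal.mul_top, pow_succ_ker, Ideal.mem_span_singleton_mul, key n]
    exact ⟨-verschiebung (T n), neg_mem (mem_ker_constantCoeff_iff.mpr ⟨_, rfl⟩), by ring⟩

theorem isAdicComplete_ker : IsAdicComplete (RingHom.ker (constantCoeff : 𝕎 R →+* R)) (𝕎 R) :=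
  { toIsHausdorff := isHausdorff_ker, toIsPrecomplete := isPrecomplete_ker }

end Ker

end Groth.Agent.CAlgH.WittAdic
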