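import Groth.Agent.CAlgH.WittAdic
import Groth.Agent.S14856

universe u

namespace Groth.Agent.CAlgH.WittAdic

open WittVector

variable {p : ℕ} [Fact p.Prime] {R : Type u} [CommRing R]
variable (hR : ∀ y : R, (p : R) * y = 0 → y = 0)

local notation "𝕎" => WittVector p

include hR in
/-- Division by `p ^ n` in truncated Witt vectors of a torsion-free ring. -/
theorem proj_cancel {m n s : ℕ} (hs : 1 ≤ s) {d : 𝕎 R} (h : proj m (s + n) ((p : 𝕎 R) ^ n * d) = 0) :
    proj m s d = 0 := by
  rcases Nat.eq_zero_or_pos m with rfl | hm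
  · exact proj_eq_zero_iff.mpr fun i hi => absurd hi (Nat.not_lt_zero i)
  have h' : ∀ i ≤ m - 1, (p : R) ^ (s + n) ∣ ((p : 𝕎 R) ^ n * d).coeff i := fun i hi =>
    Ideal.mem_span_singleton.mp (proj_eq_zero_iff.mp h i (by omega))
  have hg := (Groth.Agent.S14856.result p R hR _ (m - 1) (s + n) (by omega)).mp h'
  have hcancel : ∀ (k : ℕ) (y : R), (p : R) ^ k * y = 0 → y = 0 := by
    intro k
    induction k with
    | zero => simp
    | succ k ihk => intro y hy; exact ihk y (hR _ (by rw [← mul_assoc, ← pow_succ']; exact hy))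
  have hd := (Groth.Agent.S14856.result p R hR d (m - 1) s hs).mpr fun k hk => by
    obtain ⟨c, hc⟩ := hg k hk
    rw [map_mul, map_pow, map_natCast] at hc
    refine ⟨c, sub_eq_zero.mp (hcancel n _ ?_)⟩
    rw [show k + (s + n) = n + (k + s) by ring, pow_add, mul_assoc] at hc
    rw [mul_sub, hc, sub_self]
  exact proj_eq_zero_iff.mpr fun i hi => Ideal.mem_span_singleton.mpr (hd i (by omega))

variable [IsAdicComplete (Ideal.span {(p : R)}) R]

theorem coeff_eq_zero_of_proj {m : ℕ} {x : 𝕎 R} (h : ∀ s, proj m s x = 0) : ∀ i < m, x.coeff i = 0 := fun i hi => by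
  refine IsHausdorff.haus (inferInstance : IsHausdorff (Ideal.span {(p : R)}) R) _ fun s => ?_
  rw [SModEq.zero, smul_eq_mul, Ideal.mul_top, Ideal.span_singleton_pow]
  exact proj_eq_zero_iff.mp (h s) i hi

include hR in
theorem exists_solution (a : 𝕎 R) (m n : ℕ) (h : ∀ s, ∃ z, proj m s ((p : 𝕎 R) ^ n * z - a) = 0) :
    ∃ x : 𝕎 R, ∀ i < m, ((p : 𝕎 R) ^ n * x - a).coeff i = 0 := by
  choose z hz using h
  have hmono : ∀ {s t : ℕ} {y : 𝕎 R}, s ≤ t → proj m t y = 0 → proj m s y = 0 := fun {s t y} hst hy =>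
    proj_eq_zero_iff.mpr fun i hi =>
      Ideal.span_singleton_le_span_singleton.mpr (pow_dvd_pow _ hst) (proj_eq_zero_iff.mp hy i hi)
  let y : ℕ → 𝕎 R := fun s => z (s + 1 + n)
  have hy : ∀ {s t : ℕ}, s ≤ t → proj m s (y s) = proj m s (y t) := by
    intro s t hst
    refine sub_eq_zero.mp ((map_sub (proj m s) _ _).symm.trans (hmono (Nat.le_succ s) (proj_cancel hR (by omega) (n := n) ?_)))
    have h1 := hz (s + 1 + n)
    have h2 := hmono (by omega : s + 1 + n ≤ t + 1 + n) (hz (t + 1 + n))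
    rw [show (p : 𝕎 R) ^ n * (y s - y t) = ((p : 𝕎 R) ^ n * y s - a) - ((p : 𝕎 R) ^ n * y t - a) by ring, map_sub,
      h1, h2, sub_zero]
  have hc : ∀ (i : ℕ) {s t : ℕ}, s ≤ t →
      (if i < m then (y s).coeff i else 0) ≡ (if i < m then (y t).coeff i else 0)
        [SMOD (Ideal.span {(p : R)} ^ s • ⊤ : Submodule R R)] := by
    intro i s t hst
    rw [SModEq.sub_mem, smul_eq_mul, Ideal.mul_top, Ideal.span_singleton_pow]
    split_ifs with hi
    · exact proj_eq_iff.mp (hy hst) i hi
    · simp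
  choose L hL using fun i => IsPrecomplete.prec (inferInstance : IsPrecomplete (Ideal.span {(p : R)}) R) (hc i)
  refine ⟨WittVector.mk p L, coeff_eq_zero_of_proj fun s => ?_⟩
  have hx : proj m s (WittVector.mk p L) = proj m s (y s) := by
    refine proj_eq_iff.mpr fun i hi => ?_
    have := hL i s
    rw [SModEq.sub_mem, smul_eq_mul, Ideal.mul_top, Ideal.span_singleton_pow, if_pos hi] at this
    simpa using neg_mem this
  rw [map_sub, map_mul, hx, ← map_mul, ← map_sub]
  exact hmono (by omega) (hz (s + 1 + n))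

end Groth.Agent.CAlgH.WittAdic
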