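import Mathlib

/-!
Witt vectors over a nil thickening: gluing along truncations, units, idempotent lifting.
-/

universe u

namespace Groth.Agent.CAlgH.WittLift

open WittVector

variable {p : ℕ} [hp : Fact p.Prime] {S : Type u} [CommRing S]

theorem eq_of_truncate {x y : (WittVector p S)} (h : ∀ m, truncate m x = truncate m y) : x = y := by
  ext i
  have := congrArg (fun t : TruncatedWittVector p (i + 1) S => t.coeff ⟨i, Nat.lt_succ_self i⟩) (h (i + 1))
  simpa [WittVector.truncate, coeff_truncateFun] using this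

/-- A sequence that is eventually constant in every truncation has a limit. -/
theorem exists_limit (a : ℕ → (WittVector p S)) (h : ∀ m, ∃ N, ∀ k, N ≤ k → truncate m (a k) = truncate m (a N)) :
    ∃ L : (WittVector p S), ∀ m, ∃ N, ∀ k, N ≤ k → truncate m (a k) = truncate m L := by
  choose N hN using h
  refine ⟨WittVector.mk p fun i => (a (N (i + 1))).coeff i, fun m => ⟨N m, fun k hk => ?_⟩⟩
  rw [hN m k hk]
  ext ⟨i, hi⟩
  simp only [WittVector.truncate, RingHom.coe_mk, MonoidHom.coe_mk, OneHom.coe_mk, coeff_truncateFun, coeff_mk]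
  have h1 := congrArg (fun t : TruncatedWittVector p (i + 1) S => t.coeff ⟨i, Nat.lt_succ_self i⟩)
    (hN (i + 1) (max (N m) (N (i + 1))) (le_max_right _ _))
  have h2 := congrArg (fun t : TruncatedWittVector p m S => t.coeff ⟨i, hi⟩)
    (hN m (max (N m) (N (i + 1))) (le_max_left _ _))
  simp only [WittVector.truncate, RingHom.coe_mk, MonoidHom.coe_mk, OneHom.coe_mk, coeff_truncateFun] at h1 h2
  exact h2.symm.trans h1

theorem coeff_iterate_verschiebung_mul (m : ℕ) (y z : (WittVector p S)) :
    ((verschiebung^[m]) y * z).coeff m = y.coeff 0 * ghostComponent m z := by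
  have hF : ∀ (m : ℕ) (z : (WittVector p S)), ((⇑(frobenius : (WittVector p S) →+* (WittVector p S)))^[m] z).coeff 0 = ghostComponent m z := by
    intro m
    induction m with
    | zero => intro z; simp [ghostComponent_apply, wittPolynomial_zero]
    | succ m ih =>
      intro z
      rw [Function.iterate_succ_apply, ih, ghostComponent_frobenius]
  rw [iterate_verschiebung_mul_left]
  have := iterate_verschiebung_coeff (y * ((⇑(frobenius : (WittVector p S) →+* (WittVector p S)))^[m] z)) m 0
  rw [zero_add] at this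
  rw [this, ← constantCoeff_apply, map_mul, constantCoeff_apply, constantCoeff_apply, hF]

variable (I : Ideal ((WittVector p S)))

/-- Elements whose coefficients are nilpotent along an ideal become nilpotent in every truncation. -/
theorem exists_pow_mem_ker (hI : ∀ x ∈ I, ∀ i, IsNilpotent (x.coeff i)) {x : (WittVector p S)} (hx : x ∈ I) :
    ∀ m, ∃ N, 0 < N ∧ truncate m (x ^ N) = 0 := by
  intro m
  induction m with
  | zero => exact ⟨1, one_pos, TruncatedWittVector.ext fun i => i.elim0⟩
  | succ m ih =>
    obtain ⟨N, hN, hker⟩ := ih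
    rw [← RingHom.mem_ker, mem_ker_truncate] at hker
    set y := (x ^ N).shift m
    have hy : x ^ N = (verschiebung^[m]) y := eq_iterate_verschiebung hker
    obtain ⟨L, hL⟩ := hI _ (I.pow_mem_of_mem hx N hN) m
    have hy0 : (x ^ N).coeff m = y.coeff 0 := by simp [y, shift_coeff]
    rw [hy0] at hL
    refine ⟨N * (L + 1), Nat.mul_pos hN (Nat.succ_pos L), ?_⟩
    rw [← RingHom.mem_ker, mem_ker_truncate]
    intro i hi
    rw [pow_mul, pow_succ' (x ^ N) L]
    rcases Nat.lt_succ_iff_lt_or_eq.mp hi with h | h
    · exact (mem_ker_truncate m _).mp ((RingHom.ker (truncate m)).mul_mem_right _ ((mem_ker_truncate m _).mpr hker)) i h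
    · subst h
      nth_rw 1 [hy]
      rw [coeff_iterate_verschiebung_mul, map_pow, hy]
      have := coeff_iterate_verschiebung_mul i y (1 : (WittVector p S))
      rw [mul_one, map_one, mul_one] at this
      rw [show ghostComponent i ((verschiebung^[i]) y) = (p : S) ^ i * y.coeff 0 from ?_, mul_pow, ← mul_assoc, mul_comm (y.coeff 0),
        mul_assoc, ← pow_succ', pow_succ, hL, zero_mul, mul_zero]
      rw [ghostComponent_apply, wittPolynomial_eq_sum_C_mul_X_pow, map_sum, Finset.sum_eq_single i]
      · simp [this]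
      · intro j hj hne
        have hji : j < i := by have := Finset.mem_range.mp hj; omega
        simp only [map_mul, map_pow, MvPolynomial.aeval_C, MvPolynomial.aeval_X]
        rw [← hy, hker j hji, zero_pow (pow_ne_zero _ hp.out.ne_zero), mul_zero]
      · simp

theorem le_jacobson (hI : ∀ x ∈ I, ∀ i, IsNilpotent (x.coeff i)) : I ≤ Ideal.jacobson ⊥ := by
  intro x hx
  rw [Ideal.mem_jacobson_bot]
  intro z
  have hxz : x * z ∈ I := I.mul_mem_right _ hx
  set w := x * z
  let a : ℕ → (WittVector p S) := fun k => ∑ l ∈ Finset.range k, (-w) ^ l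
  have hst : ∀ m, ∃ N, ∀ k, N ≤ k → truncate m (a k) = truncate m (a N) := by
    intro m
    obtain ⟨N, -, hN⟩ := exists_pow_mem_ker I hI hxz m
    refine ⟨N, fun k hk => ?_⟩
    simp only [a]
    rw [← Finset.sum_range_add_sum_Ico _ hk, map_add, map_sum (truncate m) _ (Finset.Ico N k),
      Finset.sum_eq_zero (s := Finset.Ico N k), add_zero]
    intro l hl
    rw [neg_pow, map_mul, show l = N + (l - N) by have := (Finset.mem_Ico.mp hl).1; omega, pow_add w, map_mul, hN,
      zero_mul, mul_zero]
  obtain ⟨L, hL⟩ := exists_limit a hst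
  refine isUnit_iff_exists_inv.mpr ⟨L, eq_of_truncate fun m => ?_⟩
  obtain ⟨N, hN⟩ := hL m
  obtain ⟨M, -, hM⟩ := exists_pow_mem_ker I hI hxz m
  rw [map_mul, ← hN (max N M) (le_max_left _ _), ← map_mul]
  have : (w + 1) * a (max N M) = 1 - (-w) ^ max N M := by
    rw [← mul_neg_geom_sum (-w) (max N M), sub_neg_eq_add, add_comm]
  rw [this, map_sub, neg_pow, map_mul, show max N M = M + (max N M - M) by omega, pow_add w, map_mul, hM, zero_mul,
    mul_zero, sub_zero]

/-- Newton lifting of idempotent matrices. -/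
theorem exists_idempotent (hI : ∀ x ∈ I, ∀ i, IsNilpotent (x.coeff i)) {ι : Type*} [Fintype ι] [DecidableEq ι]
    (E : Matrix ι ι ((WittVector p S))) (hE : ∀ i j, (E * E - E) i j ∈ I) :
    ∃ E' : Matrix ι ι ((WittVector p S)), IsIdempotentElem E' ∧ ∀ i j m, ∃ w ∈ I, truncate m ((E' - E) i j) = truncate m w := by
  let f : Matrix ι ι ((WittVector p S)) → Matrix ι ι ((WittVector p S)) := fun A => 3 • A ^ 2 - 2 • A ^ 3
  let A : ℕ → Matrix ι ι ((WittVector p S)) := fun k => f^[k] E
  let M := Ideal.matrix ι I
  have hfM : ∀ B : Matrix ι ι ((WittVector p S)), f B - B = (1 - 2 • B) * (B * B - B) := fun B => by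
    simp only [f, pow_succ, pow_zero, one_mul, sub_mul, mul_sub, smul_mul_assoc, mul_assoc]
    module
  have hsq : ∀ B : Matrix ι ι ((WittVector p S)), f B * f B - f B =
      (4 • (B * B - B) - 3 • (1 : Matrix ι ι ((WittVector p S)))) * ((B * B - B) * (B * B - B)) := fun B => by
    simp only [f, pow_succ, pow_zero, one_mul, sub_mul, mul_sub, smul_mul_assoc, mul_smul_comm, smul_sub, mul_assoc]
    module
  have hclose : ∀ k, (∀ i j, (A k - E) i j ∈ I) ∧ ∃ B, A k * A k - A k = B * (E * E - E) ^ (2 ^ k) ∧ Commute B (E * E - E) ∧ Commute (A k) (E * E - E) := by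
    intro k
    induction k with
    | zero =>
      refine ⟨fun i j => by simp [A], 1, by simp [A], Commute.one_left _, ?_⟩
      exact ((Commute.refl E).mul_right (Commute.refl E)).sub_right (Commute.refl E)
    | succ k ih =>
      obtain ⟨h1, B, hB, hBc, hAc⟩ := ih
      have hAk : A (k + 1) = f (A k) := Function.iterate_succ_apply' f k E
      have hmem : ∀ (X Y : Matrix ι ι ((WittVector p S))), (∀ i j, Y i j ∈ I) → ∀ i j, (X * Y) i j ∈ I := fun X Y hY i j => by
        rw [Matrix.mul_apply]; exact sum_mem fun l _ => I.mul_mem_left _ (hY l j)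
      have hz : ∀ i j, (A k * A k - A k) i j ∈ I := by
        rw [hB, show 2 ^ k = (2 ^ k - 1) + 1 by have := Nat.one_le_two_pow (n := k); omega, pow_succ, ← mul_assoc]
        exact hmem _ _ hE
      refine ⟨fun i j => ?_, (4 • (A k * A k - A k) - 3 • (1 : Matrix ι ι ((WittVector p S)))) * (B * B), ?_, ?_, ?_⟩
      · rw [← sub_add_sub_cancel (A (k + 1)) (A k) E, Matrix.add_apply, hAk, hfM]
        exact add_mem (hmem _ _ hz i j) (h1 i j)
      · rw [hAk, hsq, mul_assoc _ (B * B)]
        congr 1
        rw [hB, (hBc.pow_right _).symm.mul_mul_mul_comm, ← pow_add, ← two_mul, ← pow_succ']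
      · have : Commute (A k * A k - A k) (E * E - E) := (hAc.mul_left hAc).sub_left hAc
        exact ((this.smul_left 4).sub_left ((Commute.one_left _).smul_left 3)).mul_left (hBc.mul_left hBc)
      · rw [hAk]
        exact ((hAc.pow_left 2).smul_left 3).sub_left ((hAc.pow_left 3).smul_left 2)
  have hnil : ∀ m, ∃ N, ((truncate m).mapMatrix (E * E - E)) ^ N = 0 := by
    intro m
    let t := ((truncate m).mapMatrix (E * E - E))
    let J : Ideal (TruncatedWittVector p m S) := Ideal.span (Set.range fun ij : ι × ι => t ij.1 ij.2)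
    have hJn : IsNilpotent J := by
      refine Ideal.FG.isNilpotent_iff_le_nilradical (Submodule.fg_span (Set.finite_range _)) |>.mpr (Ideal.span_le.mpr ?_)
      rintro _ ⟨⟨i, j⟩, rfl⟩
      obtain ⟨N, -, hN⟩ := exists_pow_mem_ker I hI (hE i j) m
      exact ⟨N, by rw [map_pow] at hN; exact hN⟩
    obtain ⟨N, hN⟩ := hJn
    refine ⟨N, ?_⟩
    have hp' : ∀ k i j, (t ^ k) i j ∈ J ^ k := by
      intro k
      induction k with
      | zero => intro i j; rw [pow_zero (M := Ideal _), Ideal.one_eq_top]; trivial
      | succ k ihk =>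
        intro i j
        rw [pow_succ, pow_succ, Matrix.mul_apply]
        exact sum_mem fun l _ => Ideal.mul_mem_mul (ihk i l) (Ideal.subset_span ⟨(l, j), rfl⟩)
    ext1 i j
    have := hp' N i j
    rw [hN] at this
    exact (Ideal.mem_bot).mp this
  have hst : ∀ m, ∃ N, ((truncate m).mapMatrix (A N) * (truncate m).mapMatrix (A N) = (truncate m).mapMatrix (A N)) ∧
      ∀ k, N ≤ k → (truncate m).mapMatrix (A k) = (truncate m).mapMatrix (A N) := by
    intro m
    obtain ⟨N, hN⟩ := hnil m
    have hid : (truncate m).mapMatrix (A N * A N - A N) = 0 := by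
      obtain ⟨-, B, hB, -, -⟩ := hclose N
      rw [hB, map_mul, map_pow, show 2 ^ N = N + (2 ^ N - N) by have := (Nat.lt_two_pow_self (n := N)); omega, pow_add, hN,
        zero_mul, mul_zero]
    have hid' : (truncate m).mapMatrix (A N) * (truncate m).mapMatrix (A N) = (truncate m).mapMatrix (A N) := by
      rw [← sub_eq_zero, ← map_mul, ← map_sub]; exact hid
    refine ⟨N, hid', fun k hk => ?_⟩
    induction k, hk using Nat.le_induction with
    | base => rfl
    | succ k hk ih =>
      rw [show A (k + 1) = f (A k) from Function.iterate_succ_apply' f k E, ← sub_eq_zero, ← ih, ← map_sub, hfM,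
        map_mul]
      refine mul_eq_zero_of_right _ ?_
      rw [map_sub, map_mul, ih, hid', sub_self]
  choose N hNid hNst using hst
  have hlim : ∀ i j, ∃ L : (WittVector p S), ∀ m, ∃ K, ∀ k, K ≤ k → truncate m (A k i j) = truncate m L := fun i j =>
    exists_limit (fun k => A k i j) fun m => ⟨N m, fun k hk =>
      congrFun (congrFun (hNst m k hk) i) j⟩
  choose L hL using hlim
  have hLm : ∀ m, (truncate m).mapMatrix (Matrix.of L) = (truncate m).mapMatrix (A (N m)) := by
    intro m
    ext1 i j
    obtain ⟨K, hK⟩ := hL i j m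
    show truncate m (L i j) = _
    rw [← hK (max K (N m)) (le_max_left _ _)]
    exact congrFun (congrFun (hNst m _ (le_max_right _ _)) i) j
  refine ⟨Matrix.of L, ?_, fun i j m => ⟨(A (N m) - E) i j, (hclose (N m)).1 i j, ?_⟩⟩
  · ext1 i j
    refine eq_of_truncate fun m => ?_
    have := congrFun (congrFun (show (truncate m).mapMatrix (Matrix.of L * Matrix.of L) = (truncate m).mapMatrix (Matrix.of L) by
      rw [map_mul, hLm, hNid]) i) j
    simpa using this
  · have := congrFun (congrFun (hLm m) i) j
    simp only [RingHom.mapMatrix_apply, Matrix.map_apply] at this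
    simp only [Matrix.sub_apply, map_sub, this]

/-- Elements congruent in every truncation to the kernel of `map φ` lie in the kernel. -/
theorem map_eq_zero_of_truncate {R : Type*} [CommRing R] (φ : S →+* R) {x : WittVector p S}
    (h : ∀ m, ∃ w ∈ RingHom.ker (WittVector.map (p := p) φ), truncate m x = truncate m w) :
    WittVector.map (p := p) φ x = 0 := by
  ext i
  obtain ⟨w, hw, hxw⟩ := h (i + 1)
  have h1 := congrArg (fun t : TruncatedWittVector p (i + 1) S => t.coeff ⟨i, Nat.lt_succ_self i⟩) hxw
  simp only [WittVector.truncate, RingHom.coe_mk, MonoidHom.coe_mk, OneHom.coe_mk, coeff_truncateFun] at h1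
  rw [map_coeff, h1, ← map_coeff, RingHom.mem_ker.mp hw, zero_coeff]

theorem isNilpotent_coeff_of_mem_ker {R : Type*} [CommRing R] (φ : S →+* R)
    (hnil : ∀ a : S, φ a = 0 → IsNilpotent a) :
    ∀ x ∈ RingHom.ker (WittVector.map (p := p) φ), ∀ i, IsNilpotent (x.coeff i) := fun x hx i =>
  hnil _ (by rw [← map_coeff, RingHom.mem_ker.mp hx, zero_coeff])

end Groth.Agent.CAlgH.WittLift
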