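import Mathlib
import Groth.Agent.CAlgH.WittLift

/-! Witt vectors of a weakly cyclic extension. -/

universe u

namespace Groth.Agent.CAlgH.WittCyclic

open WittVector

variable {p : ℕ} [hp : Fact p.Prime] {R A B : Type u} [CommRing R] [CommRing A] [CommRing B]

theorem low_coeff (z : WittVector p R) (m : ℕ) : ∀ i, i < m →
    ((⇑(verschiebung : WittVector p R →+ WittVector p R))^[m] z).coeff i = 0 := by
  induction m with
  | zero => intro i hi; omega
  | succ m ih =>
    intro i hi
    rw [Function.iterate_succ_apply']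
    cases i with
    | zero => exact verschiebung_coeff_zero _
    | succ i => rw [verschiebung_coeff_succ]; exact ih i (by omega)

theorem truncate_iterate_verschiebung (z : WittVector p R) {m k : ℕ} (h : m ≤ k) :
    truncate m ((⇑(verschiebung : WittVector p R →+ WittVector p R))^[k] z) = 0 :=
  RingHom.mem_ker.mp ((mem_ker_truncate m _).mpr fun i hi => low_coeff z k i (by omega))

theorem iterate_frobenius_teichmuller [CharP R p] (x : R) (m : ℕ) :
    (⇑(frobenius : WittVector p R →+* WittVector p R))^[m] (teichmuller p x) = teichmuller p (x ^ p ^ m) := by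
  induction m with
  | zero => simp
  | succ m ih =>
    rw [Function.iterate_succ_apply', ih, frobenius_eq_map_frobenius, map_teichmuller, frobenius_def, ← pow_mul,
      ← pow_succ]

theorem iterate_verschiebung_sum {ι : Type*} (s : Finset ι) (g : ι → WittVector p R) (m : ℕ) :
    (⇑(verschiebung : WittVector p R →+ WittVector p R))^[m] (∑ i ∈ s, g i) =
      ∑ i ∈ s, (⇑(verschiebung : WittVector p R →+ WittVector p R))^[m] (g i) := by
  induction m with
  | zero => simp
  | succ m ih => simp only [Function.iterate_succ_apply', ih, map_sum]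

theorem map_iterate_verschiebung (f : A →+* B) (x : WittVector p A) (m : ℕ) :
    WittVector.map f ((⇑(verschiebung : WittVector p A →+ WittVector p A))^[m] x) =
      (⇑(verschiebung : WittVector p B →+ WittVector p B))^[m] (WittVector.map f x) := by
  induction m with
  | zero => rfl
  | succ m ih => rw [Function.iterate_succ_apply', Function.iterate_succ_apply', map_verschiebung, ih]

/-- For `y ^ ℓ ∈ A`, some fixed `c` moves `y` into `A * {y ^ u}_{u ≤ ℓ} ^ P` for all `P` prime to `ℓ`. -/
theorem exists_c [Nontrivial A] [IsDomain B] (f : A →+* B) (ℓ : ℕ) (hℓ : 0 < ℓ) (y : B)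
    (hy : y ^ ℓ ∈ Set.range f) :
    ∃ c : A, c ≠ 0 ∧ ∀ P : ℕ, 0 < P → P.Coprime ℓ →
      ∃ (β : A) (u : Fin (ℓ + 1)), f c ^ P * y = f β * (y ^ (u : ℕ)) ^ P := by
  rcases eq_or_ne y 0 with rfl | hy0
  · refine ⟨1, one_ne_zero, fun P hP _ => ⟨0, ⟨1, by omega⟩, ?_⟩⟩
    simp
  obtain ⟨c, hc⟩ := hy
  refine ⟨c, fun h => pow_ne_zero ℓ hy0 (by rw [← hc, h, map_zero]), fun P hP hcop => ?_⟩
  haveI : NeZero ℓ := ⟨hℓ.ne'⟩
  obtain ⟨u, hu1, hu2, hu⟩ : ∃ u, 1 ≤ u ∧ u ≤ ℓ ∧ ((u * P : ℕ) : ZMod ℓ) = 1 := by
    have h1 : ((P : ZMod ℓ)⁻¹.val * P : ℕ) = (1 : ZMod ℓ) := by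
      rw [Nat.cast_mul, ZMod.natCast_zmod_val, mul_comm, ZMod.coe_mul_inv_eq_one P hcop]
    rcases Nat.eq_zero_or_pos ((P : ZMod ℓ)⁻¹.val) with h0 | h0
    · refine ⟨ℓ, hℓ, le_rfl, ?_⟩
      rw [h0, zero_mul, Nat.cast_zero] at h1
      rw [Nat.cast_mul, ZMod.natCast_self, zero_mul, h1]
    · exact ⟨_, h0, (ZMod.val_lt _).le, h1⟩
  obtain ⟨j, hj⟩ : ℓ ∣ u * P - 1 := by
    rw [← ZMod.natCast_eq_zero_iff, Nat.cast_sub (Nat.mul_pos hu1 hP), hu, Nat.cast_one, sub_self]
  have hjP : j ≤ P := by
    refine Nat.le_of_mul_le_mul_left ?_ hℓ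
    rw [← hj]
    exact (Nat.sub_le _ _).trans (Nat.mul_le_mul_right P hu2)
  refine ⟨c ^ (P - j), ⟨u, by omega⟩, ?_⟩
  show f c ^ P * y = f (c ^ (P - j)) * (y ^ u) ^ P
  rw [← pow_mul, show u * P = ℓ * j + 1 by have := Nat.mul_pos hu1 hP; omega, pow_succ, pow_mul, ← hc, map_pow,
    ← mul_assoc, ← pow_add, Nat.sub_add_cancel hjP]

set_option maxHeartbeats 800000 in
theorem main (ℓ n : ℕ) (hℓ : 0 < ℓ) (hpℓ : ¬ p ∣ ℓ) [IsDomain A] [IsDomain B] [Algebra A B] [CharP B p]
    (y : Finset B) (hspan : Submodule.span A (y : Set B) = ⊤)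
    (hpow : ∀ b ∈ y, b ^ ℓ ∈ Set.range (algebraMap A B)) (η : WittVector p B) :
    ∃ (a : A), a ≠ 0 ∧ ∃ x : y × Fin (ℓ + 1) → WittVector p A,
      teichmuller p (algebraMap A B a) * (⇑(verschiebung : WittVector p B →+ WittVector p B))^[n] η =
        ∑ ι, WittVector.map (algebraMap A B) ((⇑(verschiebung : WittVector p A →+ WittVector p A))^[n] (x ι)) *
          teichmuller p ((ι.1 : B) ^ (ι.2 : ℕ)) := by
  classical
  choose c hc0 hc using fun i : y => exists_c (algebraMap A B) ℓ hℓ (i : B) (hpow i i.2)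
  set a := ∏ i, c i
  refine ⟨a, Finset.prod_ne_zero_iff.mpr fun i _ => hc0 i, ?_⟩
  have step : ∀ w : WittVector p B, ∃ (α : y → A) (w' : WittVector p B),
      w = ∑ i, teichmuller p (algebraMap A B (α i) * (i : B)) + verschiebung w' := by
    intro w
    obtain ⟨α, hα⟩ : ∃ α : y → A, ∑ i, α i • (i : B) = w.coeff 0 :=
      (Submodule.mem_span_range_iff_exists_fun A).mp (by
        rw [Subtype.range_coe_subtype, Finset.setOf_mem, hspan]; trivial)
    refine ⟨α, (w - ∑ i, teichmuller p (algebraMap A B (α i) * (i : B))).shift 1, ?_⟩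
    have h0 : ∀ j < 1, (w - ∑ i, teichmuller p (algebraMap A B (α i) * (i : B))).coeff j = 0 := by
      intro j hj
      obtain rfl : j = 0 := by omega
      rw [← constantCoeff_apply, map_sub, map_sum, constantCoeff_apply, ← hα, sub_eq_zero]
      refine Finset.sum_congr rfl fun i _ => ?_
      rw [constantCoeff_apply, teichmuller_coeff_zero, Algebra.smul_def]
    have h1 := eq_iterate_verschiebung h0
    rw [Function.iterate_one] at h1
    rw [← h1]; abel
  choose α w' hw using step
  let r : ℕ → WittVector p B := fun k => w'^[k] η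
  have hexp : ∀ k (i : y), ∃ (β : A) (u : Fin (ℓ + 1)),
      algebraMap A B a ^ p ^ (n + k) * (algebraMap A B (α (r k) i) * (i : B)) =
        algebraMap A B β * ((i : B) ^ (u : ℕ)) ^ p ^ (n + k) := by
    intro k i
    obtain ⟨β, u, hβ⟩ := hc i (p ^ (n + k)) (pow_pos hp.out.pos _)
      (Nat.Coprime.pow_left _ (hp.out.coprime_iff_not_dvd.mpr hpℓ))
    refine ⟨α (r k) i * (∏ j ∈ Finset.univ.erase i, c j) ^ p ^ (n + k) * β, u, ?_⟩
    rw [map_mul, map_mul, map_pow, mul_assoc (_ * _) (algebraMap A B β), ← hβ,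
      show a = c i * ∏ j ∈ Finset.univ.erase i, c j from (Finset.mul_prod_erase _ _ (Finset.mem_univ i)).symm, map_mul,
      mul_pow]
    ring
  choose β u hβ using hexp
  let T : ℕ → y × Fin (ℓ + 1) → WittVector p A := fun k ι =>
    if u k ι.1 = ι.2 then (⇑(verschiebung : WittVector p A →+ WittVector p A))^[k] (teichmuller p (β k ι.1)) else 0
  have hlim : ∀ ι, ∃ L : WittVector p A, ∀ m, ∃ N, ∀ k, N ≤ k →
      truncate m (∑ l ∈ Finset.range k, T l ι) = truncate m L := fun ι =>
    WittLift.exists_limit _ fun m => ⟨m, fun k hk => by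
      rw [← Finset.sum_range_add_sum_Ico _ hk, map_add, map_sum (truncate m) _ (Finset.Ico m k),
        Finset.sum_eq_zero (s := Finset.Ico m k), add_zero]
      intro l hl
      simp only [T]
      split
      · exact truncate_iterate_verschiebung _ (Finset.mem_Ico.mp hl).1
      · exact map_zero _⟩
  choose x hx using hlim
  refine ⟨x, ?_⟩
  rw [mul_comm, iterate_verschiebung_mul_left, iterate_frobenius_teichmuller, mul_comm]
  simp only [map_iterate_verschiebung, iterate_verschiebung_mul_left, iterate_frobenius_teichmuller,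
    ← iterate_verschiebung_sum]
  congr 1
  have hfin : ∀ m, teichmuller p (algebraMap A B a ^ p ^ n) * η =
      ∑ ι, WittVector.map (algebraMap A B) (∑ l ∈ Finset.range m, T l ι) *
          teichmuller p (((ι.1 : B) ^ (ι.2 : ℕ)) ^ p ^ n) +
        teichmuller p (algebraMap A B a ^ p ^ n) *
          (⇑(verschiebung : WittVector p B →+ WittVector p B))^[m] (r m) := by
    intro m
    induction m with
    | zero => simp [r]
    | succ m ih =>
      rw [ih]
      simp only [Finset.sum_range_succ, map_add, add_mul, Finset.sum_add_distrib]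
      rw [add_assoc]
      congr 1
      have hr : r m = ∑ i, teichmuller p (algebraMap A B (α (r m) i) * (i : B)) + verschiebung (r (m + 1)) := by
        simp only [r, Function.iterate_succ_apply']
        exact hw _
      conv_lhs => rw [hr]
      rw [iterate_map_add, mul_add, ← Function.iterate_succ_apply]
      congr 1
      rw [iterate_verschiebung_sum, Finset.mul_sum, Fintype.sum_prod_type]
      refine Finset.sum_congr rfl fun i _ => ?_
      rw [Finset.sum_eq_single (u m i)]
      · simp only [T, if_pos, map_iterate_verschiebung, map_teichmuller]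
        rw [mul_comm, iterate_verschiebung_mul_left, iterate_verschiebung_mul_left, iterate_frobenius_teichmuller,
          iterate_frobenius_teichmuller, ← map_mul, ← map_mul, ← pow_mul, ← pow_mul _ (p ^ n), ← pow_add,
          mul_comm _ (_ ^ p ^ (n + m)), hβ]
      · intro b _ hb
        simp only [T, if_neg hb.symm, map_zero, zero_mul]
      · simp
  refine WittLift.eq_of_truncate fun m => ?_
  choose N hN using fun ι => hx ι m
  set M := m + Finset.univ.sup N
  have e1 : truncate m (teichmuller p (algebraMap A B a ^ p ^ n) * η) =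
      truncate m (∑ ι, WittVector.map (algebraMap A B) (∑ l ∈ Finset.range M, T l ι) *
        teichmuller p (((ι.1 : B) ^ (ι.2 : ℕ)) ^ p ^ n)) := by
    rw [hfin M, map_add, map_mul _ _ ((⇑verschiebung)^[M] _), truncate_iterate_verschiebung _ (Nat.le_add_right m _),
      mul_zero, add_zero]
  rw [e1, map_sum, map_sum]
  refine Finset.sum_congr rfl fun ι _ => ?_
  rw [map_mul, map_mul]
  congr 1
  have h2 := hN ι M ((Finset.le_sup (Finset.mem_univ ι)).trans (Nat.le_add_left _ m))
  ext i
  have h3 := congrArg (fun t : TruncatedWittVector p m A => t.coeff i) h2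
  simp only [WittVector.truncate, RingHom.coe_mk, MonoidHom.coe_mk, OneHom.coe_mk, coeff_truncateFun] at h3 ⊢
  rw [map_coeff, map_coeff, h3]

end Groth.Agent.CAlgH.WittCyclic
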